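import Mathlib
import Cfsg.Agent.Mrg.Omega.TTn.DiCoreAbs

-- merged: Cfsg.Agent.Omega.S5.ChiConst
section

/-!
# Parts (3) and (4) of THEOREM B1 (helper429, bb OMEGA #13318; Lean by helper602)

`AA = a^N`, `H_c := W ∩ O c` for `c ∈ AA`. All `H_c` are equal: first for `c`, `d` with `[Wf c, d] ≠ 1`, then for all
`c`, `d` (the blocks of equal `H_c` are odd and a 2-group `T` with few fixed points acts).
-/

set_option autoImplicit false

namespace Cfsg.Agent.Omega.S5.ChiConst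

open Subgroup

variable {G : Type*} [Group G]

/-- the class of `a` under `N` -/
def cls (N : Subgroup G) (a : G) : Set G := {c | ∃ g ∈ N, c = g * a * g⁻¹}

/-- The data of (3) and (4). -/
structure Dat (n a b : G) (N U W : Subgroup G) (Wf O : G → Subgroup G) : Prop where
  nN : ∀ g ∈ N, g * n = n * g
  UN : ∀ g ∈ N, ∀ u ∈ U, g * u * g⁻¹ ∈ U
  Ucomm : ∀ u ∈ U, ∀ v ∈ U, u * v = v * u
  Usq : ∀ u ∈ U, u * u = 1
  nU : n ∈ U
  aU : a ∈ U
  WN : ∀ g ∈ N, ∀ y ∈ W, g * y * g⁻¹ ∈ W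
  WfN : ∀ w ∈ Wf a, w ∈ N
  Wf_eqv : ∀ g ∈ N, ∀ c ∈ cls N a, ∀ w ∈ Wf c, g * w * g⁻¹ ∈ Wf (g * c * g⁻¹)
  O_eqv : ∀ g ∈ N, ∀ c ∈ cls N a, ∀ y ∈ O c, g * y * g⁻¹ ∈ O (g * c * g⁻¹)
  /-- (A1) -/
  act : ∀ w ∈ Wf a, ∀ u ∈ U, w * u * w⁻¹ = u ∨ w * u * w⁻¹ = u * a
  /-- (A2) -/
  sym : ∀ c ∈ cls N a, ∀ d ∈ cls N a, (∃ w ∈ Wf c, w * d ≠ d * w) → ∃ w ∈ Wf d, w * c ≠ c * w
  /-- (A3) -/
  idx : ∀ y ∈ W, ∀ y' ∈ W, y ∉ O a → y' ∉ O a → y * y' ∈ O a
  out : ∃ y ∈ W, y ∉ O a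
  /-- (A4) -/
  hyp : ∀ y ∈ W, y ∈ O a → ∀ w ∈ Wf a, w * y * w⁻¹ = y ∨ w * y * w⁻¹ = y * a
  /-- (A5) -/
  aW : a ∈ W
  aO : ∀ c ∈ cls N a, a ∈ O c
  /-- (A6) -/
  bA : b ∈ cls N a
  bO : ∀ y ∈ W, y ∈ O b ↔ y ∈ O a
  abO : ∀ y ∈ W, y ∈ O (a * b) ↔ y ∈ O a
  mov : ∃ w ∈ Wf a, w * b ≠ b * w
  /-- (A8) -/
  eight : ∀ d ∈ cls N a, (∃ w ∈ Wf a, w * d ≠ d * w) → ∀ w ∈ Wf a, (w * d = d * w ↔ w * b = b * w)

namespace Dat

variable {n a b : G} {N U W : Subgroup G} {Wf O : G → Subgroup G}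

theorem cls_conj {c g : G} (hc : c ∈ cls N a) (hg : g ∈ N) : g * c * g⁻¹ ∈ cls N a := by
  obtain ⟨k, hk, rfl⟩ := hc
  exact ⟨g * k, mul_mem hg hk, by group⟩

theorem cls_conj' {c g : G} (hc : c ∈ cls N a) (hg : g ∈ N) : g⁻¹ * c * g ∈ cls N a := by
  have := cls_conj hc (inv_mem hg)
  rwa [inv_inv] at this

theorem a_cls : a ∈ cls N a := ⟨1, one_mem _, by group⟩

theorem cls_U (h : Dat n a b N U W Wf O) {c : G} (hc : c ∈ cls N a) : c ∈ U := by
  obtain ⟨k, hk, rfl⟩ := hc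
  exact h.UN k hk a h.aU

theorem UN' (h : Dat n a b N U W Wf O) {g u : G} (hg : g ∈ N) (hu : u ∈ U) : g⁻¹ * u * g ∈ U := by
  have := h.UN g⁻¹ (inv_mem hg) u hu
  rwa [inv_inv] at this

theorem WN' (h : Dat n a b N U W Wf O) {g u : G} (hg : g ∈ N) (hu : u ∈ W) : g⁻¹ * u * g ∈ W := by
  have := h.WN g⁻¹ (inv_mem hg) u hu
  rwa [inv_inv] at this

/-- `Wf` back to `a` -/
theorem Wf_back (h : Dat n a b N U W Wf O) {g w : G} (hg : g ∈ N) (hw : w ∈ Wf (g * a * g⁻¹)) :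
    g⁻¹ * w * g ∈ Wf a := by
  have := h.Wf_eqv g⁻¹ (inv_mem hg) _ ⟨g, hg, rfl⟩ w hw
  have e : g⁻¹ * (g * a * g⁻¹) * g⁻¹⁻¹ = a := by group
  rwa [e, inv_inv] at this

theorem WfN' (h : Dat n a b N U W Wf O) {c w : G} (hc : c ∈ cls N a) (hw : w ∈ Wf c) : w ∈ N := by
  obtain ⟨g, hg, rfl⟩ := hc
  have := mul_mem (mul_mem hg (h.WfN _ (h.Wf_back hg hw))) (inv_mem hg)
  have e : g * (g⁻¹ * w * g) * g⁻¹ = w := by group
  rwa [e] at this

theorem act' (h : Dat n a b N U W Wf O) {c w u : G} (hc : c ∈ cls N a) (hw : w ∈ Wf c) (hu : u ∈ U) :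
    w * u * w⁻¹ = u ∨ w * u * w⁻¹ = u * c := by
  obtain ⟨g, hg, rfl⟩ := hc
  rcases h.act _ (h.Wf_back hg hw) _ (h.UN' hg hu) with e | e
  · left
    calc w * u * w⁻¹ = g * (g⁻¹ * w * g * (g⁻¹ * u * g) * (g⁻¹ * w * g)⁻¹) * g⁻¹ := by group
      _ = u := by rw [e]; group
  · right
    calc w * u * w⁻¹ = g * (g⁻¹ * w * g * (g⁻¹ * u * g) * (g⁻¹ * w * g)⁻¹) * g⁻¹ := by group
      _ = u * (g * a * g⁻¹) := by rw [e]; group

theorem move (h : Dat n a b N U W Wf O) {c w u : G} (hc : c ∈ cls N a) (hw : w ∈ Wf c) (hu : u ∈ U)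
    (hm : w * u ≠ u * w) : w * u * w⁻¹ = u * c :=
  (h.act' hc hw hu).resolve_left fun e => hm (by
    calc w * u = w * u * w⁻¹ * w := by group
      _ = u * w := by rw [e])

theorem conj_eq {w u : G} (h : w * u = u * w) : w * u * w⁻¹ = u := by rw [h]; group

/-- `y ∈ O c` and conjugation -/
theorem O_iff (h : Dat n a b N U W Wf O) {g c y : G} (hg : g ∈ N) (hc : c ∈ cls N a) :
    g⁻¹ * y * g ∈ O c ↔ y ∈ O (g * c * g⁻¹) := by
  constructor
  · intro hy
    have := h.O_eqv g hg c hc _ hy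
    have e : g * (g⁻¹ * y * g) * g⁻¹ = y := by group
    rwa [e] at this
  · intro hy
    have := h.O_eqv g⁻¹ (inv_mem hg) _ (cls_conj hc hg) _ hy
    have e : g⁻¹ * (g * c * g⁻¹) * g⁻¹⁻¹ = c := by group
    rwa [e, inv_inv] at this

theorem idx' (h : Dat n a b N U W Wf O) {c y y' : G} (hc : c ∈ cls N a) (hy : y ∈ W) (hy' : y' ∈ W)
    (h1 : y ∉ O c) (h2 : y' ∉ O c) : y * y' ∈ O c := by
  obtain ⟨g, hg, rfl⟩ := hc
  rw [← h.O_iff hg a_cls] at h1 h2 ⊢
  have := h.idx _ (h.WN' hg hy) _ (h.WN' hg hy') h1 h2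
  have e : g⁻¹ * y * g * (g⁻¹ * y' * g) = g⁻¹ * (y * y') * g := by group
  rwa [e] at this

theorem out' (h : Dat n a b N U W Wf O) {c : G} (hc : c ∈ cls N a) : ∃ y ∈ W, y ∉ O c := by
  obtain ⟨g, hg, rfl⟩ := hc
  obtain ⟨y, hy, hyO⟩ := h.out
  refine ⟨g * y * g⁻¹, h.WN g hg y hy, ?_⟩
  rw [← h.O_iff hg a_cls]
  have e : g⁻¹ * (g * y * g⁻¹) * g = y := by group
  rwa [e]

theorem hyp' (h : Dat n a b N U W Wf O) {c y w : G} (hc : c ∈ cls N a) (hy : y ∈ W) (hyO : y ∈ O c)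
    (hw : w ∈ Wf c) : w * y * w⁻¹ = y ∨ w * y * w⁻¹ = y * c := by
  obtain ⟨g, hg, rfl⟩ := hc
  rcases h.hyp _ (h.WN' hg hy) ((h.O_iff hg a_cls).mpr hyO) _ (h.Wf_back hg hw) with e | e
  · left
    calc w * y * w⁻¹ = g * (g⁻¹ * w * g * (g⁻¹ * y * g) * (g⁻¹ * w * g)⁻¹) * g⁻¹ := by group
      _ = y := by rw [e]; group
  · right
    calc w * y * w⁻¹ = g * (g⁻¹ * w * g * (g⁻¹ * y * g) * (g⁻¹ * w * g)⁻¹) * g⁻¹ := by group
      _ = y * (g * a * g⁻¹) := by rw [e]; group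

theorem dO (h : Dat n a b N U W Wf O) {c d : G} (hc : c ∈ cls N a) (hd : d ∈ cls N a) : d ∈ O c := by
  obtain ⟨g, hg, rfl⟩ := hd
  have h1 := h.O_eqv g hg _ (cls_conj' hc hg) _ (h.aO _ (cls_conj' hc hg))
  have e : g * (g⁻¹ * c * g) * g⁻¹ = c := by group
  rwa [e] at h1

theorem cW (h : Dat n a b N U W Wf O) {d : G} (hd : d ∈ cls N a) : d ∈ W := by
  obtain ⟨g, hg, rfl⟩ := hd
  exact h.WN g hg a h.aW

/-- on `H_c` the characters of `d` and of `w d w⁻¹` agree, `w ∈ Wf c` -/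
theorem O_move (h : Dat n a b N U W Wf O) {c d w y : G} (hc : c ∈ cls N a) (hd : d ∈ cls N a)
    (hw : w ∈ Wf c) (hy : y ∈ W) (hyO : y ∈ O c) : y ∈ O (w * d * w⁻¹) ↔ y ∈ O d := by
  rw [← h.O_iff (h.WfN' hc hw) hd]
  have h1 := h.hyp' hc hy hyO (inv_mem hw)
  rw [inv_inv] at h1
  rcases h1 with e | e
  · rw [e]
  · rw [e, Subgroup.mul_mem_cancel_right _ (h.dO hd hc)]

/-- (A8) for all `c` -/
theorem eight' (h : Dat n a b N U W Wf O) {c d d' w w₁ w₂ : G} (hc : c ∈ cls N a) (hd : d ∈ cls N a)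
    (hd' : d' ∈ cls N a) (hw₁ : w₁ ∈ Wf c) (h₁ : w₁ * d ≠ d * w₁) (hw₂ : w₂ ∈ Wf c)
    (h₂ : w₂ * d' ≠ d' * w₂) (hw : w ∈ Wf c) : w * d = d * w ↔ w * d' = d' * w := by
  obtain ⟨g, hg, rfl⟩ := hc
  have key : ∀ v e : G, (g⁻¹ * v * g) * (g⁻¹ * e * g) = (g⁻¹ * e * g) * (g⁻¹ * v * g) ↔ v * e = e * v := by
    intro v e
    constructor
    · intro h0
      calc v * e = g * ((g⁻¹ * v * g) * (g⁻¹ * e * g)) * g⁻¹ := by group
        _ = e * v := by rw [h0]; group
    · intro h0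
      calc (g⁻¹ * v * g) * (g⁻¹ * e * g) = g⁻¹ * (v * e) * g := by group
        _ = (g⁻¹ * e * g) * (g⁻¹ * v * g) := by rw [h0]; group
  have e1 := h.eight _ (cls_conj' hd hg) ⟨_, h.Wf_back hg hw₁, fun h0 => h₁ ((key _ _).mp h0)⟩ _
    (h.Wf_back hg hw)
  have e2 := h.eight _ (cls_conj' hd' hg) ⟨_, h.Wf_back hg hw₂, fun h0 => h₂ ((key _ _).mp h0)⟩ _
    (h.Wf_back hg hw)
  rw [key] at e1 e2
  exact e1.trans e2.symm

/-- equal characters -/
def Same (W : Subgroup G) (O : G → Subgroup G) (c d : G) : Prop := ∀ y ∈ W, y ∈ O c ↔ y ∈ O d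

/-- `χ_{da} = χ_d + χ_a` -/
theorem chi_add (h : Dat n a b N U W Wf O) {d w : G} (hd : d ∈ cls N a) (hw : w ∈ Wf a)
    (hm : w * d ≠ d * w) (hne : ¬ Same W O d a) :
    ∀ y ∈ W, y ∈ O (d * a) ↔ (y ∈ O a ↔ y ∈ O d) := by
  have hdU := h.cls_U hd
  have e1 : w * d * w⁻¹ = d * a := h.move a_cls hw hdU hm
  obtain ⟨v, hv, hvm⟩ := h.sym a a_cls d hd ⟨w, hw, hm⟩
  have e2 : v * a * v⁻¹ = d * a := by
    rw [h.move hd hv h.aU hvm, h.Ucomm a h.aU d hdU]
  have h1 : ∀ y ∈ W, y ∈ O a → (y ∈ O (d * a) ↔ y ∈ O d) := by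
    intro y hy hyO
    rw [← e1]
    exact h.O_move a_cls hd hw hy hyO
  have h2 : ∀ y ∈ W, y ∈ O d → (y ∈ O (d * a) ↔ y ∈ O a) := by
    intro y hy hyO
    rw [← e2]
    exact h.O_move hd a_cls hv hy hyO
  have h3 : ∃ y ∈ W, y ∉ O (d * a) ∧ y ∉ O d ∧ y ∈ O a := by
    by_contra hno
    push Not at hno
    apply hne
    have h4 : ∀ y ∈ W, y ∈ O a → y ∈ O d := by
      intro y hy hya
      by_contra hyd
      exact hyd ((h1 y hy hya).mp (by
        by_contra h5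
        exact hno y hy h5 hyd hya))
    intro y hy
    refine ⟨fun hyd => ?_, h4 y hy⟩
    by_contra hya
    obtain ⟨x, hx, hxd⟩ := h.out' hd
    have hxa : x ∉ O a := fun h6 => hxd (h4 x hx h6)
    have h7 := h4 _ (mul_mem hx hy) (h.idx x hx y hy hxa hya)
    exact hxd ((Subgroup.mul_mem_cancel_right _ hyd).mp h7)
  obtain ⟨y₁, hy₁, h1n, h1d, h1a⟩ := h3
  obtain ⟨x, hx, hxa⟩ := h.out
  have h4 : ∃ y ∈ W, y ∉ O (d * a) ∧ y ∈ O d ∧ y ∉ O a := by
    by_cases hxd : x ∈ O d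
    · exact ⟨x, hx, fun h5 => hxa ((h2 x hx hxd).mp h5), hxd, hxa⟩
    · have h5 : y₁ * x ∈ O d := h.idx' hd hy₁ hx h1d hxd
      have h6 : y₁ * x ∉ O a := fun h7 => hxa ((Subgroup.mul_mem_cancel_left _ h1a).mp h7)
      exact ⟨y₁ * x, mul_mem hy₁ hx, fun h7 => h6 ((h2 _ (mul_mem hy₁ hx) h5).mp h7), h5, h6⟩
  obtain ⟨y₂, hy₂, h2n, h2d, h2a⟩ := h4
  have hda : d * a ∈ cls N a := e1 ▸ cls_conj hd (h.WfN _ hw)
  intro y hy
  by_cases hya : y ∈ O a
  · rw [h1 y hy hya]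
    tauto
  · by_cases hyd : y ∈ O d
    · rw [h2 y hy hyd]
      tauto
    · have h5 : y₁ * y₂ ∈ O (d * a) := h.idx' hda hy₁ hy₂ h1n h2n
      have h6 : y₁ * y₂ ∉ O a := fun h7 => h2a ((Subgroup.mul_mem_cancel_left _ h1a).mp h7)
      have h7 : y₁ * y₂ ∉ O d := fun h8 => h1d ((Subgroup.mul_mem_cancel_right _ h2d).mp h8)
      have h8 : y * (y₁ * y₂) ∈ O a := h.idx _ hy _ (mul_mem hy₁ hy₂) hya h6
      have h9 : y * (y₁ * y₂) ∈ O d := h.idx' hd hy (mul_mem hy₁ hy₂) hyd h7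
      have h10 := (h1 _ (mul_mem hy (mul_mem hy₁ hy₂)) h8).mpr h9
      have h11 := (Subgroup.mul_mem_cancel_right _ h5).mp h10
      tauto

/-- **(3)** -/
theorem same_of_move (h : Dat n a b N U W Wf O) {d w : G} (hd : d ∈ cls N a) (hw : w ∈ Wf a)
    (hm : w * d ≠ d * w) : Same W O d a := by
  by_contra hne
  have hadd := h.chi_add hd hw hm hne
  have hdU := h.cls_U hd
  have e1 : w * d * w⁻¹ = d * a := h.move a_cls hw hdU hm
  obtain ⟨v, hv, hvm⟩ := h.sym a a_cls d hd ⟨w, hw, hm⟩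
  have e2 : v * a * v⁻¹ = a * d := h.move hd hv h.aU hvm
  have hbU := h.cls_U h.bA
  obtain ⟨w₀, hw₀, hw₀b⟩ := h.mov
  have hwb : w * b ≠ b * w := fun h0 =>
    hm ((h.eight' a_cls hd h.bA hw hm hw₀ hw₀b hw).mpr h0)
  have e3 : w * b * w⁻¹ = b * a := h.move a_cls hw hbU hwb
  have haa : w * a * w⁻¹ = a := by
    rcases h.act w hw a h.aU with e | e
    · exact e
    · exfalso
      have : w * a * w⁻¹ = 1 := by rw [e, h.Usq a h.aU]
      have h0 : a = 1 := by
        calc a = w⁻¹ * (w * a * w⁻¹) * w := by group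
          _ = 1 := by rw [this]; group
      rw [h0] at e3
      exact hwb (by
        calc w * b = w * b * w⁻¹ * w := by group
          _ = b * w := by rw [e3]; group)
  have habA : a * b ∈ cls N a := by
    rw [h.Ucomm a h.aU b hbU, ← e3]
    exact cls_conj h.bA (h.WfN _ hw)
  -- the good neighbour `b'`
  have hb' : ∃ b' ∈ cls N a, Same W O (a * b') a ∧ w * b' ≠ b' * w ∧ v * b' = b' * v := by
    by_cases hvb : v * b = b * v
    · exact ⟨b, h.bA, h.abO, hwb, hvb⟩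
    · refine ⟨a * b, habA, ?_, ?_, ?_⟩
      · rw [← mul_assoc, h.Usq a h.aU, one_mul]
        exact h.bO
      · intro h0
        have h1 : w * (a * b) * w⁻¹ = a * b := conj_eq h0
        have h2 : w * (a * b) * w⁻¹ = b := by
          calc w * (a * b) * w⁻¹ = (w * a * w⁻¹) * (w * b * w⁻¹) := by group
            _ = a * (b * a) := by rw [haa, e3]
            _ = a * (a * b) := by rw [h.Ucomm b hbU a h.aU]
            _ = b := by rw [← mul_assoc, h.Usq a h.aU, one_mul]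
        have h3 : a = 1 := by
          have : a * b = 1 * b := by rw [← h1, h2, one_mul]
          exact mul_right_cancel this
        exact hwb (by
          have h4 : w * b * w⁻¹ = b := by rw [e3, h3, mul_one]
          calc w * b = w * b * w⁻¹ * w := by group
            _ = b * w := by rw [h4])
      · have e4 : v * b * v⁻¹ = b * d := h.move hd hv hbU hvb
        have h5 : v * (a * b) * v⁻¹ = a * b := by
          calc v * (a * b) * v⁻¹ = (v * a * v⁻¹) * (v * b * v⁻¹) := by group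
            _ = a * d * (b * d) := by rw [e2, e4]
            _ = a * (d * b) * d := by group
            _ = a * (b * d) * d := by rw [h.Ucomm d hdU b hbU]
            _ = a * b * (d * d) := by group
            _ = a * b := by rw [h.Usq d hdU, mul_one]
        calc v * (a * b) = v * (a * b) * v⁻¹ * v := by group
          _ = a * b * v := by rw [h5]
  obtain ⟨b', hbA', hS, hwb', hvb'⟩ := hb'
  have hbU' := h.cls_U hbA'
  -- `Wf b'` centralises `d`
  have hdb : ∀ x ∈ Wf b', x * d = d * x := by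
    intro x hx
    by_contra h0
    obtain ⟨y, hy, hyb⟩ := h.sym b' hbA' d hd ⟨x, hx, h0⟩
    exact hvm ((h.eight' hd a_cls hbA' hv hvm hy hyb hv).mpr hvb')
  obtain ⟨x, hx, hxa⟩ := h.sym a a_cls b' hbA' ⟨w, hw, hwb'⟩
  have e5 : x * a * x⁻¹ = a * b' := h.move hbA' hx h.aU hxa
  have e6 : x * d * x⁻¹ = d := conj_eq (hdb x hx)
  have e7 : w * b' * w⁻¹ = b' * a := h.move a_cls hw hbU' hwb'
  have hxN := h.WfN' hbA' hx
  have hwN := h.WfN _ hw
  have hdaA : d * a ∈ cls N a := e1 ▸ cls_conj hd hwN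
  set e := x * (d * a) * x⁻¹ with he
  have hee : e = d * (a * b') := by
    rw [he]
    calc x * (d * a) * x⁻¹ = (x * d * x⁻¹) * (x * a * x⁻¹) := by group
      _ = d * (a * b') := by rw [e6, e5]
  have heA : e ∈ cls N a := cls_conj hdaA hxN
  have hwe : w * e * w⁻¹ = e := by
    rw [hee]
    calc w * (d * (a * b')) * w⁻¹ = (w * d * w⁻¹) * ((w * a * w⁻¹) * (w * b' * w⁻¹)) := by group
      _ = d * a * (a * (b' * a)) := by rw [e1, haa, e7]
      _ = d * (a * a) * (b' * a) := by group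
      _ = d * (b' * a) := by rw [h.Usq a h.aU, mul_one]
      _ = d * (a * b') := by rw [h.Ucomm b' hbU' a h.aU]
  -- `χ_e = χ_d + χ_a`
  have h1 : ∀ y ∈ W, y ∈ O e ↔ (y ∈ O a ↔ y ∈ O d) := by
    intro y hy
    rw [he, ← h.O_iff hxN hdaA, hadd _ (h.WN' hxN hy), h.O_iff hxN a_cls, h.O_iff hxN hd, e5, e6,
      hS y hy]
  -- `χ_e = χ_e ^ w`
  have h2 : ∀ y ∈ W, y ∈ O e ↔ y ∈ O d := by
    intro y hy
    have h3 : y ∈ O e ↔ w⁻¹ * y * w ∈ O e := by rw [h.O_iff hwN heA, hwe]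
    rw [h3, h1 _ (h.WN' hwN hy), h.O_iff hwN a_cls, h.O_iff hwN hd, haa, e1, hadd y hy]
    tauto
  obtain ⟨y, hy, hya⟩ := h.out
  have h3 := h1 y hy
  have h4 := h2 y hy
  tauto

/-- **(3)** for all `c` -/
theorem same_of_move' (h : Dat n a b N U W Wf O) {c d w : G} (hc : c ∈ cls N a) (hd : d ∈ cls N a)
    (hw : w ∈ Wf c) (hm : w * d ≠ d * w) : Same W O d c := by
  obtain ⟨g, hg, rfl⟩ := hc
  have h1 := h.same_of_move (cls_conj' hd hg) (h.Wf_back hg hw) (fun h0 => hm (by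
    calc w * d = g * ((g⁻¹ * w * g) * (g⁻¹ * d * g)) * g⁻¹ := by group
      _ = d * w := by rw [h0]; group))
  intro y hy
  have h2 := h1 _ (h.WN' hg hy)
  rw [h.O_iff hg (cls_conj' hd hg), h.O_iff hg a_cls] at h2
  have e : g * (g⁻¹ * d * g) * g⁻¹ = d := by group
  rwa [e] at h2

theorem same_conj (h : Dat n a b N U W Wf O) {c d g : G} (hc : c ∈ cls N a) (hd : d ∈ cls N a)
    (hg : g ∈ N) (hs : Same W O c d) : Same W O (g * c * g⁻¹) (g * d * g⁻¹) := by
  intro y hy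
  rw [← h.O_iff hg hc, ← h.O_iff hg hd]
  exact hs _ (h.WN' hg hy)

/-! ### (4) -/

/-- the block of `c` -/
def Bl (N W : Subgroup G) (O : G → Subgroup G) (a c : G) : Type _ := {d : G // d ∈ cls N a ∧ Same W O d c}

/-- a subgroup of `N` stabilising the block acts on it -/
@[reducible] def blAct (h : Dat n a b N U W Wf O) {c : G} (hc : c ∈ cls N a) (K : Subgroup G) (hK : K ≤ N)
    (hS : ∀ k ∈ K, Same W O (k * c * k⁻¹) c) : MulAction K (Bl N W O a c) where
  smul k d := ⟨k * d.1 * (k : G)⁻¹, cls_conj d.2.1 (hK k.2), fun y hy =>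
    ((h.same_conj d.2.1 hc (hK k.2) d.2.2) y hy).trans (hS k k.2 y hy)⟩
  one_smul d := Subtype.ext (by
    show (1 : G) * d.1 * (1 : G)⁻¹ = d.1
    group)
  mul_smul k l d := Subtype.ext (by
    show ((k * l : K) : G) * d.1 * ((k * l : K) : G)⁻¹ = k * (l * d.1 * (l : G)⁻¹) * (k : G)⁻¹
    rw [Subgroup.coe_mul]
    group)

/-- all blocks have the same size -/
theorem card_bl (h : Dat n a b N U W Wf O) {c : G} (hc : c ∈ cls N a) :
    Nat.card (Bl N W O a c) = Nat.card (Bl N W O a a) := by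
  obtain ⟨g, hg, rfl⟩ := hc
  refine Nat.card_congr ⟨fun d => ⟨g⁻¹ * d.1 * g, cls_conj' d.2.1 hg, ?_⟩,
    fun d => ⟨g * d.1 * g⁻¹, cls_conj d.2.1 hg, h.same_conj d.2.1 a_cls hg d.2.2⟩,
    fun d => Subtype.ext (by dsimp only; group), fun d => Subtype.ext (by dsimp only; group)⟩
  have h1 := h.same_conj d.2.1 (cls_conj a_cls hg) (inv_mem hg) d.2.2
  have e : g⁻¹ * (g * a * g⁻¹) * g⁻¹⁻¹ = a := by group
  rwa [e, inv_inv] at h1

/-- **(4)** all `W ∩ O c`, `c ∈ a^N`, are equal -/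
theorem const [Finite G] (h : Dat n a b N U W Wf O) (h1 : (1 : G) ∉ cls N a) (hn : n ∉ cls N a)
    (hna : n * a ∉ cls N a) {T : Subgroup G} (hT : IsPGroup 2 T) (hTN : T ≤ N)
    (hTa : ∀ t ∈ T, t * a = a * t)
    (hfix : ∀ u ∈ U, (∀ t ∈ T, t * u = u * t) → u = 1 ∨ u = n ∨ u = a ∨ u = n * a) :
    ∀ c ∈ cls N a, Same W O c a := by
  classical
  by_contra hno
  push Not at hno
  obtain ⟨c₀, hc₀, hne⟩ := hno
  have hodd : ¬ 2 ∣ Nat.card (Bl N W O a a) := by
    let _ := h.blAct a_cls T hTN (fun t ht => by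
      have e : t * a * t⁻¹ = a := conj_eq (hTa t ht)
      rw [e]
      exact fun _ _ => Iff.rfl)
    have := Fact.mk Nat.prime_two
    have : Finite (Bl N W O a a) := Subtype.finite
    have h2 := hT.card_modEq_card_fixedPoints (Bl N W O a a)
    have h3 : Nat.card (MulAction.fixedPoints T (Bl N W O a a)) = 1 := by
      rw [Nat.card_eq_one_iff_unique]
      have key : ∀ d : MulAction.fixedPoints T (Bl N W O a a), d.1.1 = a := by
        rintro ⟨d, hd⟩
        have h4 : ∀ t ∈ T, t * d.1 = d.1 * t := by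
          intro t ht
          have h5 : t * d.1 * t⁻¹ = d.1 := congrArg Subtype.val (hd ⟨t, ht⟩)
          calc t * d.1 = t * d.1 * t⁻¹ * t := by group
            _ = d.1 * t := by rw [h5]
        rcases hfix _ (h.cls_U d.2.1) h4 with e | e | e | e
        · exact absurd (e ▸ d.2.1) h1
        · exact absurd (e ▸ d.2.1) hn
        · exact e
        · exact absurd (e ▸ d.2.1) hna
      refine ⟨⟨fun x y => Subtype.ext (Subtype.ext ((key x).trans (key y).symm))⟩,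
        ⟨⟨⟨a, a_cls, fun _ _ => Iff.rfl⟩, fun t => Subtype.ext ?_⟩⟩⟩
      exact conj_eq (hTa t t.2)
    rw [h3] at h2
    intro h4
    have h5 := (Nat.modEq_zero_iff_dvd.mpr h4).symm.trans h2
    exact absurd h5 (by decide)
  -- the stabiliser of the block of `c₀`
  let T₂ : Subgroup G :=
    { carrier := {t | t ∈ T ∧ Same W O (t * c₀ * t⁻¹) c₀}
      one_mem' := ⟨one_mem _, by
        have e : (1 : G) * c₀ * 1⁻¹ = c₀ := by group
        rw [e]
        exact fun _ _ => Iff.rfl⟩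
      mul_mem' := by
        rintro t s ⟨ht, ht'⟩ ⟨hs, hs'⟩
        refine ⟨mul_mem ht hs, fun y hy => ?_⟩
        have h2 := h.same_conj (cls_conj hc₀ (hTN hs)) hc₀ (hTN ht) hs' y hy
        have e : t * s * c₀ * (t * s)⁻¹ = t * (s * c₀ * s⁻¹) * t⁻¹ := by group
        rw [e]
        exact h2.trans (ht' y hy)
      inv_mem' := by
        rintro t ⟨ht, ht'⟩
        refine ⟨inv_mem ht, fun y hy => ?_⟩
        have h2 := h.same_conj (cls_conj hc₀ (hTN ht)) hc₀ (inv_mem (hTN ht)) ht' y hy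
        have e : t⁻¹ * (t * c₀ * t⁻¹) * t⁻¹⁻¹ = c₀ := by group
        rw [e] at h2
        exact h2.symm }
  obtain ⟨c, hcS, hcT⟩ : ∃ c : G, (c ∈ cls N a ∧ Same W O c c₀) ∧ ∀ t ∈ T₂, t * c * t⁻¹ = c := by
    let _ := h.blAct hc₀ T₂ (fun t ht => hTN ht.1) (fun t ht => ht.2)
    have := Fact.mk Nat.prime_two
    have : Finite (Bl N W O a c₀) := Subtype.finite
    have hT₂ : IsPGroup 2 T₂ := hT.to_le (fun t ht => ht.1)
    obtain ⟨d, hd⟩ := hT₂.nonempty_fixed_point_of_prime_not_dvd_card (Bl N W O a c₀)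
      (by rw [h.card_bl hc₀]; exact hodd)
    exact ⟨d.1, d.2, fun t ht => congrArg Subtype.val (hd ⟨t, ht⟩)⟩
  have hcA := hcS.1
  have hcU := h.cls_U hcA
  -- `t ∈ T` which maps `c` to something in the same block fixes `c`
  have hst : ∀ t ∈ T, Same W O (t * c * t⁻¹) c → t * c * t⁻¹ = c := by
    intro t ht hs
    refine hcT t ⟨ht, fun y hy => ?_⟩
    have h2 := h.same_conj hcA hc₀ (hTN ht) hcS.2 y hy
    exact h2.symm.trans ((hs y hy).trans (hcS.2 y hy))
  have hca : ¬ Same W O c a := fun h2 => hne fun y hy => ((hcS.2 y hy).symm.trans (h2 y hy))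
  -- the product of the `T`-orbit of `c`
  let _ : CommGroup U := { (inferInstance : Group U) with
    mul_comm := fun x y => Subtype.ext (h.Ucomm x x.2 y y.2) }
  let _ : Fintype U := Fintype.ofFinite U
  let R : Finset U := Finset.univ.filter (fun e : U => ∃ t ∈ T, (e : G) = t * c * t⁻¹)
  have hR : ∀ e : U, e ∈ R ↔ ∃ t ∈ T, (e : G) = t * c * t⁻¹ := fun e => by
    simp only [R, Finset.mem_filter, Finset.mem_univ, true_and]
  let φ : ∀ g ∈ N, (U →* U) := fun g hg => MonoidHom.mk' (fun e => ⟨g * e * g⁻¹, h.UN g hg e e.2⟩)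
    (fun x y => Subtype.ext (by
      show g * ((x * y : U) : G) * g⁻¹ = g * x * g⁻¹ * (g * y * g⁻¹)
      rw [Subgroup.coe_mul]
      group))
  set u : U := ∏ e ∈ R, e with hu
  have hcR : (⟨c, hcU⟩ : U) ∈ R := (hR _).mpr ⟨1, one_mem _, by group⟩
  have huT : ∀ t ∈ T, t * (u : G) = u * t := by
    intro t ht
    have h2 : φ t (hTN ht) u = u := by
      rw [hu, map_prod]
      refine Finset.prod_nbij' (fun e => φ t (hTN ht) e) (fun e => φ t⁻¹ (inv_mem (hTN ht)) e)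
        ?_ ?_ ?_ ?_ ?_
      · intro e he
        obtain ⟨s, hs, hes⟩ := (hR e).mp he
        refine (hR _).mpr ⟨t * s, mul_mem ht hs, ?_⟩
        show t * (e : G) * t⁻¹ = _
        rw [hes]
        group
      · intro e he
        obtain ⟨s, hs, hes⟩ := (hR e).mp he
        refine (hR _).mpr ⟨t⁻¹ * s, mul_mem (inv_mem ht) hs, ?_⟩
        show t⁻¹ * (e : G) * t⁻¹⁻¹ = _
        rw [hes]
        group
      · intro e _
        apply Subtype.ext
        show t⁻¹ * (t * (e : G) * t⁻¹) * t⁻¹⁻¹ = e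
        group
      · intro e _
        apply Subtype.ext
        show t * (t⁻¹ * (e : G) * t⁻¹⁻¹) * t⁻¹ = e
        group
      · intro e _
        rfl
    have h3 : t * (u : G) * t⁻¹ = u := congrArg Subtype.val h2
    calc t * (u : G) = t * (u : G) * t⁻¹ * t := by group
      _ = u * t := by rw [h3]
  -- elements of `N` centralising the other members of the orbit
  have hmv : ∀ w : G, (∀ e ∈ R, e ≠ ⟨c, hcU⟩ → w * (e : G) = e * w) → w * c ≠ c * w →
      w * (u : G) ≠ u * w := by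
    intro w hw hwc h0
    have h2 : ((∏ e ∈ R.erase ⟨c, hcU⟩, e : U) : G) ∈ centralizer ({w} : Set G) := by
      have h3 : (∏ e ∈ R.erase ⟨c, hcU⟩, e : U) ∈ (centralizer ({w} : Set G)).subgroupOf U := by
        refine prod_mem fun e he => ?_
        rw [mem_subgroupOf, mem_centralizer_singleton_iff]
        exact (hw e (Finset.mem_of_mem_erase he) (Finset.ne_of_mem_erase he)).symm
      exact h3
    rw [mem_centralizer_singleton_iff] at h2
    have h3 : (u : G) = c * ((∏ e ∈ R.erase ⟨c, hcU⟩, e : U) : G) := by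
      have h4 := Finset.mul_prod_erase R (fun e => e) hcR
      rw [hu, ← h4]
      rfl
    rw [h3] at h0
    apply hwc
    have h4 : w * c * ((∏ e ∈ R.erase ⟨c, hcU⟩, e : U) : G) =
        c * w * ((∏ e ∈ R.erase ⟨c, hcU⟩, e : U) : G) := by
      calc w * c * _ = w * (c * ((∏ e ∈ R.erase ⟨c, hcU⟩, e : U) : G)) := by group
        _ = c * (((∏ e ∈ R.erase ⟨c, hcU⟩, e : U) : G) * w) := by rw [h0]; group
        _ = c * w * _ := by rw [h2]; group
    exact mul_right_cancel h4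
  have hall : ∀ w : G, (∀ e ∈ R, w * (e : G) = e * w) → w * (u : G) = u * w := by
    intro w hw
    have h3 : (∏ e ∈ R, e : U) ∈ (centralizer ({w} : Set G)).subgroupOf U := by
      refine prod_mem fun e he => ?_
      rw [mem_subgroupOf, mem_centralizer_singleton_iff]
      exact (hw e he).symm
    rw [mem_subgroupOf, mem_centralizer_singleton_iff] at h3
    exact h3.symm
  -- a neighbour `c'` of `c`
  obtain ⟨c', hcA', hs', w, hw, hwc⟩ : ∃ c' ∈ cls N a, Same W O c' c ∧ ∃ w ∈ Wf c', w * c ≠ c * w := by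
    obtain ⟨g, hg, hgc⟩ := hcA
    obtain ⟨w₀, hw₀, hw₀b⟩ := h.mov
    obtain ⟨w₁, hw₁, hw₁a⟩ := h.sym a a_cls b h.bA ⟨w₀, hw₀, hw₀b⟩
    refine ⟨g * b * g⁻¹, cls_conj h.bA hg, ?_, g * w₁ * g⁻¹, h.Wf_eqv g hg b h.bA w₁ hw₁, ?_⟩
    · rw [hgc]
      exact h.same_conj h.bA a_cls hg h.bO
    · rw [hgc]
      intro h0
      apply hw₁a
      calc w₁ * a = g⁻¹ * (g * w₁ * g⁻¹ * (g * a * g⁻¹)) * g := by group
        _ = a * w₁ := by rw [h0]; group
  have hu1 : w * (u : G) ≠ u * w := by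
    refine hmv w (fun e he hne' => ?_) hwc
    by_contra h0
    obtain ⟨t, ht, het⟩ := (hR e).mp he
    have heA : (e : G) ∈ cls N a := by rw [het]; exact cls_conj hcA (hTN ht)
    have h2 := h.same_of_move' hcA' heA hw h0
    apply hne'
    apply Subtype.ext
    show (e : G) = c
    rw [het]
    refine hst t ht fun y hy => ?_
    rw [← het]
    exact (h2 y hy).trans (hs' y hy)
  have hu2 : ∃ w ∈ N, w * a ≠ a * w ∧ w * (u : G) = u * w := by
    obtain ⟨w₀, hw₀, hw₀b⟩ := h.mov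
    obtain ⟨w₁, hw₁, hw₁a⟩ := h.sym a a_cls b h.bA ⟨w₀, hw₀, hw₀b⟩
    refine ⟨w₁, h.WfN' h.bA hw₁, hw₁a, hall w₁ fun e he => ?_⟩
    by_contra h0
    obtain ⟨t, ht, het⟩ := (hR e).mp he
    have heA : (e : G) ∈ cls N a := by rw [het]; exact cls_conj hcA (hTN ht)
    have h2 := h.same_of_move' h.bA heA hw₁ h0
    apply hca
    have h3 : Same W O (t⁻¹ * (t * c * t⁻¹) * t⁻¹⁻¹) (t⁻¹ * a * t⁻¹⁻¹) :=
      h.same_conj (cls_conj hcA (hTN ht)) a_cls (inv_mem (hTN ht)) (fun y hy => by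
        rw [← het]
        exact (h2 y hy).trans (h.bO y hy))
    have e1 : t⁻¹ * (t * c * t⁻¹) * t⁻¹⁻¹ = c := by group
    have e2 : t⁻¹ * a * t⁻¹⁻¹ = a := by
      have := hTa t ht
      calc t⁻¹ * a * t⁻¹⁻¹ = t⁻¹ * (a * t) := by group
        _ = a := by rw [← this]; group
    rwa [e1, e2] at h3
  obtain ⟨w₂, hw₂, hw₂a, hw₂u⟩ := hu2
  rcases hfix u u.2 huT with e | e | e | e
  · rw [e] at hu1
    exact hu1 (by group)
  · rw [e] at hu1
    exact hu1 (h.nN w (h.WfN' hcA' hw))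
  · rw [e] at hw₂u
    exact hw₂a hw₂u
  · rw [e] at hw₂u
    apply hw₂a
    have h2 := h.nN w₂ hw₂
    have h3 : n * (w₂ * a) = n * (a * w₂) := by
      calc n * (w₂ * a) = (n * w₂) * a := by group
        _ = w₂ * (n * a) := by rw [← h2]; group
        _ = n * (a * w₂) := by rw [hw₂u]; group
    exact mul_left_cancel h3

end Dat

end Cfsg.Agent.Omega.S5.ChiConst

end

-- merged: Cfsg.Agent.Mrg.Omega.TTn.BZero
section

/-!
# (B0) of helper429's #13720 (bb OMEGA), abstract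

`AA = cls N a` is a class of centres of transvections on `U` (`Calc.Dat N U (cls N a) Wf`), `c — d` iff
`[Wf c, d] ≠ 1`, `b` a neighbour of `a`, `T` a `2`-group with few fixed points on `U`.
* `Conn`, `conn` (c1): every `N`-invariant equivalence relation on `AA` which contains `—` is universal;
* `conj_b` (c2) = (i): the neighbours of `a` are the `C_N(a)`-conjugates of `b`;
* `near` = (iii): the distance in `AA` is at most `2`;
* `comm_all` (c3) = (iv): a subgroup normalised by `C_N(a)` which centralises `a` and `b` centralises `AA`.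
-/

set_option autoImplicit false

namespace Cfsg.Agent.Omega.TTn.BZero

open Subgroup
open Cfsg.Agent.Omega.S5.ChiConst (cls)

variable {G : Type*} [Group G]

/-- `c — d` -/
def Adj (Wf : G → Subgroup G) (c d : G) : Prop := ∃ w ∈ Wf c, w * d ≠ d * w

/-- an `N`-invariant equivalence relation on `cls N a` -/
structure Rel (N : Subgroup G) (a : G) (R : G → G → Prop) : Prop where
  refl : ∀ c ∈ cls N a, R c c
  symm : ∀ c ∈ cls N a, ∀ d ∈ cls N a, R c d → R d c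
  trans : ∀ c ∈ cls N a, ∀ d ∈ cls N a, ∀ e ∈ cls N a, R c d → R d e → R c e
  conj : ∀ g ∈ N, ∀ c ∈ cls N a, ∀ d ∈ cls N a, R c d → R (g * c * g⁻¹) (g * d * g⁻¹)

/-- `—` is connected, in the form: every `N`-invariant equivalence relation on `cls N a` containing `—` is universal -/
def Conn (N : Subgroup G) (a : G) (Wf : G → Subgroup G) : Prop :=
  ∀ R : G → G → Prop, Rel N a R → (∀ c ∈ cls N a, ∀ d ∈ cls N a, Adj Wf c d → R c d) → ∀ c ∈ cls N a, R c a

theorem cls_conj {N : Subgroup G} {a c g : G} (hc : c ∈ cls N a) (hg : g ∈ N) : g * c * g⁻¹ ∈ cls N a := by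
  obtain ⟨k, hk, rfl⟩ := hc
  exact ⟨g * k, mul_mem hg hk, by group⟩

theorem a_cls {N : Subgroup G} {a : G} : a ∈ cls N a := ⟨1, one_mem _, by group⟩

theorem conj_eq {w u : G} (h : w * u = u * w) : w * u * w⁻¹ = u := by rw [h]; group

/-! ### (c1) -/

section conn

variable {a : G} {N : Subgroup G} {R : G → G → Prop}

/-- the block of `c` -/
def Bl (N : Subgroup G) (R : G → G → Prop) (a c : G) : Type _ := {d : G // d ∈ cls N a ∧ R d c}

/-- a subgroup of `N` stabilising the block acts on it -/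
@[reducible] def blAct (r : Rel N a R) {c : G} (hc : c ∈ cls N a) (K : Subgroup G) (hK : K ≤ N)
    (hS : ∀ k ∈ K, R (k * c * k⁻¹) c) : MulAction K (Bl N R a c) where
  smul k d := ⟨k * d.1 * (k : G)⁻¹, cls_conj d.2.1 (hK k.2),
    r.trans _ (cls_conj d.2.1 (hK k.2)) _ (cls_conj hc (hK k.2)) _ hc
      (r.conj k (hK k.2) _ d.2.1 _ hc d.2.2) (hS k k.2)⟩
  one_smul d := Subtype.ext (by
    show (1 : G) * d.1 * (1 : G)⁻¹ = d.1
    group)
  mul_smul k l d := Subtype.ext (by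
    show ((k * l : K) : G) * d.1 * ((k * l : K) : G)⁻¹ = k * (l * d.1 * (l : G)⁻¹) * (k : G)⁻¹
    rw [Subgroup.coe_mul]
    group)

/-- all blocks have the same size -/
theorem card_bl (r : Rel N a R) {c : G} (hc : c ∈ cls N a) :
    Nat.card (Bl N R a c) = Nat.card (Bl N R a a) := by
  obtain ⟨g, hg, rfl⟩ := hc
  refine Nat.card_congr ⟨fun d => ⟨g⁻¹ * d.1 * g, ?_, ?_⟩,
    fun d => ⟨g * d.1 * g⁻¹, cls_conj d.2.1 hg, r.conj g hg _ d.2.1 _ a_cls d.2.2⟩,
    fun d => Subtype.ext (by dsimp only; group), fun d => Subtype.ext (by dsimp only; group)⟩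
  · have := cls_conj d.2.1 (inv_mem hg)
    rwa [inv_inv] at this
  · have h1 := r.conj g⁻¹ (inv_mem hg) _ d.2.1 _ (cls_conj a_cls hg) d.2.2
    have e : g⁻¹ * (g * a * g⁻¹) * g⁻¹⁻¹ = a := by group
    rwa [e, inv_inv] at h1

/-- **(c1)** -/
theorem conn [Finite G] {n b : G} {U : Subgroup G} {Wf : G → Subgroup G}
    (h : Calc.Dat N U (cls N a) Wf) (nN : ∀ g ∈ N, g * n = n * g) (bA : b ∈ cls N a) (mov : Adj Wf a b)
    (h1 : (1 : G) ∉ cls N a) (hn : n ∉ cls N a)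
    (hna : n * a ∉ cls N a) {T : Subgroup G} (hT : IsPGroup 2 T) (hTN : T ≤ N)
    (hTa : ∀ t ∈ T, t * a = a * t)
    (hfix : ∀ u ∈ U, (∀ t ∈ T, t * u = u * t) → u = 1 ∨ u = n ∨ u = a ∨ u = n * a)
 :
    Conn N a Wf := by
  intro R r hR'
  have hR : ∀ c ∈ cls N a, ∀ d ∈ cls N a, Adj Wf c d → R d c :=
    fun c hc d hd hcd => r.symm _ hc _ hd (hR' c hc d hd hcd)
  classical
  by_contra hno
  push Not at hno
  obtain ⟨c₀, hc₀, hne⟩ := hno
  have hodd : ¬ 2 ∣ Nat.card (Bl N R a a) := by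
    let _ := blAct r a_cls T hTN (fun t ht => by
      have e : t * a * t⁻¹ = a := conj_eq (hTa t ht)
      rw [e]
      exact r.refl _ a_cls)
    have := Fact.mk Nat.prime_two
    have : Finite (Bl N R a a) := Subtype.finite
    have h2 := hT.card_modEq_card_fixedPoints (Bl N R a a)
    have h3 : Nat.card (MulAction.fixedPoints T (Bl N R a a)) = 1 := by
      rw [Nat.card_eq_one_iff_unique]
      have key : ∀ d : MulAction.fixedPoints T (Bl N R a a), d.1.1 = a := by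
        rintro ⟨d, hd⟩
        have h4 : ∀ t ∈ T, t * d.1 = d.1 * t := by
          intro t ht
          have h5 : t * d.1 * t⁻¹ = d.1 := congrArg Subtype.val (hd ⟨t, ht⟩)
          calc t * d.1 = t * d.1 * t⁻¹ * t := by group
            _ = d.1 * t := by rw [h5]
        rcases hfix _ (h.OmA _ d.2.1) h4 with e | e | e | e
        · exact absurd (e ▸ d.2.1) h1
        · exact absurd (e ▸ d.2.1) hn
        · exact e
        · exact absurd (e ▸ d.2.1) hna
      refine ⟨⟨fun x y => Subtype.ext (Subtype.ext ((key x).trans (key y).symm))⟩,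
        ⟨⟨⟨a, a_cls, r.refl _ a_cls⟩, fun t => Subtype.ext ?_⟩⟩⟩
      exact conj_eq (hTa t t.2)
    rw [h3] at h2
    intro h4
    have h5 := (Nat.modEq_zero_iff_dvd.mpr h4).symm.trans h2
    exact absurd h5 (by decide)
  -- the stabiliser of the block of `c₀`
  let T₂ : Subgroup G :=
    { carrier := {t | t ∈ T ∧ R (t * c₀ * t⁻¹) c₀}
      one_mem' := ⟨one_mem _, by
        have e : (1 : G) * c₀ * 1⁻¹ = c₀ := by group
        rw [e]
        exact r.refl _ hc₀⟩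
      mul_mem' := by
        rintro t s ⟨ht, ht'⟩ ⟨hs, hs'⟩
        refine ⟨mul_mem ht hs, ?_⟩
        have h2 := r.conj t (hTN ht) _ (cls_conj hc₀ (hTN hs)) _ hc₀ hs'
        have e : t * s * c₀ * (t * s)⁻¹ = t * (s * c₀ * s⁻¹) * t⁻¹ := by group
        rw [e]
        exact r.trans _ (cls_conj (cls_conj hc₀ (hTN hs)) (hTN ht)) _ (cls_conj hc₀ (hTN ht)) _ hc₀ h2 ht'
      inv_mem' := by
        rintro t ⟨ht, ht'⟩
        refine ⟨inv_mem ht, ?_⟩
        have h2 := r.conj t⁻¹ (inv_mem (hTN ht)) _ (cls_conj hc₀ (hTN ht)) _ hc₀ ht'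
        have e : t⁻¹ * (t * c₀ * t⁻¹) * t⁻¹⁻¹ = c₀ := by group
        rw [e] at h2
        exact r.symm _ hc₀ _ (cls_conj hc₀ (inv_mem (hTN ht))) h2 }
  obtain ⟨c, hcS, hcT⟩ : ∃ c : G, (c ∈ cls N a ∧ R c c₀) ∧ ∀ t ∈ T₂, t * c * t⁻¹ = c := by
    let _ := blAct r hc₀ T₂ (fun t ht => hTN ht.1) (fun t ht => ht.2)
    have := Fact.mk Nat.prime_two
    have : Finite (Bl N R a c₀) := Subtype.finite
    have hT₂ : IsPGroup 2 T₂ := hT.to_le (fun t ht => ht.1)
    obtain ⟨d, hd⟩ := hT₂.nonempty_fixed_point_of_prime_not_dvd_card (Bl N R a c₀)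
      (by rw [card_bl r hc₀]; exact hodd)
    exact ⟨d.1, d.2, fun t ht => congrArg Subtype.val (hd ⟨t, ht⟩)⟩
  have hcA := hcS.1
  have hcU := h.OmA c hcA
  -- `t ∈ T` which maps `c` to something in the same block fixes `c`
  have hst : ∀ t ∈ T, R (t * c * t⁻¹) c → t * c * t⁻¹ = c := by
    intro t ht hs
    refine hcT t ⟨ht, ?_⟩
    have h2 := r.conj t (hTN ht) _ hcA _ hc₀ hcS.2
    exact r.trans _ (cls_conj hc₀ (hTN ht)) _ (cls_conj hcA (hTN ht)) _ hc₀
      (r.symm _ (cls_conj hcA (hTN ht)) _ (cls_conj hc₀ (hTN ht)) h2)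
      (r.trans _ (cls_conj hcA (hTN ht)) _ hcA _ hc₀ hs hcS.2)
  have hca : ¬ R c a := fun h2 => hne (r.trans _ hc₀ _ hcA _ a_cls (r.symm _ hcA _ hc₀ hcS.2) h2)
  -- the product of the `T`-orbit of `c`
  let _ : CommGroup U := { (inferInstance : Group U) with
    mul_comm := fun x y => Subtype.ext (h.comm x x.2 y y.2) }
  let _ : Fintype U := Fintype.ofFinite U
  let P : Finset U := Finset.univ.filter (fun e : U => ∃ t ∈ T, (e : G) = t * c * t⁻¹)
  have hP : ∀ e : U, e ∈ P ↔ ∃ t ∈ T, (e : G) = t * c * t⁻¹ := fun e => by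
    simp only [P, Finset.mem_filter, Finset.mem_univ, true_and]
  let φ : ∀ g ∈ N, (U →* U) := fun g hg => MonoidHom.mk' (fun e => ⟨g * e * g⁻¹, h.norm g hg e e.2⟩)
    (fun x y => Subtype.ext (by
      show g * ((x * y : U) : G) * g⁻¹ = g * x * g⁻¹ * (g * y * g⁻¹)
      rw [Subgroup.coe_mul]
      group))
  set u : U := ∏ e ∈ P, e with hu
  have hcP : (⟨c, hcU⟩ : U) ∈ P := (hP _).mpr ⟨1, one_mem _, by group⟩
  have huT : ∀ t ∈ T, t * (u : G) = u * t := by
    intro t ht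
    have h2 : φ t (hTN ht) u = u := by
      rw [hu, map_prod]
      refine Finset.prod_nbij' (fun e => φ t (hTN ht) e) (fun e => φ t⁻¹ (inv_mem (hTN ht)) e)
        ?_ ?_ ?_ ?_ ?_
      · intro e he
        obtain ⟨s, hs, hes⟩ := (hP e).mp he
        refine (hP _).mpr ⟨t * s, mul_mem ht hs, ?_⟩
        show t * (e : G) * t⁻¹ = _
        rw [hes]
        group
      · intro e he
        obtain ⟨s, hs, hes⟩ := (hP e).mp he
        refine (hP _).mpr ⟨t⁻¹ * s, mul_mem (inv_mem ht) hs, ?_⟩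
        show t⁻¹ * (e : G) * t⁻¹⁻¹ = _
        rw [hes]
        group
      · intro e _
        apply Subtype.ext
        show t⁻¹ * (t * (e : G) * t⁻¹) * t⁻¹⁻¹ = e
        group
      · intro e _
        apply Subtype.ext
        show t * (t⁻¹ * (e : G) * t⁻¹⁻¹) * t⁻¹ = e
        group
      · intro e _
        rfl
    have h3 : t * (u : G) * t⁻¹ = u := congrArg Subtype.val h2
    calc t * (u : G) = t * (u : G) * t⁻¹ * t := by group
      _ = u * t := by rw [h3]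
  -- elements of `N` centralising the other members of the orbit
  have hmv : ∀ w : G, (∀ e ∈ P, e ≠ ⟨c, hcU⟩ → w * (e : G) = e * w) → w * c ≠ c * w →
      w * (u : G) ≠ u * w := by
    intro w hw hwc h0
    have h2 : ((∏ e ∈ P.erase ⟨c, hcU⟩, e : U) : G) ∈ centralizer ({w} : Set G) := by
      have h3 : (∏ e ∈ P.erase ⟨c, hcU⟩, e : U) ∈ (centralizer ({w} : Set G)).subgroupOf U := by
        refine prod_mem fun e he => ?_
        rw [mem_subgroupOf, mem_centralizer_singleton_iff]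
        exact (hw e (Finset.mem_of_mem_erase he) (Finset.ne_of_mem_erase he)).symm
      exact h3
    rw [mem_centralizer_singleton_iff] at h2
    have h3 : (u : G) = c * ((∏ e ∈ P.erase ⟨c, hcU⟩, e : U) : G) := by
      have h4 := Finset.mul_prod_erase P (fun e => e) hcP
      rw [hu, ← h4]
      rfl
    rw [h3] at h0
    apply hwc
    have h4 : w * c * ((∏ e ∈ P.erase ⟨c, hcU⟩, e : U) : G) =
        c * w * ((∏ e ∈ P.erase ⟨c, hcU⟩, e : U) : G) := by
      calc w * c * _ = w * (c * ((∏ e ∈ P.erase ⟨c, hcU⟩, e : U) : G)) := by group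
        _ = c * (((∏ e ∈ P.erase ⟨c, hcU⟩, e : U) : G) * w) := by rw [h0]; group
        _ = c * w * _ := by rw [h2]; group
    exact mul_right_cancel h4
  have hall : ∀ w : G, (∀ e ∈ P, w * (e : G) = e * w) → w * (u : G) = u * w := by
    intro w hw
    have h3 : (∏ e ∈ P, e : U) ∈ (centralizer ({w} : Set G)).subgroupOf U := by
      refine prod_mem fun e he => ?_
      rw [mem_subgroupOf, mem_centralizer_singleton_iff]
      exact (hw e he).symm
    rw [mem_subgroupOf, mem_centralizer_singleton_iff] at h3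
    exact h3.symm
  obtain ⟨w₁, hw₁, hw₁a⟩ := h.sym a a_cls b bA mov
  -- a neighbour `c'` of `c`
  obtain ⟨c', hcA', w, hw, hwc⟩ : ∃ c' ∈ cls N a, Adj Wf c' c := by
    obtain ⟨g, hg, hgc⟩ := id hcA
    refine ⟨g * b * g⁻¹, cls_conj bA hg, g * w₁ * g⁻¹, h.eqv g hg b bA w₁ hw₁, ?_⟩
    rw [hgc]
    intro h0
    apply hw₁a
    calc w₁ * a = g⁻¹ * (g * w₁ * g⁻¹ * (g * a * g⁻¹)) * g := by group
      _ = a * w₁ := by rw [h0]; group
  have hR1 : R c c' := hR c' hcA' c hcA ⟨w, hw, hwc⟩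
  have hu1 : w * (u : G) ≠ u * w := by
    refine hmv w (fun e he hne' => ?_) hwc
    by_contra h0
    obtain ⟨t, ht, het⟩ := (hP e).mp he
    have heA : (e : G) ∈ cls N a := by rw [het]; exact cls_conj hcA (hTN ht)
    have h2 := hR c' hcA' e heA ⟨w, hw, h0⟩
    apply hne'
    apply Subtype.ext
    show (e : G) = c
    rw [het]
    refine hst t ht ?_
    rw [← het]
    exact r.trans _ heA _ hcA' _ hcA h2 (r.symm _ hcA _ hcA' hR1)
  have hba : R b a := hR a a_cls b bA mov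
  have hu2 : w₁ * (u : G) = u * w₁ := by
    refine hall w₁ fun e he => ?_
    by_contra h0
    obtain ⟨t, ht, het⟩ := (hP e).mp he
    have heA : (e : G) ∈ cls N a := by rw [het]; exact cls_conj hcA (hTN ht)
    have h2 := r.trans _ heA _ bA _ a_cls (hR b bA e heA ⟨w₁, hw₁, h0⟩) hba
    apply hca
    have h3 := r.conj t⁻¹ (inv_mem (hTN ht)) _ heA _ a_cls h2
    have e1 : t⁻¹ * (e : G) * t⁻¹⁻¹ = c := by rw [het]; group
    have e2 : t⁻¹ * a * t⁻¹⁻¹ = a := by
      have := hTa t ht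
      calc t⁻¹ * a * t⁻¹⁻¹ = t⁻¹ * (a * t) := by group
        _ = a := by rw [← this]; group
    rwa [e1, e2] at h3
  rcases hfix u u.2 huT with e | e | e | e
  · rw [e] at hu1
    exact hu1 (by group)
  · rw [e] at hu1
    exact hu1 (nN w (h.WX c' hcA' w hw))
  · rw [e] at hu2
    exact hw₁a hu2
  · rw [e] at hu2
    apply hw₁a
    have h2 := nN w₁ (h.WX b bA w₁ hw₁)
    have h3 : n * (w₁ * a) = n * (a * w₁) := by
      calc n * (w₁ * a) = (n * w₁) * a := by group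
        _ = w₁ * (n * a) := by rw [← h2]; group
        _ = n * (a * w₁) := by rw [hu2]; group
    exact mul_left_cancel h3

end conn

/-! ### (c2) -/

section nb

variable {a b : G} {N U : Subgroup G} {Wf : G → Subgroup G}

/-- `a — b'`, `a — d`, `d — b'`: then `d` and `b'` are conjugate under `C_N(a)` -/
theorem conj_adj [Finite G] (h : Calc.Dat N U (cls N a) Wf) {b' d : G} (hb : b' ∈ cls N a) (hd : d ∈ cls N a)
    (hab : Adj Wf a b') (had : Adj Wf a d) (hbd : Adj Wf b' d) :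
    ∃ y ∈ N, y * a = a * y ∧ d = y * b' * y⁻¹ := by
  have hbU := h.OmA _ hb
  have hdU := h.OmA _ hd
  obtain ⟨v, hv, hvd⟩ := hbd
  have he : d * b' ∈ cls N a := by
    rw [← h.move hb hv hdU hvd]
    exact h.OmX v (h.WX _ hb v hv) d hd
  have heU := h.OmA _ he
  have hbe : Adj Wf b' (d * b') := by
    refine ⟨v, hv, fun h0 => hvd ?_⟩
    rw [h.comm_mul_iff hb hv hdU hbU] at h0
    exact h0.mpr (h.cen _ hb v hv)
  have heq : b' * (d * b') = d := by
    rw [h.comm d hdU b' hbU, ← mul_assoc, h.sq b' hbU, one_mul]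
  by_cases hae : Adj Wf a (d * b')
  · obtain ⟨f, hf, hfb, hfd⟩ : ∃ f ∈ Wf a, f * b' ≠ b' * f ∧ f * d ≠ d * f := by
      obtain ⟨wd, hwd, hwdd⟩ := had
      obtain ⟨wb, hwb, hwbb⟩ := hab
      by_cases h1 : wd * b' = b' * wd
      · by_cases h2 : wb * d = d * wb
        · refine ⟨wd * wb, mul_mem hwd hwb, ?_, ?_⟩
          · rw [Ne, h.mul_comm_iff a_cls hwd hwb hbU]
            tauto
          · rw [Ne, h.mul_comm_iff a_cls hwd hwb hdU]
            tauto
        · exact ⟨wb, hwb, hwbb, h2⟩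
      · exact ⟨wd, hwd, h1, hwdd⟩
    have hfe : f * (d * b') = d * b' * f := by
      rw [h.comm_mul_iff a_cls hf hdU hbU]
      tauto
    obtain ⟨f', hf', hf'u⟩ := h.s2 a a_cls _ he hae f hf hfe
    refine ⟨f', h.WX _ he _ hf', (hf'u a (h.OmA _ a_cls)).mpr (h.cen _ a_cls f hf), ?_⟩
    rw [h.move he hf' hbU (fun h0 => hfb ((hf'u b' hbU).mp h0)), heq]
  · obtain ⟨x, hx, hxb⟩ := h.sym b' hb _ he hbe
    refine ⟨x, h.WX _ he _ hx, ?_, ?_⟩
    · by_contra h0
      exact hae (h.sym _ he a a_cls ⟨x, hx, h0⟩)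
    · rw [h.move he hx hbU hxb, heq]

/-- **(c2)** -/
theorem conj_b [Finite G] (h : Calc.Dat N U (cls N a) Wf) (bA : b ∈ cls N a) (mov : Adj Wf a b) {d : G}
    (hd : d ∈ cls N a) (had : Adj Wf a d) : ∃ y ∈ N, y * a = a * y ∧ d = y * b * y⁻¹ := by
  by_cases hbd : Adj Wf b d
  · exact conj_adj h bA hd mov had hbd
  · have hbU := h.OmA _ bA
    have haU := h.OmA _ (a_cls (N := N) (a := a))
    obtain ⟨w₀, hw₀, hw₀b⟩ := mov
    have hw₀a := h.cen _ a_cls w₀ hw₀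
    have e1 : w₀ * b * w₀⁻¹ = b * a := h.move a_cls hw₀ hbU hw₀b
    have hb₂ : b * a ∈ cls N a := by
      rw [← e1]
      exact h.OmX w₀ (h.WX _ a_cls _ hw₀) b bA
    have h2 : Adj Wf a (b * a) := by
      refine ⟨w₀, hw₀, fun h0 => hw₀b ?_⟩
      rw [h.comm_mul_iff a_cls hw₀ hbU haU] at h0
      exact h0.mpr hw₀a
    obtain ⟨x, hx, hxa⟩ := h.sym a a_cls d hd had
    have h3 : x * b = b * x := by
      by_contra h0
      exact hbd (h.sym d hd b bA ⟨x, hx, h0⟩)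
    have h4 : Adj Wf d (b * a) := by
      refine ⟨x, hx, fun h0 => hxa ?_⟩
      rw [h.comm_mul_iff hd hx hbU haU] at h0
      exact h0.mp h3
    obtain ⟨y, hy, hya, hyd⟩ := conj_adj h hb₂ hd h2 had (h.sym d hd _ hb₂ h4)
    refine ⟨y * w₀, mul_mem hy (h.WX _ a_cls _ hw₀), ?_, ?_⟩
    · calc y * w₀ * a = y * (w₀ * a) := by group
        _ = (y * a) * w₀ := by rw [hw₀a]; group
        _ = a * (y * w₀) := by rw [hya]; group
    · rw [hyd, ← e1]
      group

/-! ### (c3) -/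

/-- connectivity -/
theorem path [Finite G] (h : Calc.Dat N U (cls N a) Wf) (hC : Conn N a Wf) :
    ∀ c ∈ cls N a, Relation.ReflTransGen (fun c d => c ∈ cls N a ∧ d ∈ cls N a ∧ Adj Wf c d) a c := by
  have hS : ∀ x y : G, Relation.ReflTransGen (fun c d => c ∈ cls N a ∧ d ∈ cls N a ∧ Adj Wf c d) x y →
      Relation.ReflTransGen (fun c d => c ∈ cls N a ∧ d ∈ cls N a ∧ Adj Wf c d) y x := by
    intro x y hxy
    induction hxy with
    | refl => exact Relation.ReflTransGen.refl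
    | @tail c d _ hcd ih =>
      exact Relation.ReflTransGen.head ⟨hcd.2.1, hcd.1, h.sym c hcd.1 d hcd.2.1 hcd.2.2⟩ ih
  have r : Rel N a (Relation.ReflTransGen (fun c d => c ∈ cls N a ∧ d ∈ cls N a ∧ Adj Wf c d)) :=
    { refl := fun c _ => Relation.ReflTransGen.refl
      symm := fun c _ d _ hcd => hS _ _ hcd
      trans := fun c _ d _ e _ h1 h2 => h1.trans h2
      conj := by
        intro g hg c _ d _ hcd
        induction hcd with
        | refl => exact Relation.ReflTransGen.refl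
        | @tail x y _ hxy ih =>
          obtain ⟨hx, hy, w, hw, hxy⟩ := hxy
          refine (ih hx).tail ⟨cls_conj hx hg, cls_conj hy hg, g * w * g⁻¹, h.eqv g hg x hx w hw, fun h0 => hxy ?_⟩
          calc w * y = g⁻¹ * (g * w * g⁻¹ * (g * y * g⁻¹)) * g := by group
            _ = y * w := by rw [h0]; group }
  intro c hc
  exact hS _ _ (hC _ r (fun c hc d hd hcd => Relation.ReflTransGen.single ⟨hc, hd, hcd⟩) c hc)

/-- **(iii)** -/
theorem near [Finite G] (h : Calc.Dat N U (cls N a) Wf) {c : G}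
    (hp : Relation.ReflTransGen (fun c d => c ∈ cls N a ∧ d ∈ cls N a ∧ Adj Wf c d) a c) :
    c = a ∨ Adj Wf a c ∨ ∃ d ∈ cls N a, Adj Wf a d ∧ Adj Wf d c := by
  induction hp with
  | refl => exact Or.inl rfl
  | @tail c c' _ hcc ih =>
    obtain ⟨hc, hc', hcc'⟩ := hcc
    rcases ih with rfl | hac | ⟨d, hd, had, hdc⟩
    · exact Or.inr (Or.inl hcc')
    · exact Or.inr (Or.inr ⟨c, hc, hac, hcc'⟩)
    · by_cases hac : Adj Wf a c
      · exact Or.inr (Or.inr ⟨c, hc, hac, hcc'⟩)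
      by_cases hdc' : Adj Wf d c'
      · exact Or.inr (Or.inr ⟨d, hd, had, hdc'⟩)
      have hcU := h.OmA _ hc
      have hdU := h.OmA _ hd
      obtain ⟨v, hv, hvc⟩ := hdc
      have he : c * d ∈ cls N a := by
        rw [← h.move hd hv hcU hvc]
        exact h.OmX v (h.WX _ hd v hv) c hc
      refine Or.inr (Or.inr ⟨c * d, he, ?_, ?_⟩)
      · obtain ⟨w, hw, hwd⟩ := had
        refine ⟨w, hw, fun h0 => hwd ?_⟩
        rw [h.comm_mul_iff a_cls hw hcU hdU] at h0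
        refine h0.mp ?_
        by_contra h2
        exact hac ⟨w, hw, h2⟩
      · obtain ⟨x, hx, hxc⟩ := h.sym c hc c' hc' hcc'
        refine h.sym c' hc' _ he ⟨x, hx, fun h0 => hxc ?_⟩
        rw [h.comm_mul_iff hc' hx hcU hdU] at h0
        refine h0.mpr ?_
        by_contra h2
        exact hdc' (h.sym c' hc' d hd ⟨x, hx, h2⟩)

/-- **(c3)** -/
theorem comm_all [Finite G]
    (h : Calc.Dat N U (cls N a) Wf) (hC : Conn N a Wf) (bA : b ∈ cls N a) (mov : Adj Wf a b)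
    {K : Subgroup G} (hK : ∀ y ∈ N, y * a = a * y → ∀ k ∈ K, y * k * y⁻¹ ∈ K)
    (hKa : ∀ k ∈ K, k * a = a * k) (hKb : ∀ k ∈ K, k * b = b * k) :
    ∀ k ∈ K, ∀ c ∈ cls N a, k * c = c * k := by
  have key : ∀ k ∈ K, ∀ c ∈ cls N a, Adj Wf a c → k * c = c * k := by
    intro k hk c hc hac
    obtain ⟨y, hy, hya, rfl⟩ := conj_b h bA mov hc hac
    have h2 := hKb _ (hK y⁻¹ (inv_mem hy) (by
      calc y⁻¹ * a = y⁻¹ * (a * y) * y⁻¹ := by group
        _ = a * y⁻¹ := by rw [← hya]; group) k hk)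
    calc k * (y * b * y⁻¹) = y * (y⁻¹ * k * y⁻¹⁻¹ * b) * y⁻¹ := by group
      _ = y * b * y⁻¹ * k := by rw [h2]; group
  intro k hk c hc
  rcases near h (path h hC c hc) with rfl | hac | ⟨d, hd, had, hdc⟩
  · exact hKa k hk
  · exact key k hk c hc hac
  · by_cases hac : Adj Wf a c
    · exact key k hk c hc hac
    have hcU := h.OmA _ hc
    have hdU := h.OmA _ hd
    obtain ⟨v, hv, hvc⟩ := hdc
    have he : c * d ∈ cls N a := by
      rw [← h.move hd hv hcU hvc]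
      exact h.OmX v (h.WX _ hd v hv) c hc
    have h2 : Adj Wf a (c * d) := by
      obtain ⟨w, hw, hwd⟩ := had
      refine ⟨w, hw, fun h0 => hwd ?_⟩
      rw [h.comm_mul_iff a_cls hw hcU hdU] at h0
      refine h0.mp ?_
      by_contra h2
      exact hac ⟨w, hw, h2⟩
    have h3 := key k hk _ he h2
    have h4 := key k hk d hd had
    have h5 : k * c * d = c * k * d := by
      calc k * c * d = k * (c * d) := by group
        _ = c * (d * k) := by rw [h3]; group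
        _ = c * k * d := by rw [← h4]; group
    exact mul_right_cancel h5

end nb

end Cfsg.Agent.Omega.TTn.BZero

end
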