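import Cfsg.Agent.Mrg.Omega.TTn.DiCoreAbs
import Cfsg.Agent.Mrg.Omega.TTn.BZero
import Cfsg.Agent.Mrg.Omega.TTn.Dih
import Cfsg.Agent.Mrg.Omega.S5.Pair
import Cfsg.Agent.Mrg.Omega.NSix.TkPair
import Cfsg.Agent.Mrg.Omega.S5.Syl
import Cfsg.Agent.Mrg.Omega.TTn.TwoTypes

-- merged: Cfsg.Agent.Mrg.Omega.TTn.Z.Conn
section

/-!
# `a ^ C(n)` is connected (#15257 (5) of helper816; arbitrary `V₀`)

* `orbit`: a 2-group `T` with exactly one fixed point `a` on `cls N a`, `R` an `N`-invariant equivalence relation: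
  in every block there is a `c` fixed by the stabiliser of the block in `T`, and `u` = product of the `T`-orbit of `c`;
* `Con.conn`: `cls N a` is connected with respect to `[Wf c, d] ≠ 1`.
-/

set_option autoImplicit false
set_option linter.unusedSectionVars false

namespace Cfsg.Agent.Omega.TTn.Z.Conn

open Subgroup
open Cfsg.Agent.Omega.S5.ChiConst (cls)
open Cfsg.Agent.Omega.TTn.Calc (conj_eq_iff comm_conj_iff)

variable {G : Type*} [Group G]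

theorem cls_conj {N : Subgroup G} {a c g : G} (hc : c ∈ cls N a) (hg : g ∈ N) : g * c * g⁻¹ ∈ cls N a := by
  obtain ⟨k, hk, rfl⟩ := hc
  exact ⟨g * k, mul_mem hg hk, by group⟩

theorem cls_conj' {N : Subgroup G} {a c g : G} (hc : c ∈ cls N a) (hg : g ∈ N) : g⁻¹ * c * g ∈ cls N a := by
  have := cls_conj hc (inv_mem hg)
  rwa [inv_inv] at this

theorem a_cls {N : Subgroup G} {a : G} : a ∈ cls N a := ⟨1, one_mem _, by group⟩

/-! ### The orbit lemma -/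

/-- an equivalence relation on `cls N a` invariant under `N` -/
structure Rel (N : Subgroup G) (a : G) (R : G → G → Prop) : Prop where
  refl : ∀ c ∈ cls N a, R c c
  symm : ∀ c ∈ cls N a, ∀ d ∈ cls N a, R c d → R d c
  trans : ∀ c ∈ cls N a, ∀ d ∈ cls N a, ∀ e ∈ cls N a, R c d → R d e → R c e
  inv : ∀ g ∈ N, ∀ c ∈ cls N a, ∀ d ∈ cls N a, R c d → R (g * c * g⁻¹) (g * d * g⁻¹)

/-- the block of `c` -/
def Bl (N : Subgroup G) (a : G) (R : G → G → Prop) (c : G) : Type _ := {d : G // d ∈ cls N a ∧ R d c}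

/-- a subgroup of `N` stabilising the block acts on it -/
@[reducible] def blAct {N : Subgroup G} {a : G} {R : G → G → Prop} (h : Rel N a R) {c : G} (hc : c ∈ cls N a)
    (K : Subgroup G) (hK : K ≤ N) (hS : ∀ k ∈ K, R (k * c * k⁻¹) c) : MulAction K (Bl N a R c) where
  smul k d := ⟨k * d.1 * (k : G)⁻¹, cls_conj d.2.1 (hK k.2),
    h.trans _ (cls_conj d.2.1 (hK k.2)) _ (cls_conj hc (hK k.2)) _ hc
      (h.inv k (hK k.2) _ d.2.1 _ hc d.2.2) (hS k k.2)⟩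
  one_smul d := Subtype.ext (by
    show (1 : G) * d.1 * (1 : G)⁻¹ = d.1
    group)
  mul_smul k l d := Subtype.ext (by
    show ((k * l : K) : G) * d.1 * ((k * l : K) : G)⁻¹ = k * (l * d.1 * (l : G)⁻¹) * (k : G)⁻¹
    rw [Subgroup.coe_mul]
    group)

/-- all blocks have the same size -/
theorem card_bl {N : Subgroup G} {a : G} {R : G → G → Prop} (h : Rel N a R) {c : G} (hc : c ∈ cls N a) :
    Nat.card (Bl N a R c) = Nat.card (Bl N a R a) := by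
  obtain ⟨g, hg, rfl⟩ := hc
  refine Nat.card_congr ⟨fun d => ⟨g⁻¹ * d.1 * g, cls_conj' d.2.1 hg, ?_⟩,
    fun d => ⟨g * d.1 * g⁻¹, cls_conj d.2.1 hg, h.inv g hg _ d.2.1 _ a_cls d.2.2⟩,
    fun d => Subtype.ext (by dsimp only; group), fun d => Subtype.ext (by dsimp only; group)⟩
  have h1 := h.inv g⁻¹ (inv_mem hg) _ d.2.1 _ (cls_conj a_cls hg) d.2.2
  have e : g⁻¹ * (g * a * g⁻¹) * g⁻¹⁻¹ = a := by group
  rwa [e, inv_inv] at h1

theorem orbit [Finite G] {a : G} {N U T : Subgroup G} {R : G → G → Prop} (h : Rel N a R)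
    (hcU : ∀ c ∈ cls N a, c ∈ U) (hUN : ∀ g ∈ N, ∀ u ∈ U, g * u * g⁻¹ ∈ U)
    (Ucomm : ∀ u ∈ U, ∀ v ∈ U, u * v = v * u) (hT : IsPGroup 2 T) (hTN : T ≤ N)
    (hTa : ∀ t ∈ T, t * a = a * t) (heq : ∀ c ∈ cls N a, (∀ t ∈ T, t * c = c * t) → c = a)
    {c₀ : G} (hc₀ : c₀ ∈ cls N a) :
    ∃ c ∈ cls N a, R c c₀ ∧ (∀ t ∈ T, R (t * c * t⁻¹) c → t * c * t⁻¹ = c) ∧
      ∃ u ∈ U, (∀ t ∈ T, t * u = u * t) ∧
      (∀ w, (∀ t ∈ T, t * c * t⁻¹ ≠ c → w * (t * c * t⁻¹) = t * c * t⁻¹ * w) → w * c ≠ c * w →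
        w * u ≠ u * w) ∧
      (∀ w, (∀ t ∈ T, w * (t * c * t⁻¹) = t * c * t⁻¹ * w) → w * u = u * w) := by
  classical
  have hodd : ¬ 2 ∣ Nat.card (Bl N a R a) := by
    let _ := blAct h a_cls T hTN (fun t ht => by
      have e : t * a * t⁻¹ = a := conj_eq_iff.2 (hTa t ht)
      rw [e]
      exact h.refl _ a_cls)
    have := Fact.mk Nat.prime_two
    have : Finite (Bl N a R a) := Subtype.finite
    have h2 := hT.card_modEq_card_fixedPoints (Bl N a R a)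
    have h3 : Nat.card (MulAction.fixedPoints T (Bl N a R a)) = 1 := by
      rw [Nat.card_eq_one_iff_unique]
      have key : ∀ d : MulAction.fixedPoints T (Bl N a R a), d.1.1 = a := by
        rintro ⟨d, hd⟩
        refine heq _ d.2.1 fun t ht => ?_
        have h5 : t * d.1 * t⁻¹ = d.1 := congrArg Subtype.val (hd ⟨t, ht⟩)
        exact conj_eq_iff.1 h5
      refine ⟨⟨fun x y => Subtype.ext (Subtype.ext ((key x).trans (key y).symm))⟩,
        ⟨⟨⟨a, a_cls, h.refl _ a_cls⟩, fun t => Subtype.ext ?_⟩⟩⟩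
      exact conj_eq_iff.2 (hTa t t.2)
    rw [h3] at h2
    intro h4
    have h5 := (Nat.modEq_zero_iff_dvd.mpr h4).symm.trans h2
    exact absurd h5 (by decide)
  let T₂ : Subgroup G :=
    { carrier := {t | t ∈ T ∧ R (t * c₀ * t⁻¹) c₀}
      one_mem' := ⟨one_mem _, by
        have e : (1 : G) * c₀ * 1⁻¹ = c₀ := by group
        rw [e]
        exact h.refl _ hc₀⟩
      mul_mem' := by
        rintro t s ⟨ht, ht'⟩ ⟨hs, hs'⟩
        refine ⟨mul_mem ht hs, ?_⟩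
        have h2 := h.inv t (hTN ht) _ (cls_conj hc₀ (hTN hs)) _ hc₀ hs'
        have e : t * s * c₀ * (t * s)⁻¹ = t * (s * c₀ * s⁻¹) * t⁻¹ := by group
        rw [e]
        exact h.trans _ (cls_conj (cls_conj hc₀ (hTN hs)) (hTN ht)) _ (cls_conj hc₀ (hTN ht)) _ hc₀ h2 ht'
      inv_mem' := by
        rintro t ⟨ht, ht'⟩
        refine ⟨inv_mem ht, ?_⟩
        have h2 := h.inv t⁻¹ (inv_mem (hTN ht)) _ (cls_conj hc₀ (hTN ht)) _ hc₀ ht'
        have e : t⁻¹ * (t * c₀ * t⁻¹) * t⁻¹⁻¹ = c₀ := by group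
        rw [e] at h2
        exact h.symm _ hc₀ _ (cls_conj hc₀ (inv_mem (hTN ht))) h2 }
  obtain ⟨c, hcS, hcT⟩ : ∃ c : G, (c ∈ cls N a ∧ R c c₀) ∧ ∀ t ∈ T₂, t * c * t⁻¹ = c := by
    let _ := blAct h hc₀ T₂ (fun t ht => hTN ht.1) (fun t ht => ht.2)
    have := Fact.mk Nat.prime_two
    have : Finite (Bl N a R c₀) := Subtype.finite
    have hT₂ : IsPGroup 2 T₂ := hT.to_le (fun t ht => ht.1)
    obtain ⟨d, hd⟩ := hT₂.nonempty_fixed_point_of_prime_not_dvd_card (Bl N a R c₀)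
      (by rw [card_bl h hc₀]; exact hodd)
    exact ⟨d.1, d.2, fun t ht => congrArg Subtype.val (hd ⟨t, ht⟩)⟩
  have hcA := hcS.1
  have hcU' := hcU c hcA
  have hst : ∀ t ∈ T, R (t * c * t⁻¹) c → t * c * t⁻¹ = c := by
    intro t ht hs
    refine hcT t ⟨ht, ?_⟩
    have h2 := h.inv t (hTN ht) _ hcA _ hc₀ hcS.2
    exact h.trans _ (cls_conj hc₀ (hTN ht)) _ (cls_conj hcA (hTN ht)) _ hc₀
      (h.symm _ (cls_conj hcA (hTN ht)) _ (cls_conj hc₀ (hTN ht)) h2)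
      (h.trans _ (cls_conj hcA (hTN ht)) _ hcA _ hc₀ hs hcS.2)
  refine ⟨c, hcA, hcS.2, hst, ?_⟩
  let _ : CommGroup U := { (inferInstance : Group U) with
    mul_comm := fun x y => Subtype.ext (Ucomm x x.2 y y.2) }
  let _ : Fintype U := Fintype.ofFinite U
  let O : Finset U := Finset.univ.filter (fun e : U => ∃ t ∈ T, (e : G) = t * c * t⁻¹)
  have hO : ∀ e : U, e ∈ O ↔ ∃ t ∈ T, (e : G) = t * c * t⁻¹ := fun e => by
    simp only [O, Finset.mem_filter, Finset.mem_univ, true_and]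
  let φ : ∀ g ∈ N, (U →* U) := fun g hg => MonoidHom.mk' (fun e => ⟨g * e * g⁻¹, hUN g hg e e.2⟩)
    (fun x y => Subtype.ext (by
      show g * ((x * y : U) : G) * g⁻¹ = g * x * g⁻¹ * (g * y * g⁻¹)
      rw [Subgroup.coe_mul]
      group))
  set u : U := ∏ e ∈ O, e with hu
  have hcO : (⟨c, hcU'⟩ : U) ∈ O := (hO _).mpr ⟨1, one_mem _, by group⟩
  have huT : ∀ t ∈ T, t * (u : G) = u * t := by
    intro t ht
    have h2 : φ t (hTN ht) u = u := by
      rw [hu, map_prod]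
      refine Finset.prod_nbij' (fun e => φ t (hTN ht) e) (fun e => φ t⁻¹ (inv_mem (hTN ht)) e)
        ?_ ?_ ?_ ?_ ?_
      · intro e he
        obtain ⟨s, hs, hes⟩ := (hO e).mp he
        refine (hO _).mpr ⟨t * s, mul_mem ht hs, ?_⟩
        show t * (e : G) * t⁻¹ = _
        rw [hes]
        group
      · intro e he
        obtain ⟨s, hs, hes⟩ := (hO e).mp he
        refine (hO _).mpr ⟨t⁻¹ * s, mul_mem (inv_mem ht) hs, ?_⟩
        show t⁻¹ * (e : G) * t⁻¹⁻¹ = _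
        rw [hes]
        group
      · intro e _
        apply Subtype.ext
        show t⁻¹ * (t * (e : G) * t⁻¹) * t⁻¹⁻¹ = e
        group
      · intro e _
        apply Subtype.ext
        show t * (t⁻¹ * (e : G) * t⁻¹⁻¹) * t⁻¹ = e
        group
      · intro e _
        rfl
    have h3 : t * (u : G) * t⁻¹ = u := congrArg Subtype.val h2
    exact conj_eq_iff.1 h3
  have hmv : ∀ w : G, (∀ e ∈ O, e ≠ ⟨c, hcU'⟩ → w * (e : G) = e * w) → w * c ≠ c * w →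
      w * (u : G) ≠ u * w := by
    intro w hw hwc h0
    have h2 : ((∏ e ∈ O.erase ⟨c, hcU'⟩, e : U) : G) ∈ centralizer ({w} : Set G) := by
      have h3 : (∏ e ∈ O.erase ⟨c, hcU'⟩, e : U) ∈ (centralizer ({w} : Set G)).subgroupOf U := by
        refine prod_mem fun e he => ?_
        rw [mem_subgroupOf, mem_centralizer_singleton_iff]
        exact (hw e (Finset.mem_of_mem_erase he) (Finset.ne_of_mem_erase he)).symm
      exact h3
    rw [mem_centralizer_singleton_iff] at h2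
    have h3 : (u : G) = c * ((∏ e ∈ O.erase ⟨c, hcU'⟩, e : U) : G) := by
      have h4 := Finset.mul_prod_erase O (fun e => e) hcO
      rw [hu, ← h4]
      rfl
    rw [h3] at h0
    apply hwc
    have h4 : w * c * ((∏ e ∈ O.erase ⟨c, hcU'⟩, e : U) : G) =
        c * w * ((∏ e ∈ O.erase ⟨c, hcU'⟩, e : U) : G) := by
      calc w * c * _ = w * (c * ((∏ e ∈ O.erase ⟨c, hcU'⟩, e : U) : G)) := by group
        _ = c * (((∏ e ∈ O.erase ⟨c, hcU'⟩, e : U) : G) * w) := by rw [h0]; group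
        _ = c * w * _ := by rw [h2]; group
    exact mul_right_cancel h4
  have hall : ∀ w : G, (∀ e ∈ O, w * (e : G) = e * w) → w * (u : G) = u * w := by
    intro w hw
    have h3 : (∏ e ∈ O, e : U) ∈ (centralizer ({w} : Set G)).subgroupOf U := by
      refine prod_mem fun e he => ?_
      rw [mem_subgroupOf, mem_centralizer_singleton_iff]
      exact (hw e he).symm
    rw [mem_subgroupOf, mem_centralizer_singleton_iff] at h3
    exact h3.symm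
  refine ⟨u, u.2, huT, fun w hw hwc => hmv w (fun e he hne => ?_) hwc, fun w hw => hall w fun e he => ?_⟩
  · obtain ⟨t, ht, het⟩ := (hO e).mp he
    rw [het]
    refine hw t ht fun h0 => hne (Subtype.ext ?_)
    rw [het]
    exact h0
  · obtain ⟨t, ht, het⟩ := (hO e).mp he
    rw [het]
    exact hw t ht

/-! ### Partners, adjacency, components -/

/-- the partners of `p`: `(p, d)` is conjugate to `(n, a)` -/
def AA (n a p : G) : Set G := {d | ∃ g, g * n * g⁻¹ = p ∧ g * a * g⁻¹ = d}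

/-- adjacency among the partners of `p` -/
def adj (n a : G) (Wf : G → Subgroup G) (p c d : G) : Prop :=
  c ∈ AA n a p ∧ d ∈ AA n a p ∧ ∃ w ∈ Wf c, w * d ≠ d * w

/-- connectedness among the partners of `p` -/
def cn (n a : G) (Wf : G → Subgroup G) (p : G) : G → G → Prop := Relation.ReflTransGen (adj n a Wf p)

theorem AA_n {n a d : G} : d ∈ AA n a n ↔ d ∈ cls (centralizer ({n} : Set G)) a := by
  constructor
  · rintro ⟨g, hg, hd⟩
    exact ⟨g, mem_centralizer_singleton_iff.2 (conj_eq_iff.1 hg), hd.symm⟩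
  · rintro ⟨g, hg, hd⟩
    exact ⟨g, conj_eq_iff.2 (mem_centralizer_singleton_iff.1 hg), hd.symm⟩

theorem AA_conj {n a p d : G} (g : G) (hd : d ∈ AA n a p) : g * d * g⁻¹ ∈ AA n a (g * p * g⁻¹) := by
  obtain ⟨k, hk, hk'⟩ := hd
  refine ⟨g * k, ?_, ?_⟩
  · rw [← hk]; group
  · rw [← hk']; group

theorem rtg_symm {r : G → G → Prop} (hr : ∀ c d, r c d → r d c) {c d : G} (h : Relation.ReflTransGen r c d) :
    Relation.ReflTransGen r d c := by
  induction h with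
  | refl => exact Relation.ReflTransGen.refl
  | tail _ h2 ih => exact Relation.ReflTransGen.head (hr _ _ h2) ih

/-- The data: `x` exchanges `n` and `a`, `T` is a 2-group in `C(n) ∩ C(a)` with few fixed points. -/
structure Con (n a b x : G) (U T V0 : Subgroup G) (Wf : G → Subgroup G) : Prop where
  cal : Calc.Dat (centralizer ({n} : Set G)) U (cls (centralizer ({n} : Set G)) a) Wf
  eqv : ∀ g c w, w ∈ Wf c → g * w * g⁻¹ ∈ Wf (g * c * g⁻¹)
  xn : x * n * x⁻¹ = a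
  xa : x * a * x⁻¹ = n
  nU : n ∈ U
  hT : IsPGroup 2 T
  hTN : ∀ t ∈ T, t * n = n * t
  hTa : ∀ t ∈ T, t * a = a * t
  heq : ∀ c ∈ cls (centralizer ({n} : Set G)) a, (∀ t ∈ T, t * c = c * t) → c = a
  fix : ∀ u ∈ U, (∀ t ∈ T, t * u = u * t) → ∃ v ∈ V0, u = v ∨ u = v * n ∨ u = v * a ∨ u = v * (n * a)
  V0x : ∀ v ∈ V0, x * v = v * x
  V0b : ∀ v ∈ V0, ∀ w ∈ Wf b, w * v = v * w
  bA : b ∈ cls (centralizer ({n} : Set G)) a
  ab : ∃ w ∈ Wf a, w * b ≠ b * w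
  bb : ∃ w ∈ Wf (x * b * x⁻¹), w * b ≠ b * w
  kk : ∃ k, k ∈ Wf a ⊔ Wf b ∧ k * a * k⁻¹ = b

namespace Con

variable {n a b x : G} {U T V0 : Subgroup G} {Wf : G → Subgroup G} (h : Con n a b x U T V0 Wf)
include h

theorem eqv_iff {g c w : G} : g⁻¹ * w * g ∈ Wf c ↔ w ∈ Wf (g * c * g⁻¹) := by
  constructor
  · intro hw
    have := h.eqv g _ _ hw
    have e : g * (g⁻¹ * w * g) * g⁻¹ = w := by group
    rwa [e] at this
  · intro hw
    have := h.eqv g⁻¹ _ _ hw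
    have e : g⁻¹ * (g * c * g⁻¹) * g⁻¹⁻¹ = c := by group
    rwa [e, inv_inv] at this

theorem swap {p d : G} (hd : d ∈ AA n a p) : p ∈ AA n a d := by
  obtain ⟨g, hg, hg'⟩ := hd
  refine ⟨g * x, ?_, ?_⟩
  · have e : g * x * n * (g * x)⁻¹ = g * (x * n * x⁻¹) * g⁻¹ := by group
    rw [e, h.xn, hg']
  · have e : g * x * a * (g * x)⁻¹ = g * (x * a * x⁻¹) * g⁻¹ := by group
    rw [e, h.xa, hg]

theorem adj_conj (g : G) {p c d : G} (ha : adj n a Wf p c d) :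
    adj n a Wf (g * p * g⁻¹) (g * c * g⁻¹) (g * d * g⁻¹) := by
  obtain ⟨hc, hd, w, hw, hwd⟩ := ha
  refine ⟨AA_conj g hc, AA_conj g hd, g * w * g⁻¹, h.eqv g c w hw, fun h0 => hwd ?_⟩
  have h1 := comm_conj_iff.1 h0
  have e : g⁻¹ * (g * d * g⁻¹) * g = d := by group
  rwa [e] at h1

theorem cn_conj (g : G) {p c d : G} (hc : cn n a Wf p c d) :
    cn n a Wf (g * p * g⁻¹) (g * c * g⁻¹) (g * d * g⁻¹) := by
  induction hc with
  | refl => exact Relation.ReflTransGen.refl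
  | tail _ h2 ih => exact ih.tail (h.adj_conj g h2)

theorem cn_conj_n {g : G} (hg : g * n = n * g) {c d : G} (hc : cn n a Wf n c d) :
    cn n a Wf n (g * c * g⁻¹) (g * d * g⁻¹) := by
  have := h.cn_conj g hc
  rwa [conj_eq_iff.2 hg] at this

theorem x_inv_a : x⁻¹ * a * x = n := by rw [← h.xn]; group

theorem x_inv_n : x⁻¹ * n * x = a := by rw [← h.xa]; group

variable [Finite G]

theorem adj_symm_n {c d : G} (hcd : adj n a Wf n c d) : adj n a Wf n d c := by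
  obtain ⟨hc, hd, hw⟩ := hcd
  exact ⟨hd, hc, h.cal.sym c (AA_n.1 hc) d (AA_n.1 hd) hw⟩

theorem adj_symm_a {c d : G} (hcd : adj n a Wf a c d) : adj n a Wf a d c := by
  have h1 := h.adj_conj x⁻¹ hcd
  rw [inv_inv, h.x_inv_a] at h1
  have h2 := h.adj_conj x (h.adj_symm_n h1)
  rw [h.xn] at h2
  have e1 : x * (x⁻¹ * d * x) * x⁻¹ = d := by group
  have e2 : x * (x⁻¹ * c * x) * x⁻¹ = c := by group
  rwa [e1, e2] at h2

theorem cn_symm_n {c d : G} (hcd : cn n a Wf n c d) : cn n a Wf n d c :=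
  rtg_symm (fun _ _ h1 => h.adj_symm_n h1) hcd

theorem cn_symm_a {c d : G} (hcd : cn n a Wf a c d) : cn n a Wf a d c :=
  rtg_symm (fun _ _ h1 => h.adj_symm_a h1) hcd

theorem rel : Rel (centralizer ({n} : Set G)) a (cn n a Wf n) where
  refl _ _ := Relation.ReflTransGen.refl
  symm _ _ _ _ h1 := h.cn_symm_n h1
  trans _ _ _ _ _ _ h1 h2 := h1.trans h2
  inv _ hg _ _ _ _ h1 := h.cn_conj_n (mem_centralizer_singleton_iff.1 hg) h1

theorem adj_ab : adj n a Wf n a b := ⟨AA_n.2 a_cls, AA_n.2 h.bA, h.ab⟩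

/-- members outside the component of `a` do not see `a`, `b` -/
theorem far {e : G} (he : e ∈ cls (centralizer ({n} : Set G)) a) (hne : ¬ cn n a Wf n a e) :
    (∀ w ∈ Wf e, w * n = n * w ∧ w * a = a * w) ∧ (∀ w ∈ Wf a, w * e = e * w) ∧
      ∀ w ∈ Wf b, w * e = e * w := by
  refine ⟨fun w hw => ⟨mem_centralizer_singleton_iff.1 (h.cal.WX e he w hw), ?_⟩, fun w hw => ?_,
    fun w hw => ?_⟩
  · by_contra h0
    exact hne (Relation.ReflTransGen.single (h.adj_symm_n ⟨AA_n.2 he, AA_n.2 a_cls, w, hw, h0⟩))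
  · by_contra h0
    exact hne (Relation.ReflTransGen.single ⟨AA_n.2 a_cls, AA_n.2 he, w, hw, h0⟩)
  · by_contra h0
    exact hne ((Relation.ReflTransGen.single h.adj_ab).tail ⟨AA_n.2 h.bA, AA_n.2 he, w, hw, h0⟩)

/-- `Y = C(n) ∩ C(a)`, extended by `x` -/
def XX (n a : G) : Subgroup G where
  carrier := {g | (g * n * g⁻¹ = n ∧ g * a * g⁻¹ = a) ∨ (g * n * g⁻¹ = a ∧ g * a * g⁻¹ = n)}
  one_mem' := Or.inl ⟨by group, by group⟩
  mul_mem' := by
    rintro g k (⟨h1, h2⟩ | ⟨h1, h2⟩) (⟨h3, h4⟩ | ⟨h3, h4⟩)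
    · left
      refine ⟨?_, ?_⟩
      · rw [show g * k * n * (g * k)⁻¹ = g * (k * n * k⁻¹) * g⁻¹ by group, h3, h1]
      · rw [show g * k * a * (g * k)⁻¹ = g * (k * a * k⁻¹) * g⁻¹ by group, h4, h2]
    · right
      refine ⟨?_, ?_⟩
      · rw [show g * k * n * (g * k)⁻¹ = g * (k * n * k⁻¹) * g⁻¹ by group, h3, h2]
      · rw [show g * k * a * (g * k)⁻¹ = g * (k * a * k⁻¹) * g⁻¹ by group, h4, h1]
    · right
      refine ⟨?_, ?_⟩
      · rw [show g * k * n * (g * k)⁻¹ = g * (k * n * k⁻¹) * g⁻¹ by group, h3, h1]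
      · rw [show g * k * a * (g * k)⁻¹ = g * (k * a * k⁻¹) * g⁻¹ by group, h4, h2]
    · left
      refine ⟨?_, ?_⟩
      · rw [show g * k * n * (g * k)⁻¹ = g * (k * n * k⁻¹) * g⁻¹ by group, h3, h2]
      · rw [show g * k * a * (g * k)⁻¹ = g * (k * a * k⁻¹) * g⁻¹ by group, h4, h1]
  inv_mem' := by
    rintro g (⟨h1, h2⟩ | ⟨h1, h2⟩)
    · left
      refine ⟨?_, ?_⟩
      · calc g⁻¹ * n * g⁻¹⁻¹ = g⁻¹ * (g * n * g⁻¹) * g⁻¹⁻¹ := by rw [h1]
          _ = n := by group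
      · calc g⁻¹ * a * g⁻¹⁻¹ = g⁻¹ * (g * a * g⁻¹) * g⁻¹⁻¹ := by rw [h2]
          _ = a := by group
    · right
      refine ⟨?_, ?_⟩
      · calc g⁻¹ * n * g⁻¹⁻¹ = g⁻¹ * (g * a * g⁻¹) * g⁻¹⁻¹ := by rw [h2]
          _ = a := by group
      · calc g⁻¹ * a * g⁻¹⁻¹ = g⁻¹ * (g * n * g⁻¹) * g⁻¹⁻¹ := by rw [h1]
          _ = n := by group

omit h [Finite G] in
theorem mem_XX {g : G} (h1 : g * n = n * g) (h2 : g * a = a * g) : g ∈ XX n a :=
  Or.inl ⟨conj_eq_iff.2 h1, conj_eq_iff.2 h2⟩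

theorem x_mem_XX : x ∈ XX n a := Or.inr ⟨h.xn, h.xa⟩

/-- `⟨v ^ Y⟩` -/
def V3 (n a v : G) : Subgroup G := closure {y | ∃ g, g * n = n * g ∧ g * a = a * g ∧ y = g * v * g⁻¹}

omit h [Finite G] in
theorem self_mem_V3 {v : G} : v ∈ V3 n a v :=
  subset_closure ⟨1, by group, by group, by group⟩

theorem V3_le {v : G} (hv : v ∈ U) : V3 n a v ≤ U := by
  rw [V3, closure_le]
  rintro _ ⟨g, hg, -, rfl⟩
  exact h.cal.norm g (mem_centralizer_singleton_iff.2 hg) v hv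

theorem V3_norm {v : G} (hv : x * v = v * x) {g y : G} (hg : g ∈ XX n a) (hy : y ∈ V3 n a v) :
    g * y * g⁻¹ ∈ V3 n a v := by
  induction hy using closure_induction with
  | mem y hy =>
    obtain ⟨k, hk1, hk2, rfl⟩ := hy
    rcases hg with ⟨h1, h2⟩ | ⟨h1, h2⟩
    · rw [conj_eq_iff] at h1 h2
      refine subset_closure ⟨g * k, ?_, ?_, by group⟩
      · rw [mul_assoc, hk1, ← mul_assoc, h1, mul_assoc]
      · rw [mul_assoc, hk2, ← mul_assoc, h2, mul_assoc]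
    · refine subset_closure ⟨g * k * x⁻¹, ?_, ?_, ?_⟩
      · rw [← conj_eq_iff]
        have e : g * k * x⁻¹ * n * (g * k * x⁻¹)⁻¹ = g * (k * (x⁻¹ * n * x) * k⁻¹) * g⁻¹ := by group
        rw [e, h.x_inv_n, conj_eq_iff.2 hk2, h2]
      · rw [← conj_eq_iff]
        have e : g * k * x⁻¹ * a * (g * k * x⁻¹)⁻¹ = g * (k * (x⁻¹ * a * x) * k⁻¹) * g⁻¹ := by group
        rw [e, h.x_inv_a, conj_eq_iff.2 hk1, h1]
      · have e : g * k * x⁻¹ * v * (g * k * x⁻¹)⁻¹ = g * k * (x⁻¹ * v * x) * (g * k)⁻¹ := by group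
        have e2 : x⁻¹ * v * x = v := by
          calc x⁻¹ * v * x = x⁻¹ * (v * x) := by group
            _ = x⁻¹ * (x * v) := by rw [hv]
            _ = v := by group
        rw [e, e2]
        group
  | one =>
    have e : g * 1 * g⁻¹ = 1 := by group
    rw [e]
    exact one_mem _
  | mul y z _ _ hy hz =>
    have e : g * (y * z) * g⁻¹ = g * y * g⁻¹ * (g * z * g⁻¹) := by group
    rw [e]
    exact mul_mem hy hz
  | inv y _ hy =>
    have e : g * y⁻¹ * g⁻¹ = (g * y * g⁻¹)⁻¹ := by group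
    rw [e]
    exact inv_mem hy

/-- the calculus on `V₃ = ⟨v ^ Y⟩` for the class of `c` under `Y⟨x⟩` -/
theorem calX {v c : G} (hxv : x * v = v * x) (hv : v ∈ U) (hc : c ∈ cls (centralizer ({n} : Set G)) a)
    (hcV : c ∈ V3 n a v) (hW : ∀ w ∈ Wf c, w * n = n * w ∧ w * a = a * w) :
    Calc.Dat (XX n a) (V3 n a v) (cls (XX n a) c) Wf where
  comm u hu w hw := h.cal.comm u (h.V3_le hv hu) w (h.V3_le hv hw)
  sq u hu := h.cal.sq u (h.V3_le hv hu)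
  norm g hg u hu := h.V3_norm hxv hg hu
  OmA := by
    rintro _ ⟨g, hg, rfl⟩
    exact h.V3_norm hxv hg hcV
  OmX := by
    rintro k hk _ ⟨g, hg, rfl⟩
    exact ⟨k * g, mul_mem hk hg, by group⟩
  trans := by
    rintro _ ⟨g, hg, rfl⟩ _ ⟨k, hk, rfl⟩
    exact ⟨k * g⁻¹, mul_mem hk (inv_mem hg), by group⟩
  WX := by
    rintro _ ⟨g, hg, rfl⟩ w hw
    have h1 := hW _ (h.eqv_iff.2 hw)
    have h2 := mul_mem (mul_mem hg (mem_XX h1.1 h1.2)) (inv_mem hg)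
    have e : g * (g⁻¹ * w * g) * g⁻¹ = w := by group
    rwa [e] at h2
  eqv g _ d _ w hw := h.eqv g d w hw
  cen := by
    rintro _ ⟨g, hg, rfl⟩ w hw
    have h1 := h.cal.cen c hc _ (h.eqv_iff.2 hw)
    calc w * (g * c * g⁻¹) = g * (g⁻¹ * w * g * c) * g⁻¹ := by group
      _ = g * c * g⁻¹ * w := by rw [h1]; group
  act := by
    rintro _ ⟨g, hg, rfl⟩ w hw u hu
    have h1 := h.V3_norm hxv (inv_mem hg) hu
    rw [inv_inv] at h1
    have e : g * (g⁻¹ * w * g * (g⁻¹ * u * g) * (g⁻¹ * w * g)⁻¹) * g⁻¹ = w * u * w⁻¹ := by group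
    rcases h.cal.act c hc _ (h.eqv_iff.2 hw) _ (h.V3_le hv h1) with h2 | h2
    · left
      rw [← e, h2]
      group
    · right
      rw [← e, h2]
      group

/-- the main step -/
theorem claim {c₁ : G} (hc₁ : c₁ ∈ cls (centralizer ({n} : Set G)) a) (hne : ¬ cn n a Wf n a c₁) :
    (c₁ ∈ AA n a a ∧ ¬ cn n a Wf a n c₁) ∧ cn n a Wf c₁ n a := by
  have hTN' : T ≤ centralizer ({n} : Set G) := fun t ht => mem_centralizer_singleton_iff.2 (h.hTN t ht)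
  obtain ⟨c, hcA, hcc, hst, u, huU, huT, hmv, hall⟩ := orbit h.rel h.cal.OmA h.cal.norm h.cal.comm h.hT
    hTN' h.hTa h.heq hc₁
  have hnec : ¬ cn n a Wf n a c := fun h0 => hne (h0.trans hcc)
  -- the conjugates of `c` under `T`
  have htc : ∀ t ∈ T, t * c * t⁻¹ ∈ cls (centralizer ({n} : Set G)) a ∧ ¬ cn n a Wf n a (t * c * t⁻¹) := by
    intro t ht
    refine ⟨cls_conj hcA (hTN' ht), fun h0 => hnec ?_⟩
    have ht' : t⁻¹ * n = n * t⁻¹ := h.hTN _ (inv_mem ht)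
    have h1 := h.cn_conj_n ht' h0
    have e1 : t⁻¹ * a * t⁻¹⁻¹ = a := conj_eq_iff.2 (h.hTa _ (inv_mem ht))
    have e2 : t⁻¹ * (t * c * t⁻¹) * t⁻¹⁻¹ = c := by group
    rwa [e1, e2] at h1
  obtain ⟨w₁, hw₁, hw₁a⟩ := h.cal.sym a a_cls b h.bA h.ab
  have hwbN : ∀ w ∈ Wf b, w * n = n * w := fun w hw =>
    mem_centralizer_singleton_iff.1 (h.cal.WX b h.bA w hw)
  have hbu : ∀ w ∈ Wf b, w * u = u * w := fun w hw => hall w fun t ht =>
    (h.far (htc t ht).1 (htc t ht).2).2.2 w hw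
  -- `u = v` or `u = v n`
  obtain ⟨v, hv0, hv⟩ : ∃ v ∈ V0, u = v ∨ u = v * n := by
    obtain ⟨v, hv0, hv⟩ := h.fix u huU huT
    have h1 := h.V0b v hv0 w₁ hw₁
    have h2 := hbu w₁ hw₁
    rcases hv with hv | hv | hv | hv
    · exact ⟨v, hv0, Or.inl hv⟩
    · exact ⟨v, hv0, Or.inr hv⟩
    · exfalso
      rw [hv] at h2
      apply hw₁a
      have h3 : v * (w₁ * a) = v * (a * w₁) := by
        rw [← mul_assoc, ← h1, mul_assoc, h2, mul_assoc]
      exact mul_left_cancel h3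
    · exfalso
      rw [hv] at h2
      apply hw₁a
      have h4 := hwbN w₁ hw₁
      have h3 : v * n * (w₁ * a) = v * n * (a * w₁) := by
        calc v * n * (w₁ * a) = v * (n * w₁) * a := by group
          _ = v * (w₁ * n) * a := by rw [h4]
          _ = (v * w₁) * (n * a) := by group
          _ = (w₁ * v) * (n * a) := by rw [h1]
          _ = w₁ * (v * (n * a)) := by group
          _ = v * (n * a) * w₁ := h2
          _ = v * n * (a * w₁) := by group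
      exact mul_left_cancel h3
  have hn2 : n * n = 1 := h.cal.sq n h.nU
  have hvU : v ∈ U := by
    rcases hv with hv | hv
    · rwa [← hv]
    · have h1 : v = u * n := by rw [hv, mul_assoc, hn2, mul_one]
      rw [h1]
      exact mul_mem huU h.nU
  have hxv : x * v = v * x := h.V0x v hv0
  -- elements of `C(n)` see `u` as `v`
  have huv : ∀ w, w * n = n * w → (w * u = u * w ↔ w * v = v * w) := by
    intro w hwn
    rcases hv with hv | hv
    · rw [hv]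
    · rw [hv]
      constructor
      · intro h1
        have h2 : w * v * n = v * w * n := by
          calc w * v * n = w * (v * n) := by group
            _ = v * n * w := h1
            _ = v * (n * w) := by group
            _ = v * w * n := by rw [← hwn]; group
        exact mul_right_cancel h2
      · intro h1
        calc w * (v * n) = (w * v) * n := by group
          _ = v * (w * n) := by rw [h1]; group
          _ = v * n * w := by rw [hwn]; group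
  -- the neighbour `c'`
  obtain ⟨c', hc'A, hc'c, w', hw', hw'c⟩ : ∃ c' ∈ cls (centralizer ({n} : Set G)) a,
      adj n a Wf n c' c ∧ ∃ w' ∈ Wf c', w' * c ≠ c * w' := by
    obtain ⟨g, hg, rfl⟩ := hcA
    have h1 : g * w₁ * g⁻¹ ∈ Wf (g * b * g⁻¹) := h.eqv g b w₁ hw₁
    have h2 : g * w₁ * g⁻¹ * (g * a * g⁻¹) ≠ g * a * g⁻¹ * (g * w₁ * g⁻¹) := by
      intro h0
      apply hw₁a
      have h3 := comm_conj_iff.1 h0
      have e : g⁻¹ * (g * a * g⁻¹) * g = a := by group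
      rwa [e] at h3
    exact ⟨g * b * g⁻¹, cls_conj h.bA hg, ⟨AA_n.2 (cls_conj h.bA hg), AA_n.2 (cls_conj a_cls hg), _, h1, h2⟩,
      _, h1, h2⟩
  have hnec' : ¬ cn n a Wf n a c' := fun h0 => hnec (h0.tail hc'c)
  have far' := h.far hc'A hnec'
  have hw'u : w' * u ≠ u * w' := by
    refine hmv w' (fun t ht htc' => ?_) hw'c
    by_contra h0
    refine htc' (hst t ht ?_)
    exact (Relation.ReflTransGen.single (h.adj_symm_n
      ⟨AA_n.2 hc'A, AA_n.2 (htc t ht).1, w', hw', h0⟩)).tail hc'c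
  have hw'v : w' * v ≠ v * w' := fun h0 => hw'u ((huv w' (far'.1 w' hw').1).2 h0)
  have hc'V : c' ∈ V3 n a v := by
    have h1 := h.cal.move hc'A hw' hvU hw'v
    have h2 : w' * v * w'⁻¹ ∈ V3 n a v :=
      subset_closure ⟨w', (far'.1 w' hw').1, (far'.1 w' hw').2, rfl⟩
    rw [h1] at h2
    have h3 := mul_mem (inv_mem (self_mem_V3 (n := n) (a := a) (v := v))) h2
    rwa [inv_mul_cancel_left] at h3
  have hcal := h.calX hxv hvU hc'A hc'V far'.1
  have hc'Om : c' ∈ cls (XX n a) c' := ⟨1, one_mem _, by group⟩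
  -- `c` is conjugate to `c'` under `Y`
  have hcOm : c ∈ cls (XX n a) c' := by
    obtain ⟨w₂, hw₂, hw₂c'⟩ := h.cal.sym c' hc'A c hcA ⟨w', hw', hw'c⟩
    have far₂ := (h.far hcA hnec).1 w₂ hw₂
    have h1 := h.cal.move hc'A hw' (h.cal.OmA c hcA) hw'c
    have h2 := h.cal.move hcA hw₂ (h.cal.OmA c' hc'A) hw₂c'
    have h3 : c' * c = c * c' := h.cal.comm _ (h.cal.OmA c' hc'A) _ (h.cal.OmA c hcA)
    refine ⟨w'⁻¹ * w₂, mul_mem (inv_mem (mem_XX (far'.1 w' hw').1 (far'.1 w' hw').2))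
      (mem_XX far₂.1 far₂.2), ?_⟩
    calc c = w'⁻¹ * (w' * c * w'⁻¹) * w' := by group
      _ = w'⁻¹ * (c' * c) * w' := by rw [h1, h3]
      _ = w'⁻¹ * (w₂ * c' * w₂⁻¹) * w' := by rw [h2]
      _ = _ := by group
  -- the crossing
  obtain ⟨t, ht, hw'd⟩ : ∃ t ∈ T, w' * (x * (t * c * t⁻¹) * x⁻¹) ≠ x * (t * c * t⁻¹) * x⁻¹ * w' := by
    by_contra hno
    push Not at hno
    apply hw'v
    have h1 : x⁻¹ * w' * x * u = u * (x⁻¹ * w' * x) := by
      refine hall _ fun t ht => ?_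
      have h2 := hno t ht
      have e : x * (t * c * t⁻¹) * x⁻¹ = x⁻¹⁻¹ * (t * c * t⁻¹) * x⁻¹ := by rw [inv_inv]
      rw [e] at h2
      have h3 := comm_conj_iff.2 h2
      rwa [inv_inv] at h3
    have h4 : w' * (x * u * x⁻¹) = x * u * x⁻¹ * w' := by
      calc w' * (x * u * x⁻¹) = x * (x⁻¹ * w' * x * u) * x⁻¹ := by group
        _ = x * u * x⁻¹ * w' := by rw [h1]; group
    have h5 : x * v * x⁻¹ = v := conj_eq_iff.2 hxv
    rcases hv with hv | hv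
    · rw [hv, h5] at h4
      exact h4
    · have e : x * u * x⁻¹ = v * a := by
        calc x * u * x⁻¹ = x * v * x⁻¹ * (x * n * x⁻¹) := by rw [hv]; group
          _ = v * a := by rw [h5, h.xn]
      rw [e] at h4
      have h6 := (far'.1 w' hw').2
      have h7 : w' * v * a = v * w' * a := by
        calc w' * v * a = w' * (v * a) := by group
          _ = v * a * w' := h4
          _ = v * (a * w') := by group
          _ = v * w' * a := by rw [← h6]; group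
      exact mul_right_cancel h7
  set d := x * (t * c * t⁻¹) * x⁻¹ with hd
  have htcX : t * c * t⁻¹ ∈ cls (XX n a) c' := hcal.OmX t (mem_XX (h.hTN t ht) (h.hTa t ht)) c hcOm
  have hdOm : d ∈ cls (XX n a) c' := hcal.OmX x h.x_mem_XX _ htcX
  have hdA : d ∈ AA n a a := by
    have h1 := AA_conj x (AA_n.2 (htc t ht).1)
    rwa [h.xn] at h1
  -- `Wf d ≤ Y`
  have hWd : ∀ w ∈ Wf d, w * n = n * w ∧ w * a = a * w := by
    intro w hw
    have h1 := (h.far (htc t ht).1 (htc t ht).2).1 _ (h.eqv_iff.2 hw)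
    refine ⟨?_, ?_⟩
    · rw [← h.xa]
      calc w * (x * a * x⁻¹) = x * (x⁻¹ * w * x * a) * x⁻¹ := by group
        _ = x * a * x⁻¹ * w := by rw [h1.2]; group
    · rw [← h.xn]
      calc w * (x * n * x⁻¹) = x * (x⁻¹ * w * x * n) * x⁻¹ := by group
        _ = x * n * x⁻¹ * w := by rw [h1.1]; group
  obtain ⟨w'', hw'', hw''c'⟩ := hcal.sym c' hc'Om d hdOm ⟨w', hw', hw'd⟩
  have hm1 := hcal.move hc'Om hw' (hcal.OmA d hdOm) hw'd
  have hm2 := hcal.move hdOm hw'' (hcal.OmA c' hc'Om) hw''c'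
  have hdc : d * c' = c' * d := hcal.comm _ (hcal.OmA d hdOm) _ (hcal.OmA c' hc'Om)
  -- `f = c' d`
  have hfa : c' * d ∈ AA n a a := by
    have h1 := AA_conj w' hdA
    rwa [conj_eq_iff.2 (far'.1 w' hw').2, hm1, hdc] at h1
  have hfn : c' * d ∈ cls (centralizer ({n} : Set G)) a := by
    have h1 := cls_conj hc'A (mem_centralizer_singleton_iff.2 (hWd w'' hw'').1)
    rwa [hm2] at h1
  have hw'f : w' * (c' * d) ≠ c' * d * w' := by
    intro h0
    apply hw'd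
    have h1 := h.cal.cen c' hc'A w' hw'
    have h2 : c' * (w' * d) = c' * (d * w') := by
      calc c' * (w' * d) = (c' * w') * d := by group
        _ = w' * (c' * d) := by rw [← h1]; group
        _ = c' * (d * w') := by rw [h0]; group
    exact mul_left_cancel h2
  have hw''f : w'' * (c' * d) ≠ c' * d * w'' := by
    intro h0
    apply hw''c'
    have h1 := hcal.cen d hdOm w'' hw''
    have h2 : w'' * c' * d = c' * w'' * d := by
      calc w'' * c' * d = w'' * (c' * d) := by group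
        _ = c' * d * w'' := h0
        _ = c' * (d * w'') := by group
        _ = c' * w'' * d := by rw [← h1]; group
    exact mul_right_cancel h2
  have adj1 : adj n a Wf n c' (c' * d) := ⟨AA_n.2 hc'A, AA_n.2 hfn, w', hw', hw'f⟩
  have adj2 : adj n a Wf a d (c' * d) := ⟨hdA, hfa, w'', hw'', hw''f⟩
  have hnef : ¬ cn n a Wf n a (c' * d) := fun h0 => hnec' (h0.tail (h.adj_symm_n adj1))
  -- the component of `f` in `AA n` lies in its component in `AA a`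
  have hcomp : ∀ e, cn n a Wf n (c' * d) e → e ∈ AA n a a ∧ cn n a Wf a (c' * d) e := by
    intro e he
    induction he with
    | refl => exact ⟨hfa, Relation.ReflTransGen.refl⟩
    | @tail e e' h1 h2 ih =>
      obtain ⟨he, he', w, hw, hwe'⟩ := h2
      have hne1 : ¬ cn n a Wf n a e := fun h0 => hnef (h0.trans (h.cn_symm_n h1))
      have hne2 : ¬ cn n a Wf n a e' := fun h0 =>
        hne1 (h0.tail (h.adj_symm_n ⟨he, he', w, hw, hwe'⟩))
      obtain ⟨w₃, hw₃, hw₃e⟩ := h.cal.sym e (AA_n.1 he) e' (AA_n.1 he') ⟨w, hw, hwe'⟩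
      have f1 := (h.far (AA_n.1 he) hne1).1 w hw
      have f3 := (h.far (AA_n.1 he') hne2).1 w₃ hw₃
      have m1 := h.cal.move (AA_n.1 he) hw (h.cal.OmA e' (AA_n.1 he')) hwe'
      have m3 := h.cal.move (AA_n.1 he') hw₃ (h.cal.OmA e (AA_n.1 he)) hw₃e
      have hee' : e * e' ∈ AA n a a := by
        have h3 := AA_conj w₃ ih.1
        rwa [conj_eq_iff.2 f3.2, m3] at h3
      have he'a : e' ∈ AA n a a := by
        have h3 := AA_conj w hee'
        rw [conj_eq_iff.2 f1.2] at h3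
        have h4 : w * (e * e') * w⁻¹ = e' := by
          have h5 := conj_eq_iff.2 (h.cal.cen e (AA_n.1 he) w hw)
          calc w * (e * e') * w⁻¹ = w * e * w⁻¹ * (w * e' * w⁻¹) := by group
            _ = e * (e' * e) := by rw [h5, m1]
            _ = e * (e * e') := by rw [h.cal.comm e' (h.cal.OmA e' (AA_n.1 he')) e (h.cal.OmA e (AA_n.1 he))]
            _ = e' := by rw [← mul_assoc, h.cal.sq e (h.cal.OmA e (AA_n.1 he)), one_mul]
        rwa [h4] at h3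
      exact ⟨he'a, ih.2.tail ⟨ih.1, he'a, w, hw, hwe'⟩⟩
  have hfc₁ : cn n a Wf n (c' * d) c₁ :=
    (Relation.ReflTransGen.head (h.adj_symm_n adj1) (Relation.ReflTransGen.single hc'c)).trans hcc
  obtain ⟨hc₁a, hc₁f⟩ := hcomp c₁ hfc₁
  have hP1 : ¬ cn n a Wf a n c₁ := by
    intro h0
    have h1 : cn n a Wf a n d := (h0.trans (h.cn_symm_a hc₁f)).trans
      (Relation.ReflTransGen.single (h.adj_symm_a adj2))
    have h2 := h.cn_conj x⁻¹ h1
    rw [inv_inv, h.x_inv_a, h.x_inv_n, hd] at h2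
    have e : x⁻¹ * (x * (t * c * t⁻¹) * x⁻¹) * x = t * c * t⁻¹ := by group
    rw [e] at h2
    exact (htc t ht).2 h2
  refine ⟨⟨hc₁a, hP1⟩, ?_⟩
  -- (P2)
  have far₁ := h.far hc₁ hne
  have hΛ : Wf a ⊔ Wf b ≤ centralizer ({c₁} : Set G) := by
    rw [sup_le_iff]
    exact ⟨fun w hw => mem_centralizer_singleton_iff.2 (far₁.2.1 w hw),
      fun w hw => mem_centralizer_singleton_iff.2 (far₁.2.2 w hw)⟩
  have hxc₁ : x⁻¹ * c₁ * x ∈ cls (centralizer ({n} : Set G)) a := by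
    have h1 := AA_conj x⁻¹ hc₁a
    rw [inv_inv, h.x_inv_a] at h1
    exact AA_n.1 h1
  have hxne : ¬ cn n a Wf n a (x⁻¹ * c₁ * x) := by
    intro h0
    have h1 := h.cn_conj x h0
    rw [h.xn, h.xa] at h1
    have e : x * (x⁻¹ * c₁ * x) * x⁻¹ = c₁ := by group
    rw [e] at h1
    exact hP1 h1
  have far₂ := h.far hxc₁ hxne
  have hΛ' : Wf a ⊔ Wf b ≤ centralizer ({x⁻¹ * c₁ * x} : Set G) := by
    rw [sup_le_iff]
    exact ⟨fun w hw => mem_centralizer_singleton_iff.2 (far₂.2.1 w hw),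
      fun w hw => mem_centralizer_singleton_iff.2 (far₂.2.2 w hw)⟩
  obtain ⟨k, hk, hka⟩ := h.kk
  have hkc := mem_centralizer_singleton_iff.1 (hΛ hk)
  have hkc' := mem_centralizer_singleton_iff.1 (hΛ' hk)
  have hn1 : n ∈ AA n a c₁ := h.swap (AA_n.2 hc₁)
  have ha1 : a ∈ AA n a c₁ := h.swap hc₁a
  have hb1 : b ∈ AA n a c₁ := by
    have h1 := AA_conj k ha1
    rwa [conj_eq_iff.2 hkc, hka] at h1
  have hb'1 : x * b * x⁻¹ ∈ AA n a c₁ := by
    have h1 := AA_conj (x * k * x⁻¹) hn1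
    have e1 : x * k * x⁻¹ * c₁ * (x * k * x⁻¹)⁻¹ = c₁ := by
      rw [conj_eq_iff, comm_conj_iff]
      exact hkc'
    have e2 : x * k * x⁻¹ * n * (x * k * x⁻¹)⁻¹ = x * b * x⁻¹ := by
      calc x * k * x⁻¹ * n * (x * k * x⁻¹)⁻¹ = x * (k * (x⁻¹ * n * x) * k⁻¹) * x⁻¹ := by group
        _ = x * b * x⁻¹ := by rw [h.x_inv_n, hka]
    rwa [e1, e2] at h1
  -- the path `n - b' - b - a`
  have p1 : adj n a Wf c₁ n (x * b * x⁻¹) := by
    obtain ⟨w, hw, hwb⟩ := h.ab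
    refine ⟨hn1, hb'1, x * w * x⁻¹, ?_, fun h0 => hwb ?_⟩
    · have := h.eqv x a w hw
      rwa [h.xa] at this
    · have h1 := comm_conj_iff.1 h0
      have e : x⁻¹ * (x * b * x⁻¹) * x = b := by group
      rwa [e] at h1
  have p2 : adj n a Wf c₁ (x * b * x⁻¹) b := ⟨hb'1, hb1, h.bb⟩
  have p3 : adj n a Wf c₁ b a := ⟨hb1, ha1, w₁, hw₁, hw₁a⟩
  exact ((Relation.ReflTransGen.single p1).tail p2).tail p3

/-- **`a ^ C(n)` is connected.** -/
theorem conn {c : G} (hc : c ∈ cls (centralizer ({n} : Set G)) a) : cn n a Wf n a c := by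
  by_contra hne
  have h1 := (h.claim hc hne).2
  obtain ⟨g, hg, rfl⟩ := hc
  have hgn := mem_centralizer_singleton_iff.1 hg
  have hgn' : g⁻¹ * n = n * g⁻¹ := mem_centralizer_singleton_iff.1 (inv_mem hg)
  have hc₂ : g⁻¹ * a * g ∈ cls (centralizer ({n} : Set G)) a := cls_conj' a_cls hg
  have hne₂ : ¬ cn n a Wf n a (g⁻¹ * a * g) := by
    intro h0
    have h2 := h.cn_conj_n hgn h0
    have e : g * (g⁻¹ * a * g) * g⁻¹ = a := by group
    rw [e] at h2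
    exact hne (h.cn_symm_n h2)
  have h2 := (h.claim hc₂ hne₂).1.2
  apply h2
  have h3 := h.cn_conj g⁻¹ h1
  rw [inv_inv] at h3
  have e1 : g⁻¹ * (g * a * g⁻¹) * g = a := by group
  have e2 : g⁻¹ * n * g = n := by
    have := conj_eq_iff.2 hgn'
    rwa [inv_inv] at this
  rwa [e1, e2] at h3

end Con

end Cfsg.Agent.Omega.TTn.Z.Conn

end

-- merged: Cfsg.Agent.Mrg.Omega.TTn.Norm
section

section


/-!
# T-T, `n` not 2-central: the normal form ((B2) of #13542)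

`exists_base`: a labelled T-T pair (`Main.LabTwo` with `m = m' = 2`, `TwoAct` both ways) with `n` not
2-central is, after replacing `P₂` by a conjugate under `N_G(S)`, a `Base`.
-/

set_option autoImplicit false
set_option linter.unusedSectionVars false

namespace Cfsg.Agent.Omega.TTn

open Subgroup Cfsg Cfsg.Agent.ZN Cfsg.Agent.ZN.ChoiceBase
open Cfsg.Agent.Omega.S5.Mod Cfsg.Agent.Omega.S5.TT
open scoped commutatorElement
open Cfsg.Agent.Omega.S5.TT.Pos (na ns as sn n_ne s_ne a_ne n_ne_a n_ne_s a_ne_s e_sq' mem_C)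
open Cfsg.Agent.MinSimple.VModule (o2_isPGroup le_o2 o2_le le_normalizer_o2 o2_le_of_sylow
  normalizer_le_normalizer_zc)

universe u

variable {G : Type u} [Group G]

/-! ### Sylow's theorem -/

/-- Sylow's theorem in `N`, for a subgroup `T` with `|N : T|` odd. -/
theorem exists_conj_le_of_odd_relIndex [Finite G] {N T X : Subgroup G} (hT : IsPGroup 2 T)
    (hd : ¬ 2 ∣ T.relIndex N) (hX : IsPGroup 2 X) (hXN : X ≤ N) :
    ∃ c ∈ N, ∀ x ∈ X, c * x * c⁻¹ ∈ T := by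
  have : Fact (Nat.Prime 2) := ⟨Nat.prime_two⟩
  have hX' : IsPGroup 2 (X.subgroupOf N) := hX.comap_subtype
  obtain ⟨S2, hS2⟩ := hX'.exists_le_sylow
  obtain ⟨c, hc⟩ := MulAction.exists_smul_eq N S2
    ((hT.comap_of_injective _ N.subtype_injective).toSylow hd)
  refine ⟨c, c.2, fun x hx => ?_⟩
  have h1 : (⟨x, hXN hx⟩ : N) ∈ (S2 : Subgroup N) := hS2 (Subgroup.mem_subgroupOf.mpr hx)
  have h2 : c * ⟨x, hXN hx⟩ * c⁻¹ ∈ ((c • S2 : Sylow 2 N) : Subgroup N) := by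
    rw [Sylow.coe_subgroup_smul]
    exact Subgroup.smul_mem_pointwise_smul _ (MulAut.conj c) _ h1
  rw [hc] at h2
  exact mem_subgroupOf.1 h2

/-! ### One module -/

namespace Dih

variable {S : Sylow 2 G} {V L : Subgroup G} {M : FiveMod V L} (t : Dih S M)
include t

theorem card_S [Finite G] : Nat.card (S : Subgroup G) =
    2 * Nat.card ((S : Subgroup G) ⊓ centralizer ({M.e nn} : Set G) : Subgroup G) := by
  obtain ⟨g, hgS, hg⟩ := t.exists_swap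
  set T := (S : Subgroup G) ⊓ centralizer ({M.e nn} : Set G) with hT
  have h1 : (T.subgroupOf S).index = 2 := by
    rw [index_eq_two_iff]
    refine ⟨⟨g, hgS⟩, fun x => ?_⟩
    have hgT : g ∉ T := by
      intro h0
      have h2 := Dih.tt_n hg
      rw [mem_C.1 h0.2, mul_inv_cancel_right] at h2
      exact n_ne_a M h2
    by_cases hx : (x : G) ∈ T
    · right
      refine ⟨mem_subgroupOf.2 hx, fun h0 => hgT ?_⟩
      have h2 := mem_subgroupOf.1 h0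
      have h3 := mul_mem (inv_mem hx) h2
      have h4 : (x : G)⁻¹ * ((x * ⟨g, hgS⟩ : (S : Subgroup G)) : G) = g := by
        rw [coe_mul]; group
      rwa [h4] at h3
    · left
      refine ⟨mem_subgroupOf.2 ?_, fun h0 => hx (mem_subgroupOf.1 h0)⟩
      rcases t.mem_or hgS hg x.2 with h2 | h2
      · exact absurd h2 hx
      · exact h2
  have h2 := (T.subgroupOf (S : Subgroup G)).card_mul_index
  rw [h1] at h2
  have h3 : Nat.card (T.subgroupOf (S : Subgroup G)) = Nat.card T :=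
    Nat.card_congr (subgroupOfEquivOfLe inf_le_left).toEquiv
  rw [← h2, h3, mul_comm]

/-- `T = C_S(n)` is a Sylow 2-subgroup of `C_G(n)`, if `n` is not 2-central. -/
theorem not_dvd [Finite G] (nc : ∀ P : Sylow 2 G, ¬ (P : Subgroup G) ≤ centralizer ({M.e nn} : Set G)) :
    ¬ 2 ∣ ((S : Subgroup G) ⊓ centralizer ({M.e nn} : Set G)).relIndex
      (centralizer ({M.e nn} : Set G)) := by
  have hf : Fact (Nat.Prime 2) := ⟨Nat.prime_two⟩
  set N := centralizer ({M.e nn} : Set G) with hN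
  set T := (S : Subgroup G) ⊓ N with hT
  have hTp : IsPGroup 2 (T.subgroupOf N) :=
    (S.isPGroup'.to_le inf_le_left).comap_of_injective _ N.subtype_injective
  obtain ⟨P, hP⟩ := hTp.exists_le_sylow
  have hPG : IsPGroup 2 ((P : Subgroup N).map N.subtype) := P.isPGroup'.map _
  obtain ⟨R, hR⟩ := hPG.exists_le_sylow
  have hlt : (P : Subgroup N).map N.subtype < (R : Subgroup G) := by
    refine lt_of_le_of_ne hR fun h0 => nc R ?_
    rw [← h0]
    exact map_subtype_le _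
  have hcR : Nat.card (R : Subgroup G) = Nat.card (S : Subgroup G) :=
    Nat.card_congr (Sylow.equiv R S).toEquiv
  have h2 : 2 * Nat.card ((P : Subgroup N).map N.subtype) ≤ Nat.card (R : Subgroup G) := by
    obtain ⟨k, hk⟩ := card_dvd_of_le hR
    rw [hk, mul_comm]
    refine Nat.mul_le_mul_left _ ?_
    rcases k with _ | _ | k
    · rw [mul_zero] at hk
      exact absurd hk Nat.card_pos.ne'
    · rw [zero_add, mul_one] at hk
      exact absurd (eq_of_le_of_card_ge hR hk.le) hlt.ne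
    · omega
  have h3 : Nat.card ((P : Subgroup N).map N.subtype) = Nat.card (P : Subgroup N) :=
    Nat.card_congr (equivMapOfInjective _ _ N.subtype_injective).symm.toEquiv
  have h4 : Nat.card (T.subgroupOf N) = Nat.card T :=
    Nat.card_congr (subgroupOfEquivOfLe inf_le_right).toEquiv
  have h5 : (P : Subgroup N) = T.subgroupOf N := by
    refine (eq_of_le_of_card_ge hP ?_).symm
    rw [h4, ← h3]
    have h6 := t.card_S
    rw [← hN, ← hT] at h6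
    omega
  have h6 := P.not_dvd_index
  rw [h5] at h6
  exact h6

/-- Conjugating the module by an element of `N_G(S)`. -/
theorem cj [Finite G] {g : G} (hg : ∀ x ∈ (S : Subgroup G), g * x * g⁻¹ ∈ (S : Subgroup G)) :
    Dih S (M.cj g) := by
  have hgN : g ∈ normalizer ((S : Subgroup G) : Set G) := by
    refine mem_normalizer_of_cj_le ?_
    rintro _ ⟨x, hx, rfl⟩
    exact hg x hx
  have hg' : ∀ x ∈ (S : Subgroup G), g⁻¹ * x * g ∈ (S : Subgroup G) := by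
    intro x hx
    have := (mem_normalizer_iff.1 (inv_mem hgN) x).1 hx
    rwa [inv_inv] at this
  refine ⟨?_, ?_, ?_, ?_⟩
  · intro x hx
    rw [mem_cj]
    exact t.S_le (hg' x hx)
  · intro x hx
    rw [mem_cj]
    refine t.zS ?_
    obtain ⟨h1, h2, h3⟩ := MinSimple.VModule.mem_zc.1 hx
    refine MinSimple.VModule.mem_zc.2 ⟨hg' x h1, fun b hb => ?_, ?_⟩
    · have h4 := h2 _ (hg b hb)
      calc b * (g⁻¹ * x * g) = g⁻¹ * (g * b * g⁻¹ * x) * g := by group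
        _ = g⁻¹ * (x * (g * b * g⁻¹)) * g := by rw [h4]
        _ = g⁻¹ * x * g * b := by group
    · rw [pow_two] at h3 ⊢
      calc g⁻¹ * x * g * (g⁻¹ * x * g) = g⁻¹ * (x * x) * g := by group
        _ = 1 := by rw [h3]; group
  · intro x hx p hp
    exact t.d8 _ (hg' x hx) p (ind_of_cj hp)
  · intro p hp
    obtain ⟨b, hb, hi⟩ := t.d8' p hp
    exact ⟨_, hg b hb, M.cj_ind hi⟩

/-- a conjugate of `s` is not `n` or `a` -/
theorem conj_s_ne [Finite G] (nc : ∀ P : Sylow 2 G, ¬ (P : Subgroup G) ≤ centralizer ({M.e nn} : Set G))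
    {x : G} (hx : ∃ P : Sylow 2 G, (P : Subgroup G) ≤ centralizer ({x} : Set G)) :
    x ≠ M.e nn ∧ x ≠ M.e aa := by
  obtain ⟨P, hP⟩ := hx
  refine ⟨?_, ?_⟩
  · rintro rfl
    exact nc P hP
  · rintro rfl
    obtain ⟨g, hgS, hg⟩ := t.exists_swap
    refine nc (g • P) ?_
    rintro _ ⟨y, hy, rfl⟩
    have h1 := mem_C.1 (hP hy)
    have h2 : g * M.e aa * g⁻¹ = M.e nn := tt_a hg
    refine mem_C.2 ?_
    change g * y * g⁻¹ * M.e nn = M.e nn * (g * y * g⁻¹)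
    rw [← h2]
    calc g * y * g⁻¹ * (g * M.e aa * g⁻¹) = g * (y * M.e aa) * g⁻¹ := by group
      _ = g * (M.e aa * y) * g⁻¹ := by rw [h1]
      _ = g * M.e aa * g⁻¹ * (g * y * g⁻¹) := by group

end Dih

/-! ### Two modules with the same `n` -/

theorem exists_align [Finite G] {S : Sylow 2 G} {V₁ L₁ V₂ L₂ : Subgroup G} {M₁ : FiveMod V₁ L₁}
    {M₂ : FiveMod V₂ L₂} (t₁ : Dih S M₁) (t₂ : Dih S M₂) {y : G}
    (hy : y * M₂.e nn * y⁻¹ = M₁.e nn)
    (nc : ∀ P : Sylow 2 G, ¬ (P : Subgroup G) ≤ centralizer ({M₁.e nn} : Set G)) :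
    ∃ g h : G, y = h * g ∧ (∀ x ∈ (S : Subgroup G), g * x * g⁻¹ ∈ (S : Subgroup G)) ∧
      h * M₁.e nn = M₁.e nn * h ∧ g * M₂.e nn * g⁻¹ = M₁.e nn ∧ g * M₂.e aa * g⁻¹ = M₁.e aa := by
  set N := centralizer ({M₁.e nn} : Set G) with hN
  set T := (S : Subgroup G) ⊓ N with hT
  set T₂ := (S : Subgroup G) ⊓ centralizer ({M₂.e nn} : Set G) with hT₂
  have hcard : Nat.card T = Nat.card T₂ := by
    have h1 := t₁.card_S
    have h2 := t₂.card_S
    rw [← hN, ← hT] at h1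
    rw [← hT₂] at h2
    omega
  have hTp : IsPGroup 2 T := S.isPGroup'.to_le inf_le_left
  have hT₂p : IsPGroup 2 T₂ := S.isPGroup'.to_le inf_le_left
  -- conjugate `T₂ ^ y` to `T` in `N`
  have h1 : cj y T₂ ≤ N := by
    rintro _ ⟨x, hx, rfl⟩
    refine mem_C.2 ?_
    have h2 := mem_C.1 hx.2
    change y * x * y⁻¹ * M₁.e nn = M₁.e nn * (y * x * y⁻¹)
    rw [← hy]
    calc y * x * y⁻¹ * (y * M₂.e nn * y⁻¹) = y * (x * M₂.e nn) * y⁻¹ := by group
      _ = y * (M₂.e nn * x) * y⁻¹ := by rw [h2]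
      _ = y * M₂.e nn * y⁻¹ * (y * x * y⁻¹) := by group
  obtain ⟨c, hcN, hc⟩ := exists_conj_le_of_odd_relIndex hTp (t₁.not_dvd nc)
    (isPGroup_cj y hT₂p) h1
  have hcn : c * M₁.e nn = M₁.e nn * c := mem_C.1 hcN
  obtain ⟨k, hk⟩ : ∃ k, k = c * y := ⟨_, rfl⟩
  have hkT : cj k T₂ = T := by
    refine eq_of_le_of_card_ge ?_ ?_
    · rintro _ ⟨x, hx, rfl⟩
      have h2 := hc (y * x * y⁻¹) ⟨x, hx, rfl⟩
      have h3 : c * (y * x * y⁻¹) * c⁻¹ = k * x * k⁻¹ := by rw [hk]; group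
      rw [h3] at h2
      exact h2
    · rw [hcard]
      exact (Nat.card_congr (T₂.equivMapOfInjective _ (MulAut.conj k).injective).toEquiv).le
  have hkn : k * M₂.e nn * k⁻¹ = M₁.e nn := by
    have h2 : k * M₂.e nn * k⁻¹ = c * (y * M₂.e nn * y⁻¹) * c⁻¹ := by rw [hk]; group
    rw [h2, hy, hcn, mul_inv_cancel_right]
  -- `k s₂ k⁻¹ = s`
  have hks : k * M₂.e ss * k⁻¹ = M₁.e ss := by
    have h2 : k * M₂.e ss * k⁻¹ ∈ zc T := by
      obtain ⟨h3, h4, h5⟩ := MinSimple.VModule.mem_zc.1 t₂.s_mem_zT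
      refine MinSimple.VModule.mem_zc.2 ⟨?_, ?_, ?_⟩
      · rw [← hkT]; exact ⟨_, h3, rfl⟩
      · intro b hb
        rw [← hkT] at hb
        obtain ⟨b', hb', rfl⟩ := hb
        have h6 := h4 b' hb'
        change k * b' * k⁻¹ * (k * M₂.e ss * k⁻¹) = k * M₂.e ss * k⁻¹ * (k * b' * k⁻¹)
        calc k * b' * k⁻¹ * (k * M₂.e ss * k⁻¹) = k * (b' * M₂.e ss) * k⁻¹ := by group
          _ = k * (M₂.e ss * b') * k⁻¹ := by rw [h6]
          _ = k * M₂.e ss * k⁻¹ * (k * b' * k⁻¹) := by group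
      · rw [pow_two] at h5 ⊢
        calc k * M₂.e ss * k⁻¹ * (k * M₂.e ss * k⁻¹) = k * (M₂.e ss * M₂.e ss) * k⁻¹ := by group
          _ = 1 := by rw [h5]; group
    have h3 : ∃ P : Sylow 2 G, (P : Subgroup G) ≤ centralizer ({k * M₂.e ss * k⁻¹} : Set G) := by
      refine ⟨k • S, ?_⟩
      rintro _ ⟨x, hx, rfl⟩
      refine mem_C.2 ?_
      have h4 := t₂.S_comm hx
      change k * x * k⁻¹ * (k * M₂.e ss * k⁻¹) = k * M₂.e ss * k⁻¹ * (k * x * k⁻¹)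
      calc k * x * k⁻¹ * (k * M₂.e ss * k⁻¹) = k * (x * M₂.e ss) * k⁻¹ := by group
        _ = k * (M₂.e ss * x) * k⁻¹ := by rw [h4]
        _ = k * M₂.e ss * k⁻¹ * (k * x * k⁻¹) := by group
    obtain ⟨h4, h5⟩ := t₁.conj_s_ne nc h3
    rcases t₁.zT_le h2 with h6 | h6 | h6 | h6
    · exfalso
      refine s_ne M₂ ?_
      rw [mul_inv_eq_one] at h6
      exact mul_eq_left.mp h6
    · exact absurd h6 h4
    · exact absurd h6 h5
    · exact h6
  -- Sylow in `N_G(T)`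
  have hSH : (S : Subgroup G) ≤ normalizer (T : Set G) := t₁.S_le_normalizer_T
  have hS₂H : cj k (S : Subgroup G) ≤ normalizer (T : Set G) := by
    rw [← hkT, ← cj_normalizer]
    exact cj_mono k t₂.S_le_normalizer_T
  obtain ⟨c', hc'H, hc'⟩ := exists_conj_le_sylow S _ _ hSH (isPGroup_cj k S.isPGroup') hS₂H
  have hc'z : ∀ {x : G}, x ∈ zc T → c' * x * c'⁻¹ ∈ zc T := by
    intro x hx
    have h2 := normalizer_le_normalizer_zc T hc'H
    exact (mem_normalizer_iff.1 h2 x).1 hx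
  have hc's : c' * M₁.e ss * c'⁻¹ = M₁.e ss := by
    have h3 : ∃ P : Sylow 2 G, (P : Subgroup G) ≤ centralizer ({c' * M₁.e ss * c'⁻¹} : Set G) := by
      refine ⟨c' • S, ?_⟩
      rintro _ ⟨x, hx, rfl⟩
      refine mem_C.2 ?_
      have h4 := t₁.S_comm hx
      change c' * x * c'⁻¹ * (c' * M₁.e ss * c'⁻¹) = c' * M₁.e ss * c'⁻¹ * (c' * x * c'⁻¹)
      calc c' * x * c'⁻¹ * (c' * M₁.e ss * c'⁻¹) = c' * (x * M₁.e ss) * c'⁻¹ := by group
        _ = c' * (M₁.e ss * x) * c'⁻¹ := by rw [h4]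
        _ = c' * M₁.e ss * c'⁻¹ * (c' * x * c'⁻¹) := by group
    obtain ⟨h4, h5⟩ := t₁.conj_s_ne nc h3
    rcases t₁.zT_le (hc'z t₁.s_mem_zT) with h6 | h6 | h6 | h6
    · exfalso
      refine s_ne M₁ ?_
      rw [mul_inv_eq_one] at h6
      exact mul_eq_left.mp h6
    · exact absurd h6 h4
    · exact absurd h6 h5
    · exact h6
  -- the element `r⁻¹`
  obtain ⟨r, hrS, hrn, hrs⟩ : ∃ r : G, (∀ x ∈ cj k (S : Subgroup G), r * x * r⁻¹ ∈ (S : Subgroup G)) ∧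
      r * M₁.e nn * r⁻¹ = M₁.e nn ∧ r * M₁.e ss * r⁻¹ = M₁.e ss := by
    rcases t₁.zT_le (hc'z t₁.n_mem_zT) with h6 | h6 | h6 | h6
    · exfalso
      refine n_ne M₁ ?_
      rw [mul_inv_eq_one] at h6
      exact mul_eq_left.mp h6
    · exact ⟨c', hc', h6, hc's⟩
    · obtain ⟨x, hxS, hx⟩ := t₁.exists_swap
      refine ⟨x * c', fun z hz => ?_, ?_, ?_⟩
      · have h7 := mul_mem (mul_mem hxS (hc' z hz)) (inv_mem hxS)
        have h8 : x * (c' * z * c'⁻¹) * x⁻¹ = x * c' * z * (x * c')⁻¹ := by group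
        rwa [h8] at h7
      · calc x * c' * M₁.e nn * (x * c')⁻¹ = x * (c' * M₁.e nn * c'⁻¹) * x⁻¹ := by group
          _ = M₁.e nn := by rw [h6, Dih.tt_a hx]
      · calc x * c' * M₁.e ss * (x * c')⁻¹ = x * (c' * M₁.e ss * c'⁻¹) * x⁻¹ := by group
          _ = M₁.e ss := by rw [hc's, Dih.tt_s hx]
    · exfalso
      have h7 : c' * M₁.e nn * c'⁻¹ = c' * M₁.e ss * c'⁻¹ := h6.trans hc's.symm
      exact n_ne_s M₁ (mul_left_cancel (mul_right_cancel h7))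
  have hrn' : r * M₁.e nn = M₁.e nn * r := by rwa [mul_inv_eq_iff_eq_mul] at hrn
  refine ⟨r * k, y * (r * k)⁻¹, by group, ?_, ?_, ?_, ?_⟩
  · intro x hx
    have h2 := hrS (k * x * k⁻¹) ⟨x, hx, rfl⟩
    have h3 : r * (k * x * k⁻¹) * r⁻¹ = r * k * x * (r * k)⁻¹ := by group
    rwa [h3] at h2
  · have h2 : y * (r * k)⁻¹ = c⁻¹ * r⁻¹ := by rw [hk]; group
    rw [h2]
    have h3 : (r * c) * M₁.e nn = M₁.e nn * (r * c) := by
      rw [mul_assoc, hcn, ← mul_assoc, hrn', mul_assoc]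
    have h4 : c⁻¹ * r⁻¹ = (r * c)⁻¹ := by group
    rw [h4, inv_mul_eq_iff_eq_mul, ← mul_assoc, h3, mul_inv_cancel_right]
  · calc r * k * M₂.e nn * (r * k)⁻¹ = r * (k * M₂.e nn * k⁻¹) * r⁻¹ := by group
      _ = M₁.e nn := by rw [hkn, hrn]
  · rw [← ns M₂, ← ns M₁]
    calc r * k * (M₂.e nn * M₂.e ss) * (r * k)⁻¹ =
          (r * (k * M₂.e nn * k⁻¹) * r⁻¹) * (r * (k * M₂.e ss * k⁻¹) * r⁻¹) := by group
      _ = M₁.e nn * M₁.e ss := by rw [hkn, hks, hrn, hrs]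

/-! ### One side of a T-T pair -/

theorem swap_d8 : ∀ i j : Fin 5, i ≠ j → (Equiv.swap i j : Equiv.Perm (Fin 5)) * dd = dd * Equiv.swap i j →
    (Equiv.swap i j : Equiv.Perm (Fin 5)) = Equiv.swap 0 1 ∨
      (Equiv.swap i j : Equiv.Perm (Fin 5)) = Equiv.swap 2 3 := by
  decide +kernel

theorem exists_one_side [Finite G] {S : Sylow 2 G} {V L W : Subgroup G} (M : FiveMod V L)
    (hS : (S : Subgroup G) ≤ L) (hz : zc (S : Subgroup G) ≤ V) (hWS : W ≤ (S : Subgroup G))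
    (hsw : ∀ w ∈ W, ∀ p, M.Ind w p → p = 1 ∨ p.IsSwap)
    (htwo : Cfsg.Agent.Omega.S5.Types.TwoAct W V) (hne : ¬ W ≤ centralizer (V : Set G)) :
    ∃ M' : FiveMod V L, Dih S M' ∧ (∀ w ∈ W, ∃ p, Tp p ∧ M'.Ind w p) ∧
      ∃ w ∈ W, M'.Ind w (Equiv.swap 0 1) := by
  obtain ⟨σ, hd, hd'⟩ := Cfsg.Agent.Omega.S5.Types.exists_relabel M S hS
  have t : Dih S (M.relabel σ) := ⟨hS, hz, hd, hd'⟩
  -- the action of `W`
  obtain ⟨w₀, hw₀, hw₀V⟩ := SetLike.not_le_iff_exists.mp hne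
  obtain ⟨p₀, hp₀⟩ := (M.relabel σ).exists_ind (hS (hWS hw₀))
  have hp₀d := hd w₀ (hWS hw₀) p₀ hp₀
  have hp₀s : p₀.IsSwap := by
    rcases hsw w₀ hw₀ _ (ind_of_relabel σ hp₀) with h1 | ⟨i, j, hij, h1⟩
    · exfalso
      have h2 : p₀ = 1 := by
        have := congrArg (fun x => σ⁻¹ * x * σ) h1
        simpa [mul_assoc] using this
      rw [h2] at hp₀
      exact hw₀V (FiveMod.ind_one_iff.1 hp₀)
    · refine ⟨σ⁻¹ i, σ⁻¹ j, fun h => hij (σ⁻¹.injective h), ?_⟩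
      have h2 : p₀ = σ⁻¹ * (σ * p₀ * σ⁻¹) * σ⁻¹⁻¹ := by group
      rw [h2, h1, Equiv.swap_apply_apply]
  have hW : ∀ w ∈ W, (M.relabel σ).Ind w 1 ∨ (M.relabel σ).Ind w p₀ := by
    intro w hw
    by_cases hwV : w ∈ centralizer (V : Set G)
    · exact Or.inl (FiveMod.ind_one_iff.2 hwV)
    · right
      have h1 := htwo w₀ hw₀ w hw hw₀V hwV
      have h2 := hp₀.mul (FiveMod.ind_one_iff (M := M.relabel σ) |>.2 h1)
      rwa [mul_inv_cancel_left, mul_one] at h2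
  obtain ⟨i, j, hij, rfl⟩ := hp₀s
  rcases swap_d8 i j hij hp₀d with h1 | h1
  · rw [h1] at hW hp₀
    refine ⟨M.relabel σ, t, fun w hw => ?_, w₀, hw₀, hp₀⟩
    rcases hW w hw with h2 | h2
    · exact ⟨1, Or.inl rfl, h2⟩
    · exact ⟨_, Or.inr rfl, h2⟩
  · rw [h1] at hW hp₀
    have e : tt⁻¹ * Equiv.swap 2 3 * tt = (Equiv.swap 0 1 : Equiv.Perm (Fin 5)) := by decide
    refine ⟨(M.relabel σ).relabel tt, t.relabel, fun w hw => ?_, w₀, hw₀, ?_⟩
    · rcases hW w hw with h2 | h2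
      · refine ⟨1, Or.inl rfl, ?_⟩
        have := relabel_ind tt h2
        rwa [show tt⁻¹ * 1 * tt = (1 : Equiv.Perm (Fin 5)) by group] at this
      · refine ⟨_, Or.inr rfl, ?_⟩
        have := relabel_ind tt h2
        rwa [e] at this
    · have := relabel_ind tt hp₀
      rwa [e] at this

/-- `[V, V'] = ⟨n⟩` from both sides. -/
theorem comm_eq {V L W K : Subgroup G} {M : FiveMod V L} {M' : FiveMod W K}
    (hex : ∃ w ∈ W, M.Ind w (Equiv.swap 0 1)) (hact : ∀ v ∈ V, ∃ p, Tp p ∧ M'.Ind v p) :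
    M'.e nn = M.e nn := by
  obtain ⟨w, hw, hi⟩ := hex
  obtain ⟨p, hp, hj⟩ := hact _ (M.e_mem mm)
  obtain ⟨u, rfl⟩ := (M'.mem_iff w).1 hw
  have h1 := hi.comm_eq mm
  have h2 := hj.comm_eq u
  have h3 : M.e (mm ∘ (Equiv.swap 0 1 : Equiv.Perm (Fin 5)).symm + mm) = M.e nn := by
    rw [M.e_eq_iff]; decide
  rw [h3] at h1
  have h4 : M.e mm * M'.e u * (M.e mm)⁻¹ * (M'.e u)⁻¹ = M.e nn := by
    have h5 : M.e mm * M'.e u * (M.e mm)⁻¹ * (M'.e u)⁻¹ =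
        (M'.e u * M.e mm * (M'.e u)⁻¹ * (M.e mm)⁻¹)⁻¹ := by group
    rw [h5, h1, M.e_inv]
  rw [h4] at h2
  rcases hp.comm u with h5 | h5
  · exfalso
    rw [(M'.ker _).2 h5] at h2
    exact n_ne M h2
  · rw [h2, M'.e_eq_iff.2 h5]

/-- `[V, V'] ≤ ⟨n⟩` -/
theorem comm_le {V L W : Subgroup G} {M : FiveMod V L} (hact : ∀ w ∈ W, ∃ p, Tp p ∧ M.Ind w p)
    {P : Subgroup G} (hP : P ≤ centralizer ({M.e nn} : Set G)) :
    P ≤ centralizer ((⁅V, W⁆ : Subgroup G) : Set G) := by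
  rw [le_centralizer_iff, commutator_le]
  intro v hv w hw
  obtain ⟨p, hp, hi⟩ := hact w hw
  obtain ⟨x, rfl⟩ := (M.mem_iff v).1 hv
  have h1 : ⁅M.e x, w⁆ = M.e (x ∘ p.symm + x) := by
    rw [← M.e_inv (x ∘ p.symm + x), ← hi.comm_eq, commutatorElement_def]
    group
  rw [h1, mem_centralizer_iff]
  intro g hg
  rcases hp.comm x with h2 | h2
  · rw [(M.ker _).2 h2, mul_one, one_mul]
  · rw [M.e_eq_iff.2 h2]
    exact mem_C.1 (hP hg)

/-! ### The normal form -/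

open Cfsg.Agent.Omega.S5 in
/-- **The normal form.** -/
theorem exists_base [Finite G] (hG : IsCharacteristicTwoType G) {S : Sylow 2 G}
    {P₁ P₂ : Subgroup G} {y : G} {ε ε₂ : (Fin (2 ^ 2 + 1) → ZMod 2) → G}
    (h : Main.LabTwo S P₁ P₂ y 2 2 ε ε₂)
    (t1 : Types.TwoAct (cj y (zl (S : Subgroup G) P₂)) (zl (S : Subgroup G) P₁))
    (t2 : Types.TwoAct (zl (S : Subgroup G) P₁) (cj y (zl (S : Subgroup G) P₂)))
    (hC : ¬ Main.Cen (zl (S : Subgroup G) P₁) (cj y (zl (S : Subgroup G) P₂))) :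
    ∃ (g k : G) (M₁ : FiveMod (zl (S : Subgroup G) P₁) P₁)
      (M₂ : FiveMod (cj g (zl (S : Subgroup G) P₂)) (cj g P₂)),
      (∀ x ∈ (S : Subgroup G), g * x * g⁻¹ ∈ (S : Subgroup G)) ∧ Base S M₁ M₂ k := by
  obtain ⟨V, hV⟩ : ∃ V, V = zl (S : Subgroup G) P₁ := ⟨_, rfl⟩
  obtain ⟨V₂, hV₂⟩ : ∃ V₂, V₂ = zl (S : Subgroup G) P₂ := ⟨_, rfl⟩
  have hS : (S : Subgroup G) ≤ P₁ := h.pair.star₁.le
  have hS₂ : (S : Subgroup G) ≤ P₂ := h.pair.star₂.le
  have hz : zc (S : Subgroup G) ≤ V := hV ▸ MinSimple.VModule.zc_le_zl _ _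
  have hz₂ : zc (S : Subgroup G) ≤ V₂ := hV₂ ▸ MinSimple.VModule.zc_le_zl _ _
  have he : Def.EvenSet 5 V P₁ ε := hV ▸ h.even
  have he₂ : Def.EvenSet 5 V₂ P₂ ε₂ := hV₂ ▸ h.even₂
  have hle : cj y V₂ ≤ (S : Subgroup G) := hV₂ ▸ h.le
  have hge : V ≤ cj y (S : Subgroup G) := hV ▸ h.ge
  rw [← hV, ← hV₂] at t1 t2 hC
  rw [← hV, ← hV₂]
  have hne : ⁅V, cj y V₂⁆ ≠ ⊥ := by
    rw [hV, hV₂]; exact h.pair.ne
  -- the first side
  obtain ⟨M₁, s₁, a₁, e₁⟩ := exists_one_side (S := S) (OfEven.ofEven he) hS hz hle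
    (fun w hw p hp => Types.swap_of_pair hG S (OfEven.ofEven he) (OfEven.ofEven he₂) hS hS₂ hz
      (hle.trans hS) (hge.trans (cj_mono y hS₂)) hw hp) t1
    (fun h0 => hne (by rw [commutator_comm]; exact commutator_eq_bot_iff_le_centralizer.2 h0))
  -- the second side
  have hVy : cj y⁻¹ V ≤ (S : Subgroup G) := by rw [cj_le_iff, inv_inv]; exact hge
  have hV₂y : V₂ ≤ cj y⁻¹ (S : Subgroup G) := cj_le_iff.1 hle
  have t2' := t2.cj y⁻¹
  rw [cj_inv_cj] at t2'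
  obtain ⟨M₂, s₂, a₂, e₂⟩ := exists_one_side (S := S) (OfEven.ofEven he₂) hS₂ hz₂ hVy
    (fun w hw p hp => Types.swap_of_pair hG S (OfEven.ofEven he₂) (OfEven.ofEven he) hS₂ hS hz₂
      (hVy.trans hS₂) (hV₂y.trans (cj_mono y⁻¹ hS)) hw hp) t2'
    (fun h0 => hne (by
      refine commutator_eq_bot_iff_le_centralizer.2 ?_
      have h1 := cj_mono y h0
      rw [cj_cj_inv, cj_centralizer] at h1
      exact h1))
  -- `y n₂ y⁻¹ = n`
  have a₂' : ∀ v ∈ V, ∃ p, Tp p ∧ (M₂.cj y).Ind v p := by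
    intro v hv
    obtain ⟨p, hp, hi⟩ := a₂ (y⁻¹ * v * y) (by rw [mem_cj, inv_inv]; convert hv using 1; group)
    refine ⟨p, hp, ?_⟩
    have h1 := M₂.cj_ind (g := y) hi
    rwa [show y * (y⁻¹ * v * y) * y⁻¹ = v by group] at h1
  have hn : y * M₂.e nn * y⁻¹ = M₁.e nn := comm_eq (M := M₁) (M' := M₂.cj y) e₁ a₂'
  have nc : ∀ P : Sylow 2 G, ¬ (P : Subgroup G) ≤ centralizer ({M₁.e nn} : Set G) :=
    fun P hP => hC ⟨P, comm_le a₁ hP⟩
  obtain ⟨g, k, hy, hgS, hk, hgn, hga⟩ := exists_align s₁ s₂ hn nc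
  refine ⟨g, k, M₁, M₂.cj g, hgS, hG, s₁, s₂.cj hgS, hgn.symm, hga.symm, hk, ?_, ?_, ?_, nc⟩
  · rw [cj_cj, ← hy]
    exact a₁
  · intro v hv
    obtain ⟨p, hp, hi⟩ := a₂' v hv
    refine ⟨p, hp, fun x => ?_⟩
    have h1 := hi x
    rw [M₂.cj_e, M₂.cj_e] at h1
    change v * (k * (g * M₂.e x * g⁻¹) * k⁻¹) * v⁻¹ = k * (g * M₂.e (x ∘ p.symm) * g⁻¹) * k⁻¹
    calc v * (k * (g * M₂.e x * g⁻¹) * k⁻¹) * v⁻¹ = v * (y * M₂.e x * y⁻¹) * v⁻¹ := by rw [hy]; group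
      _ = y * M₂.e (x ∘ p.symm) * y⁻¹ := h1
      _ = k * (g * M₂.e (x ∘ p.symm) * g⁻¹) * k⁻¹ := by rw [hy]; group
  · rw [cj_cj, ← hy]
    exact e₁

/-- `C_G(Ω₁(Z(S))) = C_G(s)` -/
theorem Dih.cent_zc {S : Sylow 2 G} {V L : Subgroup G} {M : FiveMod V L} (t : Dih S M) :
    centralizer (zc (S : Subgroup G) : Set G) = centralizer ({M.e ss} : Set G) := by
  have hs : M.e ss ∈ zc (S : Subgroup G) :=
    MinSimple.VModule.mem_zc.2 ⟨t.V_le_S (M.e_mem _), fun b hb => t.S_comm hb, e_sq' M ss⟩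
  refine le_antisymm (centralizer_le (Set.singleton_subset_iff.2 hs)) fun g hg => ?_
  rw [mem_centralizer_iff]
  intro x hx
  rcases t.zS_le hx with rfl | rfl
  · rw [one_mul, mul_one]
  · exact (mem_C.1 hg).symm

/-- `AllIn S` : `V_P ≤ O₂(C_G(s))` -/
theorem Dih.le_Qs {S : Sylow 2 G} {V L : Subgroup G} {M : FiveMod V L} (t : Dih S M)
    (hV : V ≤ o2 (centralizer (zc (S : Subgroup G) : Set G))) : V ≤ Q (M.e ss) := by
  rwa [t.cent_zc] at hV

end Cfsg.Agent.Omega.TTn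

end

section


/-!
# #15257 (4): `a` is the only element of `a ^ C_G(n)` centralised by `T`
-/

set_option autoImplicit false
set_option linter.unusedSectionVars false

namespace Cfsg.Agent.Omega.TTn.Z.Fus

open Subgroup Cfsg Cfsg.Agent.ZN Cfsg.Agent.ZN.ChoiceBase
open Cfsg.Agent.Omega.S5.Mod Cfsg.Agent.Omega.S5.TT
open Cfsg.Agent.Omega.S5.TT.Pos (na ns as sn n_ne s_ne a_ne n_ne_a n_ne_s a_ne_s e_sq' mem_C)

/-! ### Groups of order not divisible by 4 -/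

/-- two commuting involutions in a group of order not divisible by 4 are equal -/
theorem eq_of_comm {Q : Type*} [Group Q] {R : Subgroup Q} [Finite R] (h4 : ¬ 4 ∣ Nat.card R) {u w : Q}
    (huR : u ∈ R) (hwR : w ∈ R) (hu : u * u = 1) (hw : w * w = 1) (hu1 : u ≠ 1) (hw1 : w ≠ 1)
    (h : u * w = w * u) : u = w := by
  classical
  by_contra hne
  have hui : u⁻¹ = u := inv_eq_of_mul_eq_one_left hu
  have hwi : w⁻¹ = w := inv_eq_of_mul_eq_one_left hw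
  let K : Subgroup Q :=
    { carrier := ({1, u, w, u * w} : Finset Q)
      one_mem' := by simp
      mul_mem' := by
        intro a b ha hb
        have e1 : ∀ y, u * (u * y) = y := fun y => by rw [← mul_assoc, hu, one_mul]
        have e2 : ∀ y, w * (w * y) = y := fun y => by rw [← mul_assoc, hw, one_mul]
        have e3 : w * (u * w) = u := by rw [h, e2]
        simp only [Finset.coe_insert, Finset.coe_singleton, Set.mem_insert_iff, Set.mem_singleton_iff] at ha hb ⊢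
        rcases ha with rfl | rfl | rfl | rfl <;> rcases hb with rfl | rfl | rfl | rfl <;>
          simp [mul_assoc, hu, hw, e1, e3, ← h]
      inv_mem' := by
        intro a ha
        simp only [Finset.coe_insert, Finset.coe_singleton, Set.mem_insert_iff, Set.mem_singleton_iff] at ha ⊢
        rcases ha with rfl | rfl | rfl | rfl <;> simp [hui, hwi, ← h] }
  have hK : K ≤ R := by
    intro a ha
    change a ∈ (({1, u, w, u * w} : Finset Q) : Set Q) at ha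
    simp only [Finset.coe_insert, Finset.coe_singleton, Set.mem_insert_iff, Set.mem_singleton_iff] at ha
    rcases ha with rfl | rfl | rfl | rfl
    · exact one_mem _
    · exact huR
    · exact hwR
    · exact mul_mem huR hwR
  have hc : Nat.card K = 4 := by
    change Nat.card ((({1, u, w, u * w} : Finset Q) : Set Q)) = 4
    rw [Nat.card_coe_set_eq, Set.ncard_coe_finset]
    have h1 : (1 : Q) ≠ u * w := fun h1 => hne (by
      have := congrArg (u * ·) h1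
      simp only [mul_one, ← mul_assoc, hu, one_mul] at this
      exact this)
    have h2 : u ≠ u * w := fun h1 => hw1 (by simpa using h1.symm)
    have h3 : w ≠ u * w := fun h1 => hu1 (by simpa using h1.symm)
    rw [Finset.card_insert_of_notMem, Finset.card_insert_of_notMem, Finset.card_insert_of_notMem,
      Finset.card_singleton]
    · simpa using h3
    · simp only [Finset.mem_insert, Finset.mem_singleton, not_or]
      exact ⟨hne, h2⟩
    · simp only [Finset.mem_insert, Finset.mem_singleton, not_or]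
      exact ⟨Ne.symm hu1, Ne.symm hw1, h1⟩
  exact h4 (hc ▸ Subgroup.card_dvd_of_le hK)

/-- the same, if `(u w) ^ 4 = 1` -/
theorem eq_of_pow {Q : Type*} [Group Q] {R : Subgroup Q} [Finite R] (h4 : ¬ 4 ∣ Nat.card R) {u w : Q}
    (huR : u ∈ R) (hwR : w ∈ R) (hu : u * u = 1) (hw : w * w = 1) (hu1 : u ≠ 1) (hw1 : w ≠ 1)
    (h : (u * w) ^ 4 = 1) : u = w := by
  refine eq_of_comm h4 huR hwR hu hw hu1 hw1 ?_
  have hui : u⁻¹ = u := inv_eq_of_mul_eq_one_left hu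
  have hwi : w⁻¹ = w := inv_eq_of_mul_eq_one_left hw
  have h1 : orderOf (u * w) ∣ 2 ^ 2 := orderOf_dvd_of_pow_eq_one h
  have h2 : orderOf (u * w) ∣ Nat.card R := by
    have h3 := orderOf_dvd_natCard (⟨u * w, mul_mem huR hwR⟩ : R)
    rwa [Subgroup.orderOf_mk] at h3
  have h3 : orderOf (u * w) ∣ 2 := by
    obtain ⟨k, hk, he⟩ := (Nat.dvd_prime_pow Nat.prime_two).1 h1
    rw [he] at h2 ⊢
    interval_cases k
    · exact ⟨2, rfl⟩
    · exact ⟨1, rfl⟩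
    · exact absurd h2 h4
  have h5 : (u * w) ^ 2 = 1 := orderOf_dvd_iff_pow_eq_one.1 h3
  have h6 : u * w = (u * w)⁻¹ := eq_inv_of_mul_eq_one_left (by rw [← pow_two]; exact h5)
  rw [h6, mul_inv_rev, hui, hwi]

/-! ### Transvections -/

section tv

variable {X V : Type*} [Group X] [AddCommGroup V]

/-- an action by additive maps -/
structure Act (act : X → V → V) : Prop where
  one : ∀ d, act 1 d = d
  mul : ∀ g h d, act (g * h) d = act g (act h d)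
  add : ∀ g d e, act g (d + e) = act g d + act g e

variable {act : X → V → V} (A : Act act)
include A

theorem Act.inv_l (g : X) (d : V) : act g⁻¹ (act g d) = d := by
  rw [← A.mul, inv_mul_cancel, A.one]

theorem Act.inv_r (g : X) (d : V) : act g (act g⁻¹ d) = d := by
  rw [← A.mul, mul_inv_cancel, A.one]

theorem Act.inj {g : X} {d e : V} (h : act g d = act g e) : d = e := by
  rw [← A.inv_l g d, h, A.inv_l]

theorem Act.zero (g : X) : act g 0 = 0 := by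
  have h := A.add g 0 0
  rw [add_zero] at h
  exact left_eq_add.1 h

/-- `u`, `w` transvections with centres `c`, `c'`, and `u` fixes `c'`; then `(u w) ^ 4 = 1` -/
theorem Act.tv4 (h2 : ∀ v : V, v + v = 0) {u w : X} {c c' : V} (hu : ∀ d, act u d = d ∨ act u d = d + c)
    (hw : ∀ d, act w d = d ∨ act w d = d + c') (huc : act u c = c) (hwc' : act w c' = c')
    (huc' : act u c' = c') (d : V) : act ((u * w) ^ 4) d = d := by
  have hf : ∀ d, act (u * w) d = act u (act w d) := fun d => A.mul _ _ _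
  have fc' : act (u * w) c' = c' := by rw [hf, hwc', huc']
  have fc : act (u * w) c = c ∨ act (u * w) c = c + c' := by
    rcases hw c with h | h
    · left; rw [hf, h, huc]
    · right; rw [hf, h, A.add, huc, huc']
  have hcc : c' + c' = 0 := h2 c'
  have hc0 : c + c = 0 := h2 c
  have key : ∀ d, act (u * w) (act (u * w) d) = d ∨ act (u * w) (act (u * w) d) = d + c' := by
    intro d
    have hd : act (u * w) d = d ∨ act (u * w) d = d + c ∨ act (u * w) d = d + c' ∨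
        act (u * w) d = d + (c + c') := by
      rcases hw d with h | h <;> rcases hu d with h' | h'
      · left; rw [hf, h, h']
      · right; left; rw [hf, h, h']
      · right; right; left; rw [hf, h, A.add, h', huc']
      · right; right; right; rw [hf, h, A.add, h', huc']; abel
    rcases hd with h | h | h | h
    · left; rw [h, h]
    · rcases fc with h' | h'
      · left; rw [h, A.add, h, h', add_assoc, hc0, add_zero]
      · right
        rw [h, A.add, h, h', add_assoc, ← add_assoc c c c', hc0, zero_add]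
    · left; rw [h, A.add, h, fc', add_assoc, hcc, add_zero]
    · rcases fc with h' | h'
      · left
        rw [h, A.add, h, A.add, h', fc', add_assoc, h2, add_zero]
      · right
        rw [h, A.add, h, A.add, h', fc', add_assoc, add_assoc c c' c', hcc, add_zero,
          add_comm c c', add_assoc c' c c, hc0, add_zero]
  have e : (u * w) ^ 4 = (u * w) * ((u * w) * ((u * w) * (u * w))) := by
    simp only [pow_succ, pow_zero, one_mul, mul_assoc]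
  rw [e, A.mul (u * w), A.mul (u * w), A.mul (u * w) (u * w)]
  rcases key d with h | h
  · rw [h]
    rcases key d with h' | h'
    · exact h'
    · rw [h]
  · rw [h, A.add, A.add, fc', fc', h, add_assoc, hcc, add_zero]

/-- **The core of (4)** -/
theorem Act.core (h2 : ∀ v : V, v + v = 0) {x k : X} {n s : V} (hx : ∀ d, act x d = d ∨ act x d = d + s)
    (hxs : act x s = s) (hxn : act x n = n + s) (hs : s ≠ 0) (hkn : act k n = n)
    (hk2 : act k (act k s) = s → act k s = s)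
    (hstar : ∀ g h : X, (∀ d, act (((g * x * g⁻¹) * (h * x * h⁻¹)) ^ 4) d = d) →
      ∀ d, act (g * x * g⁻¹) d = act (h * x * h⁻¹) d) : act k s = s := by
  by_contra hne
  -- the conjugates of `x` are transvections
  have hg : ∀ g d, act (g * x * g⁻¹) d = d ∨ act (g * x * g⁻¹) d = d + act g s := by
    intro g d
    rw [A.mul, A.mul]
    rcases hx (act g⁻¹ d) with h | h
    · left; rw [h, A.inv_r]
    · right; rw [h, A.add, A.inv_r]
  have hgs : ∀ g, act (g * x * g⁻¹) (act g s) = act g s := by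
    intro g
    rw [A.mul, A.mul, A.inv_l, hxs]
  have hgn : ∀ g, act (g * x * g⁻¹) (act g n) = act g n + act g s := by
    intro g
    rw [A.mul, A.mul, A.inv_l, hxn, A.add]
  have hgs0 : ∀ g, act g s ≠ 0 := fun g h => hs (A.inj (h.trans (A.zero g).symm))
  -- if `g x g⁻¹` fixes the centre of `h x h⁻¹` the two transvections are equal
  have L0 : ∀ g h, act (g * x * g⁻¹) (act h s) = act h s →
      ∀ d, act (g * x * g⁻¹) d = act (h * x * h⁻¹) d := fun g h hfix =>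
    hstar g h (A.tv4 h2 (hg g) (hg h) (hgs g) (hgs h) hfix)
  have L1 : ∀ g h, act g s ≠ act h s → act (g * x * g⁻¹) (act h s) = act h s + act g s := by
    intro g h hgh
    rcases hg g (act h s) with h1 | h1
    · exfalso
      have h3 := L0 g h h1 (act g n)
      rw [hgn] at h3
      rcases hg h (act g n) with h4 | h4
      · rw [h4] at h3
        exact hgs0 g (left_eq_add.1 h3.symm)
      · rw [h4] at h3
        exact hgh (add_left_cancel h3)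
    · exact h1
  have hone : act 1 s = s := A.one s
  have hkk : act (k * k) s = act k (act k s) := A.mul _ _ _
  have n0 : act (1 : X) s ≠ act k s := by rw [hone]; exact fun h => hne h.symm
  have n1 : act (1 : X) s ≠ act (k * k) s := by
    rw [hone, hkk]; exact fun h => hne (hk2 h.symm)
  have n2 : act k s ≠ act (k * k) s := by
    rw [hkk]; exact fun h => hne (A.inj h).symm
  have e1 : (1 : X) * x * 1⁻¹ = x := by group
  have x1 : act x (act k s) = act k s + s := by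
    have := L1 1 k n0
    rwa [e1, hone] at this
  have x2 : act x (act (k * k) s) = act (k * k) s + s := by
    have := L1 1 (k * k) n1
    rwa [e1, hone] at this
  have y1 : act (k * x * k⁻¹) s = s + act k s := by
    have := L1 k 1 n0.symm
    rwa [hone] at this
  have y2 : act (k * x * k⁻¹) (act (k * k) s) = act (k * k) s + act k s := L1 k (k * k) n2
  have z1 : act (k * k * x * (k * k)⁻¹) s = s + act (k * k) s := by
    have := L1 (k * k) 1 n1.symm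
    rwa [hone] at this
  -- `x' x x'⁻¹ = x''`
  have hyy : ∀ d, act (k * x * k⁻¹)⁻¹ d = act (k * x * k⁻¹) d := by
    intro d
    have h1 : act (k * x * k⁻¹) (act (k * x * k⁻¹) d) = d := by
      rcases hg k d with h | h
      · rw [h, h]
      · rw [h, A.add, h, hgs, add_assoc, h2, add_zero]
    have h3 := A.inv_l (k * x * k⁻¹) (act (k * x * k⁻¹) d)
    rwa [h1] at h3
  have hu : ∀ d, act ((k * x * k⁻¹) * x * (k * x * k⁻¹)⁻¹) d = act (k * k * x * (k * k)⁻¹) d := by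
    refine L0 (k * x * k⁻¹) (k * k) ?_
    rw [A.mul, A.mul, hyy, y2, A.add, x2, x1]
    have e3 : act (k * k) s + s + (act k s + s) = act (k * k) s + act k s := by
      calc act (k * k) s + s + (act k s + s) = act (k * k) s + act k s + (s + s) := by abel
        _ = _ := by rw [h2, add_zero]
    rw [e3, A.add, y2, hgs, add_assoc, h2, add_zero]
  -- `a = n + s` is fixed by `x'` and `x''`
  have ya : act (k * x * k⁻¹) (n + s) = n + s := by
    have h3 := hgn k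
    rw [hkn] at h3
    rw [A.add, h3, y1]
    calc n + act k s + (s + act k s) = n + s + (act k s + act k s) := by abel
      _ = n + s := by rw [h2, add_zero]
  have hkkn : act (k * k) n = n := by rw [A.mul, hkn, hkn]
  have za : act (k * k * x * (k * k)⁻¹) (n + s) = n + s := by
    have h3 := hgn (k * k)
    rw [hkkn] at h3
    rw [A.add, h3, z1]
    calc n + act (k * k) s + (s + act (k * k) s) = n + s + (act (k * k) s + act (k * k) s) := by abel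
      _ = n + s := by rw [h2, add_zero]
  have xa : act x (n + s) = n + s := by
    have h3 := hu (n + s)
    rw [za, A.mul, A.mul, hyy, ya] at h3
    have h4 := congrArg (act (k * x * k⁻¹)⁻¹) h3
    rw [A.inv_l, hyy, ya] at h4
    exact h4
  rw [A.add, hxn, hxs, add_assoc, h2, add_zero] at xa
  exact hs (left_eq_add.1 xa)

end tv

/-! ### The 2-part of the induced group -/

/-- the property `hstar`, if a subgroup of index not divisible by 4 acts trivially -/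
theorem Act.star {X V : Type*} [Group X] [Finite X] [AddCommGroup V] {act : X → V → V} (A : Act act)
    (h2 : ∀ v : V, v + v = 0) {T' : Subgroup X} (hT' : ¬ 4 ∣ T'.index) (hT : ∀ t ∈ T', ∀ d, act t d = d)
    {x : X} {n s : V} (hx : ∀ d, act x d = d ∨ act x d = d + s) (hxs : act x s = s)
    (hxn : act x n = n + s) (hs : s ≠ 0) :
    ∀ g h : X, (∀ d, act (((g * x * g⁻¹) * (h * x * h⁻¹)) ^ 4) d = d) →
      ∀ d, act (g * x * g⁻¹) d = act (h * x * h⁻¹) d := by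
  intro g h hgh
  let ρ : X →* Equiv.Perm V :=
    { toFun := fun g => ⟨act g, act g⁻¹, A.inv_l g, A.inv_r g⟩
      map_one' := Equiv.ext fun d => A.one d
      map_mul' := fun g h => Equiv.ext fun d => A.mul g h d }
  have hρ : ∀ g d, ρ g d = act g d := fun _ _ => rfl
  have h4 : ¬ 4 ∣ Nat.card ρ.range := by
    intro h4
    rw [← Subgroup.index_ker] at h4
    refine hT' (h4.trans (index_dvd_of_le fun t ht => ?_))
    exact MonoidHom.mem_ker.2 (Equiv.ext fun d => hT t ht d)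
  have hfin : Finite ρ.range := Set.finite_range ρ
  have hxx : ρ x * ρ x = 1 := by
    refine Equiv.ext fun d => ?_
    change act x (act x d) = d
    rcases hx d with h | h
    · rw [h, h]
    · rw [h, A.add, h, hxs, add_assoc, h2, add_zero]
  have hx1 : ρ x ≠ 1 := by
    intro h1
    have h3 : act x n = n := by
      have := congrArg (fun f : Equiv.Perm V => f n) h1
      exact this
    rw [hxn] at h3
    exact hs (left_eq_add.1 h3.symm)
  have hc : ∀ g, ρ (g * x * g⁻¹) * ρ (g * x * g⁻¹) = 1 := by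
    intro g
    rw [← map_mul]
    have e : g * x * g⁻¹ * (g * x * g⁻¹) = g * (x * x) * g⁻¹ := by group
    rw [e, map_mul, map_mul, map_mul, hxx, mul_one, ← map_mul, mul_inv_cancel, map_one]
  have hc1 : ∀ g, ρ (g * x * g⁻¹) ≠ 1 := by
    intro g h1
    apply hx1
    rw [map_mul, map_mul, mul_eq_one_iff_eq_inv, ← map_inv, inv_inv] at h1
    exact mul_eq_left.1 h1
  have h5 := eq_of_pow h4 ⟨g * x * g⁻¹, rfl⟩ ⟨h * x * h⁻¹, rfl⟩
    (hc g) (hc h) (hc1 g) (hc1 h) (by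
      rw [← map_mul, ← map_pow]
      exact Equiv.ext fun d => hgh d)
  intro d
  exact congrArg (fun f : Equiv.Perm V => f d) h5

/-! ### The configuration -/

universe u

variable {G : Type u} [Group G] [Finite G]

/-- a 2-element of `N` normalising the Sylow 2-subgroup `T` of `N` is in `T` -/
theorem mem_of_two {T N : Subgroup G} (hT : IsPGroup 2 T) (hTN : T ≤ N) (hd : ¬ 2 ∣ T.relIndex N) {y : G}
    (hyN : y ∈ N) (hyT : y ∈ normalizer (T : Set G)) (hy : ∃ j : ℕ, y ^ 2 ^ j = 1) : y ∈ T := by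
  have hf : Fact (Nat.Prime 2) := ⟨Nat.prime_two⟩
  obtain ⟨j, hj⟩ := hy
  have h1 : IsPGroup 2 (zpowers y) := by
    refine IsPGroup.of_card (n := (Nat.factorization (orderOf y)) 2) ?_
    rw [Nat.card_zpowers]
    obtain ⟨i, -, hi⟩ := (Nat.dvd_prime_pow Nat.prime_two).1 (orderOf_dvd_of_pow_eq_one hj)
    rw [hi, Nat.prime_two.factorization_pow]
    simp
  have h2 : IsPGroup 2 (zpowers y ⊔ T : Subgroup G) :=
    IsPGroup.to_sup_of_normal_right' h1 hT (by rwa [zpowers_le])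
  have h3 : zpowers y ⊔ T ≤ N := sup_le (by rwa [zpowers_le]) hTN
  have h4 : T.relIndex (zpowers y ⊔ T) ∣ T.relIndex N := by
    rw [← relIndex_mul_relIndex T (zpowers y ⊔ T) N le_sup_right h3]
    exact Dvd.intro _ rfl
  have h5 : T.relIndex (zpowers y ⊔ T) = 1 := by
    obtain ⟨i, hi⟩ := IsPGroup.iff_card.1 h2
    have h6 : T.relIndex (zpowers y ⊔ T) ∣ 2 ^ i := by
      rw [← hi]; exact relIndex_dvd_card _ _
    obtain ⟨k, -, hk⟩ := (Nat.dvd_prime_pow Nat.prime_two).1 h6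
    rcases Nat.eq_zero_or_pos k with rfl | hk0
    · simpa using hk
    · exfalso
      apply hd
      refine dvd_trans ?_ h4
      rw [hk]
      exact dvd_pow_self 2 hk0.ne'
  exact (relIndex_eq_one.1 h5) (mem_sup_left (mem_zpowers y))

section

variable {S : Sylow 2 G} {V₁ V₂ L₁ L₂ : Subgroup G} {M₁ : FiveMod V₁ L₁} {M₂ : FiveMod V₂ L₂} {h : G}
  (b : Z.Base S M₁ M₂ h) {V₀ : Subgroup G}
include b

/-- `N_G(T) ∩ C_G(n)` centralises `s`. -/
theorem norm_s (hV0S : ∀ v ∈ V₀, ∀ g ∈ (S : Subgroup G), g * v = v * g)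
    (hz : ∀ d ∈ zc ((S : Subgroup G) ⊓ centralizer ({M₁.e nn} : Set G)),
      ∃ v ∈ V₀, d = v ∨ d = v * M₁.e nn ∨ d = v * M₁.e aa ∨ d = v * M₁.e ss)
    {k : G} (hk : k ∈ normalizer (((S : Subgroup G) ⊓ centralizer ({M₁.e nn} : Set G) : Subgroup G) : Set G))
    (hkn : k * M₁.e nn = M₁.e nn * k) : k * M₁.e ss = M₁.e ss * k := by
  classical
  obtain ⟨x, hxS, hx⟩ := b.dih₁.exists_swap
  set T := (S : Subgroup G) ⊓ centralizer ({M₁.e nn} : Set G) with hTdef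
  set X := normalizer (T : Set G) with hX
  have hSX : (S : Subgroup G) ≤ X := b.dih₁.S_le_normalizer_T
  have hxX : x ∈ X := hSX hxS
  have hXD : ∀ g ∈ X, ∀ d ∈ zc T, g * d * g⁻¹ ∈ zc T := fun g hg d hd =>
    (mem_normalizer_iff.1 (MinSimple.VModule.normalizer_le_normalizer_zc T hg) d).1 hd
  let _ : CommGroup (zc T) := { (inferInstance : Group (zc T)) with
    mul_comm := fun x y => Subtype.ext (MinSimple.VModule.zc_comm T x x.2 y y.2) }
  let act : X → Additive (zc T) → Additive (zc T) := fun g d =>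
    Additive.ofMul (⟨g * (Additive.toMul d : zc T) * (g : G)⁻¹, hXD g g.2 _ (Additive.toMul d).2⟩ : zc T)
  have hact : ∀ (g : X) (d : zc T), act g (Additive.ofMul d) =
      Additive.ofMul (⟨g * d * (g : G)⁻¹, hXD g g.2 _ d.2⟩ : zc T) := fun _ _ => rfl
  have A : Act act :=
    { one := fun d => by
        refine congrArg Additive.ofMul (Subtype.ext ?_)
        change (1 : G) * ((Additive.toMul d : zc T) : G) * (1 : G)⁻¹ = ((Additive.toMul d : zc T) : G)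
        rw [one_mul, inv_one, mul_one]
      mul := fun g g' d => by
        refine congrArg Additive.ofMul (Subtype.ext ?_)
        change ((g : G) * g') * ((Additive.toMul d : zc T) : G) * ((g : G) * g')⁻¹ =
          g * (g' * ((Additive.toMul d : zc T) : G) * (g' : G)⁻¹) * (g : G)⁻¹
        group
      add := fun g d e => by
        refine congrArg Additive.ofMul (Subtype.ext ?_)
        change (g : G) * (((Additive.toMul d : zc T) : G) * ((Additive.toMul e : zc T) : G)) * (g : G)⁻¹ =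
          (g * ((Additive.toMul d : zc T) : G) * (g : G)⁻¹) * (g * ((Additive.toMul e : zc T) : G) * (g : G)⁻¹)
        group }
  have h2 : ∀ v : Additive (zc T), v + v = 0 := by
    intro v
    refine congrArg Additive.ofMul (Subtype.ext ?_ : (Additive.toMul v : zc T) * Additive.toMul v = 1)
    change ((Additive.toMul v : zc T) : G) * ((Additive.toMul v : zc T) : G) = 1
    rw [← pow_two]
    exact MinSimple.VModule.zc_sq T _ (Additive.toMul v).2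
  have hnz : M₁.e nn ∈ zc T := b.dih₁.n_mem_zT
  have hsz : M₁.e ss ∈ zc T := b.dih₁.s_mem_zT
  let n' : Additive (zc T) := Additive.ofMul (⟨M₁.e nn, hnz⟩ : zc T)
  let s' : Additive (zc T) := Additive.ofMul (⟨M₁.e ss, hsz⟩ : zc T)
  let x' : X := ⟨x, hxX⟩
  have hs : s' ≠ 0 := fun h0 => s_ne M₁ (congrArg Subtype.val (Additive.ofMul.injective h0 :
    (⟨M₁.e ss, hsz⟩ : zc T) = 1))
  have hmk : ∀ {d e : zc T}, (d : G) = e → Additive.ofMul d = Additive.ofMul e := fun h0 =>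
    congrArg Additive.ofMul (Subtype.ext h0)
  have hxs : act x' s' = s' := hmk (Dih.tt_s hx)
  have hxn : act x' n' = n' + s' := by
    refine hmk ((Dih.tt_n hx).trans ?_)
    exact (ns M₁).symm
  have hx' : ∀ d, act x' d = d ∨ act x' d = d + s' := by
    intro d
    have hd := (Additive.toMul d : zc T).2
    obtain ⟨v, hv, h1⟩ := hz _ hd
    have hxv : x * v * x⁻¹ = v := by rw [hV0S v hv x hxS, mul_inv_cancel_right]
    have hc : ∀ y, x * (v * y) * x⁻¹ = v * (x * y * x⁻¹) := by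
      intro y
      calc x * (v * y) * x⁻¹ = (x * v * x⁻¹) * (x * y * x⁻¹) := by group
        _ = _ := by rw [hxv]
    rcases h1 with h1 | h1 | h1 | h1
    · left
      refine hmk ?_
      change x * ((Additive.toMul d : zc T) : G) * x⁻¹ = ((Additive.toMul d : zc T) : G)
      rw [h1]; exact hxv
    · right
      refine hmk ?_
      change x * ((Additive.toMul d : zc T) : G) * x⁻¹ = ((Additive.toMul d : zc T) : G) * M₁.e ss
      rw [h1, hc, Dih.tt_n hx, mul_assoc, ns]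
    · right
      refine hmk ?_
      change x * ((Additive.toMul d : zc T) : G) * x⁻¹ = ((Additive.toMul d : zc T) : G) * M₁.e ss
      rw [h1, hc, Dih.tt_a hx, mul_assoc, as]
    · left
      refine hmk ?_
      change x * ((Additive.toMul d : zc T) : G) * x⁻¹ = ((Additive.toMul d : zc T) : G)
      rw [h1, hc, Dih.tt_s hx]
  have hTX : T ≤ X := Subgroup.le_normalizer
  have hT' : ¬ 4 ∣ (T.subgroupOf X).index := by
    have e1 : T.relIndex X = T.relIndex S * (S : Subgroup G).relIndex X :=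
      (relIndex_mul_relIndex T S X inf_le_left hSX).symm
    have e2 : T.relIndex (S : Subgroup G) = 2 := by
      have h3 := card_mul_index (T.subgroupOf (S : Subgroup G))
      have h4 : Nat.card (T.subgroupOf (S : Subgroup G)) = Nat.card T :=
        Nat.card_congr (subgroupOfEquivOfLe inf_le_left).toEquiv
      rw [h4, b.card_S, mul_comm 2] at h3
      exact Nat.eq_of_mul_eq_mul_left Nat.card_pos h3
    have e3 := MinSimple.Basic.not_dvd_relIndex S hSX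
    change ¬ 4 ∣ T.relIndex X
    rw [e1, e2]
    intro h4
    apply e3
    have h5 : 2 * 2 ∣ 2 * (S : Subgroup G).relIndex X := h4
    exact Nat.dvd_of_mul_dvd_mul_left (by norm_num) h5
  have hT : ∀ t ∈ T.subgroupOf X, ∀ d, act t d = d := by
    intro t ht d
    refine hmk ?_
    change (t : G) * ((Additive.toMul d : zc T) : G) * (t : G)⁻¹ = ((Additive.toMul d : zc T) : G)
    rw [(MinSimple.VModule.mem_zc.1 (Additive.toMul d : zc T).2).2.1 t (mem_subgroupOf.1 ht),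
      mul_inv_cancel_right]
  have hstar := A.star h2 hT' hT hx' hxs hxn hs
  let k' : X := ⟨k, hk⟩
  have hkn' : act k' n' = n' := by
    refine hmk ?_
    change k * M₁.e nn * k⁻¹ = M₁.e nn
    rw [hkn, mul_inv_cancel_right]
  -- `k ^ r ∈ T` with `r` odd
  have hk2 : act k' (act k' s') = s' → act k' s' = s' := by
    intro h0
    obtain ⟨j, r, hr, hjr⟩ := Nat.exists_eq_two_pow_mul_odd (orderOf_pos k).ne'
    have hkr : k ^ r ∈ T := by
      refine mem_of_two (S.isPGroup'.to_le inf_le_left) inf_le_right b.not_dvd (pow_mem (mem_C.2 hkn) r)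
        (pow_mem hk r) ⟨j, ?_⟩
      rw [← pow_mul, mul_comm, ← hjr, pow_orderOf_eq_one]
    have h1 : act (k' ^ r) s' = s' := hT _ (mem_subgroupOf.2 (by
      rw [SubmonoidClass.coe_pow]; exact hkr)) _
    obtain ⟨i, hi⟩ := hr
    have h3 : ∀ i : ℕ, act (k' ^ (2 * i)) s' = s' := by
      intro i
      induction i with
      | zero => rw [mul_zero, pow_zero]; exact A.one _
      | succ i ih =>
        rw [mul_add, mul_one, pow_add, A.mul, pow_two, A.mul, h0, ih]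
    rw [hi, pow_succ', A.mul, h3] at h1
    exact h1
  have h5 := A.core h2 hx' hxs hxn hs hkn' hk2 hstar
  have h6 : k * M₁.e ss * k⁻¹ = M₁.e ss :=
    congrArg (fun d : Additive (zc T) => ((Additive.toMul d : zc T) : G)) h5
  rwa [mul_inv_eq_iff_eq_mul] at h6

/-- **(4)**: `a` is the only element of `a ^ C_G(n)` centralised by `T`. -/
theorem eq_a (hV0S : ∀ v ∈ V₀, ∀ g ∈ (S : Subgroup G), g * v = v * g)
    (hz : ∀ d ∈ zc ((S : Subgroup G) ⊓ centralizer ({M₁.e nn} : Set G)),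
      ∃ v ∈ V₀, d = v ∨ d = v * M₁.e nn ∨ d = v * M₁.e aa ∨ d = v * M₁.e ss)
    {g : G} (hg : g * M₁.e nn = M₁.e nn * g)
    (hc : ∀ t ∈ (S : Subgroup G) ⊓ centralizer ({M₁.e nn} : Set G),
      t * (g * M₁.e aa * g⁻¹) = g * M₁.e aa * g⁻¹ * t) : g * M₁.e aa * g⁻¹ = M₁.e aa := by
  set T := (S : Subgroup G) ⊓ centralizer ({M₁.e nn} : Set G) with hTdef
  set c := g * M₁.e aa * g⁻¹ with hcdef
  set Y := centralizer ({M₁.e nn} : Set G) ⊓ centralizer ({c} : Set G) with hY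
  have hTp : IsPGroup 2 T := S.isPGroup'.to_le inf_le_left
  have hTY : T ≤ Y := le_inf inf_le_right fun t ht => mem_C.2 (hc t ht)
  have hd : ¬ 2 ∣ T.relIndex Y := by
    intro h2
    apply b.not_dvd
    refine dvd_trans h2 ?_
    rw [← relIndex_mul_relIndex T Y (centralizer ({M₁.e nn} : Set G)) hTY inf_le_left]
    exact Dvd.intro _ rfl
  have hgT : cj g T ≤ Y := by
    rintro _ ⟨t, ht, rfl⟩
    change g * t * g⁻¹ ∈ Y
    have h1 : t * M₁.e nn = M₁.e nn * t := mem_C.1 ht.2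
    have h3 := b.dih₁.T_comm_a ht
    have hg' : M₁.e nn = g * M₁.e nn * g⁻¹ := by rw [hg, mul_inv_cancel_right]
    refine mem_inf.2 ⟨mem_C.2 ?_, mem_C.2 ?_⟩
    · rw [hg']
      calc g * t * g⁻¹ * (g * M₁.e nn * g⁻¹) = g * (t * M₁.e nn) * g⁻¹ := by group
        _ = g * (M₁.e nn * t) * g⁻¹ := by rw [h1]
        _ = g * M₁.e nn * g⁻¹ * (g * t * g⁻¹) := by group
    · calc g * t * g⁻¹ * (g * M₁.e aa * g⁻¹) = g * (t * M₁.e aa) * g⁻¹ := by group
        _ = g * (M₁.e aa * t) * g⁻¹ := by rw [h3]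
        _ = g * M₁.e aa * g⁻¹ * (g * t * g⁻¹) := by group
  have hgTp : IsPGroup 2 (cj g T) := hTp.map _
  obtain ⟨k, hk, hkT⟩ := exists_conj_le_of_odd_relIndex hTp hd hgTp hgT
  have hkg : k * g ∈ normalizer (T : Set G) := by
    refine mem_normalizer_of_cj_le ?_
    rintro _ ⟨t, ht, rfl⟩
    change k * g * t * (k * g)⁻¹ ∈ T
    have h1 := hkT (g * t * g⁻¹) ⟨t, ht, rfl⟩
    have e : k * g * t * (k * g)⁻¹ = k * (g * t * g⁻¹) * k⁻¹ := by group
    rwa [e]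
  have hkn : k * M₁.e nn = M₁.e nn * k := mem_C.1 hk.1
  have hkc : k * c = c * k := mem_C.1 hk.2
  have h1 : k * g * M₁.e nn = M₁.e nn * (k * g) := by
    calc k * g * M₁.e nn = k * (g * M₁.e nn) := by group
      _ = k * M₁.e nn * g := by rw [hg]; group
      _ = M₁.e nn * (k * g) := by rw [hkn]; group
  have h3 := norm_s b hV0S hz hkg h1
  have h4 : k * g * M₁.e aa * (k * g)⁻¹ = M₁.e aa := by
    rw [mul_inv_eq_iff_eq_mul, ← ns M₁]
    calc k * g * (M₁.e nn * M₁.e ss) = k * g * M₁.e nn * M₁.e ss := by group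
      _ = M₁.e nn * (k * g * M₁.e ss) := by rw [h1]; group
      _ = M₁.e nn * M₁.e ss * (k * g) := by rw [h3]; group
  have h5 : k * g * M₁.e aa * (k * g)⁻¹ = c := by
    calc k * g * M₁.e aa * (k * g)⁻¹ = k * c * k⁻¹ := by rw [hcdef]; group
      _ = c := by rw [hkc, mul_inv_cancel_right]
  rw [← h5, h4]

end

end Cfsg.Agent.Omega.TTn.Z.Fus

end

section


/-!
# #15257: the normal form of a T-T pair, `n` not 2-central, `V_P = V₀ × A`: alignment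

`exists_align` of `TTn/Norm.lean` with `[Ω₁(Z(T)), S] ≤ ⟨s⟩` instead of `Ω₁(Z(T)) = E₄`.
-/

set_option autoImplicit false
set_option linter.unusedSectionVars false

namespace Cfsg.Agent.Omega.TTn.Z

open Subgroup Cfsg Cfsg.Agent.ZN Cfsg.Agent.ZN.ChoiceBase
open Cfsg.Agent.Omega.S5.Mod Cfsg.Agent.Omega.S5.TT
open Cfsg.Agent.Omega.S5.TT.Pos (na ns as sn n_ne s_ne a_ne n_ne_a n_ne_s a_ne_s e_sq' mem_C)
open Cfsg.Agent.MinSimple.VModule (o2_isPGroup le_o2 o2_le le_normalizer_o2 o2_le_of_sylow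
  normalizer_le_normalizer_zc le_centralizer_zc mem_zc)

universe u

/-- commuting involutions in a group with Sylow 2-subgroups of order 2 are equal -/
theorem eq_of_sylow_two {Γ : Type*} [Group Γ] [Finite Γ] (P : Sylow 2 Γ)
    (hP : Nat.card (P : Subgroup Γ) ≤ 2) {t t' : Γ} (ht : t * t = 1) (ht' : t' * t' = 1)
    (hc : t * t' = t' * t) (h1 : t ≠ 1) (h1' : t' ≠ 1) : t = t' := by
  have hf : Fact (Nat.Prime 2) := ⟨Nat.prime_two⟩
  by_contra hne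
  have hz : ∀ x : Γ, x * x = 1 → IsPGroup 2 (zpowers x) := by
    rintro x hx ⟨y, hy⟩
    obtain ⟨k, rfl⟩ := mem_zpowers_iff.1 hy
    refine ⟨1, Subtype.ext ?_⟩
    change (x ^ k) ^ 2 ^ 1 = 1
    rw [pow_one, pow_two, ← zpow_add, ← two_mul, zpow_mul, zpow_two, hx, one_zpow]
  have hQ : IsPGroup 2 (zpowers t ⊔ zpowers t' : Subgroup Γ) := by
    refine (hz t ht).to_sup_of_normal_right' (hz t' ht') ?_
    rw [zpowers_le]
    refine centralizer_le_normalizer _ (mem_centralizer_iff.2 ?_)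
    rintro _ ⟨k, rfl⟩
    exact ((show Commute t t' from hc).zpow_right k).symm
  obtain ⟨R, hR⟩ := hQ.exists_le_sylow
  have hcR : Nat.card (R : Subgroup Γ) = Nat.card (P : Subgroup Γ) :=
    Nat.card_congr (Sylow.equiv R P).toEquiv
  have h3 : Nat.card (Fin 3) ≤ Nat.card (R : Subgroup Γ) := by
    have hm1 : t ∈ (R : Subgroup Γ) := hR ((le_sup_left : zpowers t ≤ _) (mem_zpowers t))
    have hm2 : t' ∈ (R : Subgroup Γ) := hR ((le_sup_right : zpowers t' ≤ _) (mem_zpowers t'))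
    let f : Fin 3 → (R : Subgroup Γ) := ![1, ⟨t, hm1⟩, ⟨t', hm2⟩]
    refine Nat.card_le_card_of_injective f ?_
    have e0 : ((f 0 : (R : Subgroup Γ)) : Γ) = 1 := rfl
    have e1 : ((f 1 : (R : Subgroup Γ)) : Γ) = t := rfl
    have e2 : ((f 2 : (R : Subgroup Γ)) : Γ) = t' := rfl
    intro i j hij
    have hij' := congrArg Subtype.val hij
    fin_cases i <;> fin_cases j <;> first
      | rfl
      | (exfalso; first
          | exact h1 (by simpa [e0, e1, e2] using hij')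
          | exact h1 (by simpa [e0, e1, e2] using hij'.symm)
          | exact h1' (by simpa [e0, e1, e2] using hij')
          | exact h1' (by simpa [e0, e1, e2] using hij'.symm)
          | exact hne (by simpa [e0, e1, e2] using hij')
          | exact hne (by simpa [e0, e1, e2] using hij'.symm))
  rw [Nat.card_fin, hcR] at h3
  omega

variable {G : Type u} [Group G]

/-! ### One module -/

namespace Dih

variable {S : Sylow 2 G} {V L : Subgroup G} {M : FiveMod V L} (t : Dih S M)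
include t

theorem card_S [Finite G] : Nat.card (S : Subgroup G) =
    2 * Nat.card ((S : Subgroup G) ⊓ centralizer ({M.e nn} : Set G) : Subgroup G) := by
  obtain ⟨g, hgS, hg⟩ := t.exists_swap
  set T := (S : Subgroup G) ⊓ centralizer ({M.e nn} : Set G) with hT
  have h1 : (T.subgroupOf S).index = 2 := by
    rw [index_eq_two_iff]
    refine ⟨⟨g, hgS⟩, fun x => ?_⟩
    have hgT : g ∉ T := by
      intro h0
      have h2 := Dih.tt_n hg
      rw [mem_C.1 h0.2, mul_inv_cancel_right] at h2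
      exact n_ne_a M h2
    by_cases hx : (x : G) ∈ T
    · right
      refine ⟨mem_subgroupOf.2 hx, fun h0 => hgT ?_⟩
      have h2 := mem_subgroupOf.1 h0
      have h3 := mul_mem (inv_mem hx) h2
      have h4 : (x : G)⁻¹ * ((x * ⟨g, hgS⟩ : (S : Subgroup G)) : G) = g := by
        rw [coe_mul]; group
      rwa [h4] at h3
    · left
      refine ⟨mem_subgroupOf.2 ?_, fun h0 => hx (mem_subgroupOf.1 h0)⟩
      rcases t.mem_or hgS hg x.2 with h2 | h2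
      · exact absurd h2 hx
      · exact h2
  have h2 := (T.subgroupOf (S : Subgroup G)).card_mul_index
  rw [h1] at h2
  have h3 : Nat.card (T.subgroupOf (S : Subgroup G)) = Nat.card T :=
    Nat.card_congr (subgroupOfEquivOfLe inf_le_left).toEquiv
  rw [← h2, h3, mul_comm]

/-- `T = C_S(n)` is a Sylow 2-subgroup of `C_G(n)`, if `n` is not 2-central. -/
theorem not_dvd [Finite G] (nc : ∀ P : Sylow 2 G, ¬ (P : Subgroup G) ≤ centralizer ({M.e nn} : Set G)) :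
    ¬ 2 ∣ ((S : Subgroup G) ⊓ centralizer ({M.e nn} : Set G)).relIndex
      (centralizer ({M.e nn} : Set G)) := by
  have hf : Fact (Nat.Prime 2) := ⟨Nat.prime_two⟩
  set N := centralizer ({M.e nn} : Set G) with hN
  set T := (S : Subgroup G) ⊓ N with hT
  have hTp : IsPGroup 2 (T.subgroupOf N) :=
    (S.isPGroup'.to_le inf_le_left).comap_of_injective _ N.subtype_injective
  obtain ⟨P, hP⟩ := hTp.exists_le_sylow
  have hPG : IsPGroup 2 ((P : Subgroup N).map N.subtype) := P.isPGroup'.map _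
  obtain ⟨R, hR⟩ := hPG.exists_le_sylow
  have hlt : (P : Subgroup N).map N.subtype < (R : Subgroup G) := by
    refine lt_of_le_of_ne hR fun h0 => nc R ?_
    rw [← h0]
    exact map_subtype_le _
  have hcR : Nat.card (R : Subgroup G) = Nat.card (S : Subgroup G) :=
    Nat.card_congr (Sylow.equiv R S).toEquiv
  have h2 : 2 * Nat.card ((P : Subgroup N).map N.subtype) ≤ Nat.card (R : Subgroup G) := by
    obtain ⟨k, hk⟩ := card_dvd_of_le hR
    rw [hk, mul_comm]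
    refine Nat.mul_le_mul_left _ ?_
    rcases k with _ | _ | k
    · rw [mul_zero] at hk
      exact absurd hk Nat.card_pos.ne'
    · rw [zero_add, mul_one] at hk
      exact absurd (eq_of_le_of_card_ge hR hk.le) hlt.ne
    · omega
  have h3 : Nat.card ((P : Subgroup N).map N.subtype) = Nat.card (P : Subgroup N) :=
    Nat.card_congr (equivMapOfInjective _ _ N.subtype_injective).symm.toEquiv
  have h4 : Nat.card (T.subgroupOf N) = Nat.card T :=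
    Nat.card_congr (subgroupOfEquivOfLe inf_le_right).toEquiv
  have h5 : (P : Subgroup N) = T.subgroupOf N := by
    refine (eq_of_le_of_card_ge hP ?_).symm
    rw [h4, ← h3]
    have h6 := t.card_S
    rw [← hN, ← hT] at h6
    omega
  have h6 := P.not_dvd_index
  rw [h5] at h6
  exact h6

/-- Conjugating the module by an element of `N_G(S)`. -/
theorem cj [Finite G] {g : G} (hg : ∀ x ∈ (S : Subgroup G), g * x * g⁻¹ ∈ (S : Subgroup G)) :
    Dih S (M.cj g) := by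
  have hgN : g ∈ normalizer ((S : Subgroup G) : Set G) := by
    refine mem_normalizer_of_cj_le ?_
    rintro _ ⟨x, hx, rfl⟩
    exact hg x hx
  have hg' : ∀ x ∈ (S : Subgroup G), g⁻¹ * x * g ∈ (S : Subgroup G) := by
    intro x hx
    have := (mem_normalizer_iff.1 (inv_mem hgN) x).1 hx
    rwa [inv_inv] at this
  refine ⟨?_, ?_, ?_⟩
  · intro x hx
    rw [mem_cj]
    exact t.S_le (hg' x hx)
  · intro x hx p hp
    exact t.d8 _ (hg' x hx) p (ind_of_cj hp)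
  · intro p hp
    obtain ⟨b, hb, hi⟩ := t.d8' p hp
    exact ⟨_, hg b hb, M.cj_ind hi⟩

end Dih

/-! ### Two modules with the same `n` -/

/-- conjugates of `n` are not 2-central -/
theorem nc_conj {n : G} (nc : ∀ P : Sylow 2 G, ¬ (P : Subgroup G) ≤ centralizer ({n} : Set G)) (g : G)
    (P : Sylow 2 G) : ¬ (P : Subgroup G) ≤ centralizer ({g * n * g⁻¹} : Set G) := by
  intro hP
  refine nc (g⁻¹ • P) ?_
  rintro _ ⟨y, hy, rfl⟩
  have h1 := mem_C.1 (hP hy)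
  refine mem_C.2 ?_
  change g⁻¹ * y * g⁻¹⁻¹ * n = n * (g⁻¹ * y * g⁻¹⁻¹)
  calc g⁻¹ * y * g⁻¹⁻¹ * n = g⁻¹ * (y * (g * n * g⁻¹)) * g := by group
    _ = g⁻¹ * (g * n * g⁻¹ * y) * g := by rw [h1]
    _ = n * (g⁻¹ * y * g⁻¹⁻¹) := by group

/-- two Sylow subgroups `S`, `S'` over the same `T ⊴`, acting on `B` as transvections `n ↦ n s`, `n ↦ n s'` -/
theorem same_action [Finite G] {S : Sylow 2 G} {H B : Subgroup G} {x x' n s s' : G}
    (hSH : (S : Subgroup G) ≤ H) (hBH : H ≤ normalizer (B : Set G)) (hBc : ∀ b ∈ B, ∀ b' ∈ B, b * b' = b' * b)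
    (hB2 : ∀ b ∈ B, b * b = 1)
    (hS : ∀ g ∈ (S : Subgroup G), (∀ b ∈ B, g * b * g⁻¹ = b) ∨ ∀ b ∈ B, g * x * b * (g * x)⁻¹ = b)
    (hx : x ∈ H) (hx' : x' ∈ H) (hn : n ∈ B) (hs : s ∈ B) (hs' : s' ∈ B) (hs1 : s ≠ 1) (hs1' : s' ≠ 1)
    (ax : ∀ b ∈ B, x * b * x⁻¹ = b ∨ x * b * x⁻¹ = b * s) (ax' : ∀ b ∈ B, x' * b * x'⁻¹ = b ∨ x' * b * x'⁻¹ = b * s')
    (xn : x * n * x⁻¹ = n * s) (xn' : x' * n * x'⁻¹ = n * s') (xs : x * s * x⁻¹ = s) (xs' : x * s' * x⁻¹ = s')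
    (ys : x' * s * x'⁻¹ = s) (ys' : x' * s' * x'⁻¹ = s') : ∀ b ∈ B, x * b * x⁻¹ = x' * b * x'⁻¹ := by
  have hf : Fact (Nat.Prime 2) := ⟨Nat.prime_two⟩
  obtain ⟨C, hC⟩ : ∃ C, C = centralizer (B : Set G) := ⟨_, rfl⟩
  have hCm : ∀ g, g ∈ C ↔ ∀ b ∈ B, g * b * g⁻¹ = b := by
    intro g
    rw [hC, mem_centralizer_iff]
    exact forall₂_congr fun b _ => by rw [mul_inv_eq_iff_eq_mul]; exact eq_comm
  have hCn : (C.subgroupOf H).Normal := by
    refine ⟨fun g hg h => ?_⟩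
    rw [mem_subgroupOf, hCm] at hg ⊢
    intro b hb
    have h1 : (h : G)⁻¹ * b * h ∈ B := by
      have := (mem_normalizer_iff.1 (inv_mem (hBH h.2)) b).1 hb
      rwa [inv_inv] at this
    have h2 := hg _ h1
    calc ((h * g * h⁻¹ : H) : G) * b * ((h * g * h⁻¹ : H) : G)⁻¹ = h * (g * ((h : G)⁻¹ * b * h) * (g : G)⁻¹) * (h : G)⁻¹ := by
          simp only [coe_mul, coe_inv]; group
      _ = b := by rw [h2]; group
  let q := QuotientGroup.mk' (C.subgroupOf H)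
  have hq1 : ∀ g : H, q g = 1 ↔ (g : G) ∈ C := fun g => by
    change (QuotientGroup.mk g : H ⧸ C.subgroupOf H) = 1 ↔ _
    rw [QuotientGroup.eq_one_iff, mem_subgroupOf]
  let P : Sylow 2 (H ⧸ C.subgroupOf H) := (S.subtype hSH).mapSurjective (f := q) (QuotientGroup.mk'_surjective _)
  have hP : ∀ y, y ∈ (P : Subgroup (H ⧸ C.subgroupOf H)) → y = 1 ∨ y * q ⟨x, hx⟩ = 1 := by
    rintro _ ⟨g, hg, rfl⟩
    rcases hS g hg with h1 | h1
    · exact Or.inl ((hq1 g).2 ((hCm _).2 h1))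
    · right
      change q g * q ⟨x, hx⟩ = 1
      rw [← map_mul, hq1]
      exact (hCm _).2 h1
  have hcP : Nat.card (P : Subgroup (H ⧸ C.subgroupOf H)) ≤ 2 := by
    have h1 : ((P : Subgroup (H ⧸ C.subgroupOf H)) : Set (H ⧸ C.subgroupOf H)) ⊆ {1, (q ⟨x, hx⟩)⁻¹} := by
      intro y hy
      rcases hP y hy with h1 | h1
      · exact Or.inl h1
      · exact Or.inr (eq_inv_of_mul_eq_one_left h1)
    calc Nat.card (P : Subgroup (H ⧸ C.subgroupOf H)) = Set.ncard ((P : Subgroup (H ⧸ C.subgroupOf H)) : Set _) := rfl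
      _ ≤ Set.ncard {1, (q ⟨x, hx⟩)⁻¹} := Set.ncard_le_ncard h1 (Set.toFinite _)
      _ ≤ 2 := Set.ncard_insert_le _ _ |>.trans (by rw [Set.ncard_singleton])
  have hconj : ∀ g b c : G, g * (b * c) * g⁻¹ = g * b * g⁻¹ * (g * c * g⁻¹) := fun g b c => by group
  have hxx : ∀ b ∈ B, x * (x * b * x⁻¹) * x⁻¹ = b := by
    intro b hb
    rcases ax b hb with h1 | h1
    · rw [h1, h1]
    · rw [h1, hconj, h1, xs, mul_assoc, hB2 s hs, mul_one]
  have hxx' : ∀ b ∈ B, x' * (x' * b * x'⁻¹) * x'⁻¹ = b := by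
    intro b hb
    rcases ax' b hb with h1 | h1
    · rw [h1, h1]
    · rw [h1, hconj, h1, ys', mul_assoc, hB2 s' hs', mul_one]
  have hxy : ∀ b ∈ B, x * (x' * b * x'⁻¹) * x⁻¹ = x' * (x * b * x⁻¹) * x'⁻¹ := by
    intro b hb
    rcases ax b hb with h1 | h1 <;> rcases ax' b hb with h2 | h2
    · rw [h1, h2, h1]
    · rw [h1, h2, hconj, h1, xs']
    · rw [h1, h2, h1, hconj, h2, ys]
    · rw [h1, h2, hconj, h1, xs', hconj, h2, ys, mul_assoc, mul_assoc, hBc s hs s' hs']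
  have key : q ⟨x, hx⟩ = q ⟨x', hx'⟩ := by
    refine eq_of_sylow_two P hcP ?_ ?_ ?_ ?_ ?_
    · rw [← map_mul, hq1, hCm]
      intro b hb
      calc x * x * b * (x * x)⁻¹ = x * (x * b * x⁻¹) * x⁻¹ := by group
        _ = b := hxx b hb
    · rw [← map_mul, hq1, hCm]
      intro b hb
      calc x' * x' * b * (x' * x')⁻¹ = x' * (x' * b * x'⁻¹) * x'⁻¹ := by group
        _ = b := hxx' b hb
    · rw [← map_mul, ← map_mul, ← inv_mul_eq_one, ← map_inv, ← map_mul, hq1, hCm]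
      intro b hb
      change (x * x')⁻¹ * (x' * x) * b * ((x * x')⁻¹ * (x' * x))⁻¹ = b
      calc (x * x')⁻¹ * (x' * x) * b * ((x * x')⁻¹ * (x' * x))⁻¹ =
          x'⁻¹ * x⁻¹ * (x' * (x * b * x⁻¹) * x'⁻¹) * x * x' := by group
        _ = b := by rw [← hxy b hb]; group
    · intro h
      rw [hq1, hCm] at h
      have h1 := h n hn
      rw [xn, mul_eq_left] at h1
      exact hs1 h1
    · intro h
      rw [hq1, hCm] at h
      have h1 := h n hn
      rw [xn', mul_eq_left] at h1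
      exact hs1' h1
  have h1 : x⁻¹ * x' ∈ C := by
    rw [← inv_mul_eq_one, ← map_inv, ← map_mul, hq1] at key
    exact key
  intro b hb
  have h2 := (hCm _).1 h1 b hb
  calc x * b * x⁻¹ = x * (x⁻¹ * x' * b * (x⁻¹ * x')⁻¹) * x⁻¹ := by rw [h2]
    _ = x' * b * x'⁻¹ := by group

theorem exists_align [Finite G] {S : Sylow 2 G} {V₁ L₁ V₂ L₂ : Subgroup G} {M₁ : FiveMod V₁ L₁}
    {M₂ : FiveMod V₂ L₂} (t₁ : Dih S M₁) (t₂ : Dih S M₂) {y : G}
    (hy : y * M₂.e nn * y⁻¹ = M₁.e nn)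
    (nc : ∀ P : Sylow 2 G, ¬ (P : Subgroup G) ≤ centralizer ({M₁.e nn} : Set G))
    (hB₁ : ∀ b ∈ zc ((S : Subgroup G) ⊓ centralizer ({M₁.e nn} : Set G)), ∀ g ∈ (S : Subgroup G),
      g * b * g⁻¹ = b ∨ g * b * g⁻¹ = b * M₁.e ss)
    (hB₂ : ∀ b ∈ zc ((S : Subgroup G) ⊓ centralizer ({M₂.e nn} : Set G)), ∀ g ∈ (S : Subgroup G),
      g * b * g⁻¹ = b ∨ g * b * g⁻¹ = b * M₂.e ss) :
    ∃ g h : G, y = h * g ∧ (∀ x ∈ (S : Subgroup G), g * x * g⁻¹ ∈ (S : Subgroup G)) ∧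
      h * M₁.e nn = M₁.e nn * h ∧ g * M₂.e nn * g⁻¹ = M₁.e nn ∧ g * M₂.e aa * g⁻¹ = M₁.e aa := by
  set N := centralizer ({M₁.e nn} : Set G) with hN
  set T := (S : Subgroup G) ⊓ N with hT
  set T₂ := (S : Subgroup G) ⊓ centralizer ({M₂.e nn} : Set G) with hT₂
  have hcard : Nat.card T = Nat.card T₂ := by
    have h1 := t₁.card_S
    have h2 := t₂.card_S
    rw [← hN, ← hT] at h1
    rw [← hT₂] at h2
    omega
  have hTp : IsPGroup 2 T := S.isPGroup'.to_le inf_le_left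
  have hT₂p : IsPGroup 2 T₂ := S.isPGroup'.to_le inf_le_left
  -- conjugate `T₂ ^ y` to `T` in `N`
  have h1 : cj y T₂ ≤ N := by
    rintro _ ⟨x, hx, rfl⟩
    refine mem_C.2 ?_
    have h2 := mem_C.1 hx.2
    change y * x * y⁻¹ * M₁.e nn = M₁.e nn * (y * x * y⁻¹)
    rw [← hy]
    calc y * x * y⁻¹ * (y * M₂.e nn * y⁻¹) = y * (x * M₂.e nn) * y⁻¹ := by group
      _ = y * (M₂.e nn * x) * y⁻¹ := by rw [h2]
      _ = y * M₂.e nn * y⁻¹ * (y * x * y⁻¹) := by group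
  obtain ⟨c, hcN, hc⟩ := TTn.exists_conj_le_of_odd_relIndex hTp (t₁.not_dvd nc)
    (isPGroup_cj y hT₂p) h1
  have hcn : c * M₁.e nn = M₁.e nn * c := mem_C.1 hcN
  obtain ⟨k, hk⟩ : ∃ k, k = c * y := ⟨_, rfl⟩
  have hkT : cj k T₂ = T := by
    refine eq_of_le_of_card_ge ?_ ?_
    · rintro _ ⟨x, hx, rfl⟩
      have h2 := hc (y * x * y⁻¹) ⟨x, hx, rfl⟩
      have h3 : c * (y * x * y⁻¹) * c⁻¹ = k * x * k⁻¹ := by rw [hk]; group
      rw [h3] at h2
      exact h2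
    · rw [hcard]
      exact (Nat.card_congr (T₂.equivMapOfInjective _ (MulAut.conj k).injective).toEquiv).le
  have hkn : k * M₂.e nn * k⁻¹ = M₁.e nn := by
    have h2 : k * M₂.e nn * k⁻¹ = c * (y * M₂.e nn * y⁻¹) * c⁻¹ := by rw [hk]; group
    rw [h2, hy, hcn, mul_inv_cancel_right]
  -- transport of `zc T₂`
  have hkz : ∀ {b : G}, b ∈ zc T₂ → k * b * k⁻¹ ∈ zc T := by
    intro b hb
    obtain ⟨h3, h4, h5⟩ := MinSimple.VModule.mem_zc.1 hb
    refine MinSimple.VModule.mem_zc.2 ⟨?_, ?_, ?_⟩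
    · rw [← hkT]; exact ⟨_, h3, rfl⟩
    · intro u hu
      rw [← hkT] at hu
      obtain ⟨u', hu', rfl⟩ := hu
      have h6 := h4 u' hu'
      change k * u' * k⁻¹ * (k * b * k⁻¹) = k * b * k⁻¹ * (k * u' * k⁻¹)
      calc k * u' * k⁻¹ * (k * b * k⁻¹) = k * (u' * b) * k⁻¹ := by group
        _ = k * (b * u') * k⁻¹ := by rw [h6]
        _ = k * b * k⁻¹ * (k * u' * k⁻¹) := by group
    · rw [pow_two] at h5 ⊢
      calc k * b * k⁻¹ * (k * b * k⁻¹) = k * (b * b) * k⁻¹ := by group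
        _ = 1 := by rw [h5]; group
  have hkz' : ∀ {b : G}, b ∈ zc T → k⁻¹ * b * k ∈ zc T₂ := by
    intro b hb
    obtain ⟨h3, h4, h5⟩ := MinSimple.VModule.mem_zc.1 hb
    have hT2k : ∀ u, u ∈ T₂ ↔ k * u * k⁻¹ ∈ T := by
      intro u
      rw [← hkT, mem_cj]
      have e : k⁻¹ * (k * u * k⁻¹) * k = u := by group
      rw [e]
    refine MinSimple.VModule.mem_zc.2 ⟨?_, ?_, ?_⟩
    · rw [hT2k]
      have e : k * (k⁻¹ * b * k) * k⁻¹ = b := by group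
      rwa [e]
    · intro u hu
      have h6 := h4 _ ((hT2k u).1 hu)
      calc u * (k⁻¹ * b * k) = k⁻¹ * (k * u * k⁻¹ * b) * k := by group
        _ = k⁻¹ * (b * (k * u * k⁻¹)) * k := by rw [h6]
        _ = k⁻¹ * b * k * u := by group
    · rw [pow_two] at h5 ⊢
      calc k⁻¹ * b * k * (k⁻¹ * b * k) = k⁻¹ * (b * b) * k := by group
        _ = 1 := by rw [h5]; group
  have hzc : ∀ b ∈ zc T, ∀ b' ∈ zc T, b * b' = b' * b := MinSimple.VModule.zc_comm T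
  have hz2 : ∀ b ∈ zc T, b * b = 1 := fun b hb => by
    rw [← pow_two]; exact MinSimple.VModule.zc_sq T b hb
  obtain ⟨x, hxS, hx⟩ := t₁.exists_swap
  obtain ⟨x₂, hx₂S, hx₂⟩ := t₂.exists_swap
  obtain ⟨x', hx'⟩ : ∃ x', x' = k * x₂ * k⁻¹ := ⟨_, rfl⟩
  obtain ⟨s', hs'⟩ : ∃ s', s' = k * M₂.e ss * k⁻¹ := ⟨_, rfl⟩
  have hconj : ∀ g b c : G, g * (b * c) * g⁻¹ = g * b * g⁻¹ * (g * c * g⁻¹) := fun g b c => by group
  have hnB : M₁.e nn ∈ zc T := t₁.n_mem_zT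
  have hsB : M₁.e ss ∈ zc T := t₁.s_mem_zT
  have hs'B : s' ∈ zc T := hs' ▸ hkz t₂.s_mem_zT
  have hs'1 : s' ≠ 1 := by
    rw [hs', Ne, mul_inv_eq_one, mul_eq_left]
    exact s_ne M₂
  have ha' : k * M₂.e aa * k⁻¹ = M₁.e nn * s' := by rw [← ns M₂, hconj, hkn, hs']
  have hSH : (S : Subgroup G) ≤ normalizer (T : Set G) := t₁.S_le_normalizer_T
  have hS₂H : cj k (S : Subgroup G) ≤ normalizer (T : Set G) := by
    rw [← hkT, ← cj_normalizer]
    exact cj_mono k t₂.S_le_normalizer_T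
  have hx'S : x' ∈ cj k (S : Subgroup G) := ⟨x₂, hx₂S, hx'.symm⟩
  have ax : ∀ b ∈ zc T, x * b * x⁻¹ = b ∨ x * b * x⁻¹ = b * M₁.e ss := fun b hb => hB₁ b hb x hxS
  have ax' : ∀ b ∈ zc T, x' * b * x'⁻¹ = b ∨ x' * b * x'⁻¹ = b * s' := by
    intro b hb
    have e1 : x' * b * x'⁻¹ = k * (x₂ * (k⁻¹ * b * k) * x₂⁻¹) * k⁻¹ := by rw [hx']; group
    have e2 : k * (k⁻¹ * b * k) * k⁻¹ = b := by group
    rcases hB₂ _ (hkz' hb) x₂ hx₂S with h2 | h2
    · left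
      rw [e1, h2, e2]
    · right
      rw [e1, h2, hconj, e2, hs']
  have xn : x * M₁.e nn * x⁻¹ = M₁.e nn * M₁.e ss := by rw [Dih.tt_n hx, ns]
  have xs : x * M₁.e ss * x⁻¹ = M₁.e ss := Dih.tt_s hx
  have xn' : x' * M₁.e nn * x'⁻¹ = M₁.e nn * s' := by
    have e1 : x' * M₁.e nn * x'⁻¹ = k * (x₂ * (k⁻¹ * M₁.e nn * k) * x₂⁻¹) * k⁻¹ := by rw [hx']; group
    have e2 : k⁻¹ * M₁.e nn * k = M₂.e nn := by rw [← hkn]; group
    rw [e1, e2, Dih.tt_n hx₂, ha']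
  have ys' : x' * s' * x'⁻¹ = s' := by
    have e1 : x' * s' * x'⁻¹ = k * (x₂ * M₂.e ss * x₂⁻¹) * k⁻¹ := by rw [hx', hs']; group
    rw [e1, Dih.tt_s hx₂, hs']
  -- elements of `S` and of `S ^ k`
  have hTb : ∀ g ∈ T, ∀ b ∈ zc T, g * b * g⁻¹ = b := by
    intro g hg b hb
    rw [(MinSimple.VModule.mem_zc.1 hb).2.1 g hg, mul_inv_cancel_right]
  have hmem : ∀ g ∈ (S : Subgroup G), g ∈ T ∨ g * x ∈ T := fun g hg => t₁.mem_or hxS hx hg
  have hmem' : ∀ g ∈ cj k (S : Subgroup G), g ∈ T ∨ g * x' ∈ T := by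
    rintro _ ⟨g, hg, rfl⟩
    change k * g * k⁻¹ ∈ T ∨ k * g * k⁻¹ * x' ∈ T
    rcases t₂.mem_or hx₂S hx₂ hg with h2 | h2
    · left
      rw [← hkT]
      exact ⟨g, h2, rfl⟩
    · right
      rw [← hkT]
      refine ⟨g * x₂, h2, ?_⟩
      change k * (g * x₂) * k⁻¹ = _
      rw [hx']
      group
  -- (i)
  have xs' : x * s' * x⁻¹ = s' := by
    rcases ax s' hs'B with h2 | h2
    · exact h2
    exfalso
    refine nc_conj nc x' S ?_
    rw [xn']
    have h3 : x * (M₁.e nn * s') * x⁻¹ = M₁.e nn * s' := by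
      rw [hconj, xn, h2, hzc s' hs'B _ hsB, mul_assoc, ← mul_assoc (M₁.e ss), M₁.e_sq, one_mul]
    intro g hg
    refine mem_C.2 ?_
    rcases hmem g hg with h4 | h4
    · exact (MinSimple.VModule.mem_zc.1 (mul_mem hnB hs'B)).2.1 g h4
    · have h5 := (MinSimple.VModule.mem_zc.1 (mul_mem hnB hs'B)).2.1 _ h4
      rw [mul_inv_eq_iff_eq_mul] at h3
      have h6 : g * (M₁.e nn * s') * x = M₁.e nn * s' * g * x := by
        calc g * (M₁.e nn * s') * x = g * (M₁.e nn * s' * x) := by group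
          _ = g * (x * (M₁.e nn * s')) := by rw [h3]
          _ = g * x * (M₁.e nn * s') := by group
          _ = M₁.e nn * s' * (g * x) := h5
          _ = M₁.e nn * s' * g * x := by group
      exact mul_right_cancel h6
  -- (ii)
  have ys : x' * M₁.e ss * x'⁻¹ = M₁.e ss := by
    rcases ax' _ hsB with h2 | h2
    · exact h2
    exfalso
    refine nc_conj nc x (k • S) ?_
    rw [xn]
    have h3 : x' * (M₁.e nn * M₁.e ss) * x'⁻¹ = M₁.e nn * M₁.e ss := by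
      rw [hconj, xn', h2, hzc _ hsB s' hs'B, mul_assoc, ← mul_assoc s', hz2 s' hs'B, one_mul]
    intro g hg
    have hg' : g ∈ cj k (S : Subgroup G) := hg
    refine mem_C.2 ?_
    rcases hmem' g hg' with h4 | h4
    · exact (MinSimple.VModule.mem_zc.1 (mul_mem hnB hsB)).2.1 g h4
    · have h5 := (MinSimple.VModule.mem_zc.1 (mul_mem hnB hsB)).2.1 _ h4
      rw [mul_inv_eq_iff_eq_mul] at h3
      have h6 : g * (M₁.e nn * M₁.e ss) * x' = M₁.e nn * M₁.e ss * g * x' := by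
        calc g * (M₁.e nn * M₁.e ss) * x' = g * (M₁.e nn * M₁.e ss * x') := by group
          _ = g * (x' * (M₁.e nn * M₁.e ss)) := by rw [h3]
          _ = g * x' * (M₁.e nn * M₁.e ss) := by group
          _ = M₁.e nn * M₁.e ss * (g * x') := h5
          _ = M₁.e nn * M₁.e ss * g * x' := by group
      exact mul_right_cancel h6
  -- (iii)
  have hsame := same_action (S := S) (H := normalizer (T : Set G)) (B := zc T) hSH
    (normalizer_le_normalizer_zc T) hzc hz2 (x := x) (x' := x') (n := M₁.e nn) (s := M₁.e ss) (s' := s')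
    (fun g hg => (hmem g hg).imp (fun h4 => hTb g h4) fun h4 => hTb _ h4) (hSH hxS) (hS₂H hx'S) hnB hsB hs'B
    (s_ne M₁) hs'1 ax ax' xn xn' xs xs' ys ys'
  -- (iv)
  have hss : s' = M₁.e ss := by
    have h2 := hsame _ hnB
    rw [xn, xn'] at h2
    exact (mul_left_cancel h2).symm
  have hks : k * M₂.e ss * k⁻¹ = M₁.e ss := by rw [← hs', hss]
  -- (v)
  obtain ⟨C, hC⟩ : ∃ C, C = normalizer (T : Set G) ⊓ centralizer (zc T : Set G) := ⟨_, rfl⟩
  have hSK : (S : Subgroup G) ≤ C ⊔ S := le_sup_right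
  have hTC : T ≤ C := by
    rw [hC]
    exact le_inf le_normalizer (le_centralizer_zc T)
  have hxx' : x⁻¹ * x' ∈ C := by
    rw [hC]
    refine ⟨(normalizer (T : Set G)).mul_mem ((normalizer (T : Set G)).inv_mem (hSH hxS)) (hS₂H hx'S),
      mem_centralizer_iff.2 fun b hb => ?_⟩
    have h2 := hsame b hb
    calc b * (x⁻¹ * x') = x⁻¹ * (x * b * x⁻¹) * x' := by group
      _ = x⁻¹ * (x' * b * x'⁻¹) * x' := by rw [h2]
      _ = x⁻¹ * x' * b := by group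
  have hx'K : x' ∈ C ⊔ (S : Subgroup G) := by
    have e : x' = x * (x⁻¹ * x') := by group
    rw [e]
    exact mul_mem (mem_sup_right hxS) (mem_sup_left hxx')
  have hS₂K : cj k (S : Subgroup G) ≤ C ⊔ S := by
    intro g hg
    rcases hmem' g hg with h4 | h4
    · exact mem_sup_left (hTC h4)
    · have h5 := mul_mem (mem_sup_left (hTC h4) : g * x' ∈ C ⊔ (S : Subgroup G)) (inv_mem hx'K)
      rwa [mul_inv_cancel_right] at h5
  obtain ⟨c', hc'K, hc'⟩ := exists_conj_le_sylow S _ _ hSK (isPGroup_cj k S.isPGroup') hS₂K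
  let Pr : Subgroup G :=
    { carrier := {g | (g * M₁.e nn * g⁻¹ = M₁.e nn ∧ g * M₁.e aa * g⁻¹ = M₁.e aa) ∨
        (g * M₁.e nn * g⁻¹ = M₁.e aa ∧ g * M₁.e aa * g⁻¹ = M₁.e nn)}
      one_mem' := Or.inl ⟨by group, by group⟩
      mul_mem' := by
        intro a b ha hb
        have e : ∀ z : G, a * b * z * (a * b)⁻¹ = a * (b * z * b⁻¹) * a⁻¹ := fun z => by group
        rcases hb with ⟨h2, h3⟩ | ⟨h2, h3⟩ <;> rcases ha with ⟨h4, h5⟩ | ⟨h4, h5⟩
        · exact Or.inl ⟨by rw [e, h2, h4], by rw [e, h3, h5]⟩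
        · exact Or.inr ⟨by rw [e, h2, h4], by rw [e, h3, h5]⟩
        · exact Or.inr ⟨by rw [e, h2, h5], by rw [e, h3, h4]⟩
        · exact Or.inl ⟨by rw [e, h2, h5], by rw [e, h3, h4]⟩
      inv_mem' := by
        intro a ha
        have e : ∀ z w : G, a * z * a⁻¹ = w → a⁻¹ * w * a⁻¹⁻¹ = z := fun z w h => by rw [← h]; group
        rcases ha with ⟨h4, h5⟩ | ⟨h4, h5⟩
        · exact Or.inl ⟨e _ _ h4, e _ _ h5⟩
        · exact Or.inr ⟨e _ _ h5, e _ _ h4⟩ }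
  have hPr : C ⊔ (S : Subgroup G) ≤ Pr := by
    have haB : M₁.e aa ∈ zc T := by rw [← ns M₁]; exact mul_mem hnB hsB
    have hCP : C ≤ Pr := by
      intro g hg
      rw [hC] at hg
      refine Or.inl ⟨?_, ?_⟩
      · rw [← mem_centralizer_iff.1 hg.2 _ hnB, mul_inv_cancel_right]
      · rw [← mem_centralizer_iff.1 hg.2 _ haB, mul_inv_cancel_right]
    have hxP : x ∈ Pr := Or.inr ⟨Dih.tt_n hx, Dih.tt_a hx⟩
    refine sup_le hCP fun g hg => ?_
    rcases hmem g hg with h4 | h4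
    · exact hCP (hTC h4)
    · have h5 := Pr.mul_mem (hCP (hTC h4)) (Pr.inv_mem hxP)
      rwa [mul_inv_cancel_right] at h5
  have hc's : ∀ {g : G}, g ∈ Pr → g * M₁.e ss * g⁻¹ = M₁.e ss := by
    intro g hg
    rw [← na M₁, hconj]
    rcases hg with ⟨h2, h3⟩ | ⟨h2, h3⟩
    · rw [h2, h3]
    · rw [h2, h3, M₁.e_comm]
  -- the element `r`
  obtain ⟨r, hrS, hrn, hrs⟩ : ∃ r : G, (∀ x ∈ cj k (S : Subgroup G), r * x * r⁻¹ ∈ (S : Subgroup G)) ∧
      r * M₁.e nn * r⁻¹ = M₁.e nn ∧ r * M₁.e ss * r⁻¹ = M₁.e ss := by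
    have h5 := hPr hc'K
    have h6 := hc's h5
    rcases h5 with ⟨h2, h3⟩ | ⟨h2, h3⟩
    · exact ⟨c', hc', h2, h6⟩
    · refine ⟨x * c', fun z hz => ?_, ?_, ?_⟩
      · have h7 := mul_mem (mul_mem hxS (hc' z hz)) (inv_mem hxS)
        have h8 : x * (c' * z * c'⁻¹) * x⁻¹ = x * c' * z * (x * c')⁻¹ := by group
        rwa [h8] at h7
      · calc x * c' * M₁.e nn * (x * c')⁻¹ = x * (c' * M₁.e nn * c'⁻¹) * x⁻¹ := by group
          _ = M₁.e nn := by rw [h2, Dih.tt_a hx]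
      · calc x * c' * M₁.e ss * (x * c')⁻¹ = x * (c' * M₁.e ss * c'⁻¹) * x⁻¹ := by group
          _ = M₁.e ss := by rw [h6, Dih.tt_s hx]
  have hrn' : r * M₁.e nn = M₁.e nn * r := by rwa [mul_inv_eq_iff_eq_mul] at hrn
  refine ⟨r * k, y * (r * k)⁻¹, by group, ?_, ?_, ?_, ?_⟩
  · intro x hx
    have h2 := hrS (k * x * k⁻¹) ⟨x, hx, rfl⟩
    have h3 : r * (k * x * k⁻¹) * r⁻¹ = r * k * x * (r * k)⁻¹ := by group
    rwa [h3] at h2
  · have h2 : y * (r * k)⁻¹ = c⁻¹ * r⁻¹ := by rw [hk]; group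
    rw [h2]
    have h3 : (r * c) * M₁.e nn = M₁.e nn * (r * c) := by
      rw [mul_assoc, hcn, ← mul_assoc, hrn', mul_assoc]
    have h4 : c⁻¹ * r⁻¹ = (r * c)⁻¹ := by group
    rw [h4, inv_mul_eq_iff_eq_mul, ← mul_assoc, h3, mul_inv_cancel_right]
  · calc r * k * M₂.e nn * (r * k)⁻¹ = r * (k * M₂.e nn * k⁻¹) * r⁻¹ := by group
      _ = M₁.e nn := by rw [hkn, hrn]
  · rw [← ns M₂, ← ns M₁]
    calc r * k * (M₂.e nn * M₂.e ss) * (r * k)⁻¹ =
          (r * (k * M₂.e nn * k⁻¹) * r⁻¹) * (r * (k * M₂.e ss * k⁻¹) * r⁻¹) := by group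
      _ = M₁.e nn * M₁.e ss := by rw [hkn, hks, hrn, hrs]

end Cfsg.Agent.Omega.TTn.Z

end

section


/-!
# #15257: a labelled T-T pair with `n` not 2-central, `V_P = V₀ × A`, is a `Z.Base`

* `two_of_labZ` : the position `NoTk.Two` for `A`, `A₂ ^ y`;
* `exists_one_side`, `exists_base` : the normal form.
-/

set_option autoImplicit false
set_option linter.unusedSectionVars false

namespace Cfsg.Agent.Omega.TTn.Z

open Subgroup Cfsg Cfsg.Agent.ZN Cfsg.Agent.ZN.ChoiceBase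
open Cfsg.Agent.Omega.S5.Mod Cfsg.Agent.Omega.S5.TT
open Cfsg.Agent.Omega.S5.TT.Pos (na ns as sn n_ne s_ne a_ne n_ne_a n_ne_s a_ne_s e_sq' mem_C)
open Cfsg.Agent.Omega.S5.Def Cfsg.Agent.Omega.S5.Syl Cfsg.Agent.Omega.S5.Pair Cfsg.Agent.Omega.S5.Main
open Cfsg.Agent.Omega.F4Leaf.Def Cfsg.Agent.Omega.MinPar
open Cfsg.Agent.Omega.FrameFF (cv)
open scoped commutatorElement

universe u

variable {G : Type u} [Group G]

/-! ### The position of `A` and `A₂ ^ y` -/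

theorem _root_.Cfsg.Agent.Omega.F4Leaf.Def.Split.A_le_S [Finite G] {S : Sylow 2 G} {P A : Subgroup G} {m : ℕ}
    {ε : (Fin (2 ^ m + 1) → ZMod 2) → G} (h : Split (S : Subgroup G) P m A ε) (hP : IsParS (S : Subgroup G) P) :
    A ≤ (S : Subgroup G) :=
  NSix.NoTk.le_sylow S h.even.isPGroup (hP.le.trans h.even.le_normalizer)

theorem _root_.Cfsg.Agent.Omega.F4Leaf.Def.Split.A_le_P [Finite G] {S : Sylow 2 G} {P A : Subgroup G} {m : ℕ}
    {ε : (Fin (2 ^ m + 1) → ZMod 2) → G} (h : Split (S : Subgroup G) P m A ε) (hP : IsParS (S : Subgroup G) P) :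
    A ≤ P := (h.A_le_S hP).trans hP.le

/-- an offender `v a`, `v` centralising `V`: the transpositions are induced by the `a`'s -/
theorem side_of {n : ℕ} {ε : (Fin n → ZMod 2) → G} {W W' D V L : Subgroup G} (h : EvenSet n V L ε)
    (hW : W' ≤ W) (hD : D ≤ centralizer (V : Set G)) (hWD : ∀ w ∈ W, ∃ d ∈ D, ∃ a ∈ W', w = d * a)
    (hs : Side W ε) : Side W' ε := by
  intro a ha
  obtain ⟨τ, h1, h2⟩ := hs a (hW ha)
  refine ⟨τ, h1, fun i hi => ⟨(h2 i hi).1, ?_⟩⟩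
  obtain ⟨b, hb, h3⟩ := (h2 i hi).2
  obtain ⟨d, hd, a', ha', rfl⟩ := hWD b hb
  refine ⟨a', ha', ?_⟩
  have h4 : Acts ε d⁻¹ 1 := h.acts_one_iff.2 (inv_mem (hD hd))
  have h5 := h4.mul h3
  rwa [inv_mul_cancel_left, one_mul] at h5

section labZ

variable [Finite G] {S : Sylow 2 G} {P₁ P₂ : Subgroup G} {y : G} {m m' : ℕ} {A A₂ : Subgroup G}
  {ε : (Fin (2 ^ m + 1) → ZMod 2) → G} {ε₂ : (Fin (2 ^ m' + 1) → ZMod 2) → G}

/-- `V₀' ^ y` centralises `V`, `V₀` centralises `V' ` -/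
theorem two_of_labZ (hG : IsCharacteristicTwoType G) (hl : LabTwoZ S P₁ P₂ y m m' A ε A₂ ε₂) :
    NSix.NoTk.Two A (cj y A₂) P₁ (cj y P₂) (S : Subgroup G) ((y • S : Sylow 2 G) : Subgroup G) ε
      fun x => y * ε₂ x * y⁻¹ := by
  have hA : A ≤ zl (S : Subgroup G) P₁ := hl.split.A_le
  have hA₂ : A₂ ≤ zl (S : Subgroup G) P₂ := hl.split₂.A_le
  have hcA : ∀ v ∈ cv (S : Subgroup G) P₁, ∀ s ∈ (S : Subgroup G), s * v = v * s := fun v hv s hs =>
    hl.split.comm (hl.pair.star₁.le hs) hv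
  have hcA₂ : ∀ v ∈ cv (S : Subgroup G) P₂, ∀ s ∈ (S : Subgroup G), s * v = v * s := fun v hv s hs =>
    hl.split₂.comm (hl.pair.star₂.le hs) hv
  have hin : A ≤ cj y (S : Subgroup G) := hA.trans hl.ge
  have hin' : cj y A₂ ≤ (S : Subgroup G) := (cj_mono y hA₂).trans hl.le
  refine
    { even := hl.split.even
      even' := hl.split₂.even.conj y
      le := hl.pair.star₁.le
      le' := by rw [NSix.NoTk.coe_smul]; exact cj_mono y hl.pair.star₂.le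
      fix := hl.split.fix0
      fix' := by rw [NSix.NoTk.coe_smul]; exact NSix.NoTk.fix0_conj hl.split₂.fix0 y
      in' := hin'
      in_ := by rw [NSix.NoTk.coe_smul]; exact hin
      side := ?_
      side' := ?_ }
  · refine side_of hl.split.even (cj_mono y hA₂) (D := cj y (cv (S : Subgroup G) P₂)) ?_ ?_ hl.side
    · rintro _ ⟨v, hv, rfl⟩
      refine mem_centralizer_iff.2 fun a ha => ?_
      have h1 : y⁻¹ * a * y ∈ (S : Subgroup G) := by rw [← mem_cj]; exact hin ha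
      have h2 := hcA₂ v hv _ h1
      change a * (y * v * y⁻¹) = y * v * y⁻¹ * a
      calc a * (y * v * y⁻¹) = y * (y⁻¹ * a * y * v) * y⁻¹ := by group
        _ = y * (v * (y⁻¹ * a * y)) * y⁻¹ := by rw [h2]
        _ = y * v * y⁻¹ * a := by group
    · rintro _ ⟨w, hw, rfl⟩
      obtain ⟨v, hv, a, ha, rfl⟩ := hl.split₂.mul_eq hG hl.pair.star₂ hw
      exact ⟨_, ⟨v, hv, rfl⟩, _, ⟨a, ha, rfl⟩, map_mul _ _ _⟩
  · refine side_of (hl.split₂.even.conj y) hA (D := cv (S : Subgroup G) P₁) ?_ ?_ hl.side₂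
    · intro v hv
      refine mem_centralizer_iff.2 fun a ha => hcA v hv a (hin' ha)
    · intro w hw
      exact hl.split.mul_eq hG hl.pair.star₁ hw

/-- `[V, V'] = [A, A₂ ^ y]` -/
theorem comm_labZ (hG : IsCharacteristicTwoType G) (hl : LabTwoZ S P₁ P₂ y m m' A ε A₂ ε₂) :
    ⁅zl (S : Subgroup G) P₁, cj y (zl (S : Subgroup G) P₂)⁆ = ⁅A, cj y A₂⁆ := by
  have hA : A ≤ zl (S : Subgroup G) P₁ := hl.split.A_le
  have hA₂ : A₂ ≤ zl (S : Subgroup G) P₂ := hl.split₂.A_le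
  have hcA : ∀ v ∈ cv (S : Subgroup G) P₁, ∀ s ∈ (S : Subgroup G), s * v = v * s := fun v hv s hs =>
    hl.split.comm (hl.pair.star₁.le hs) hv
  have hcA₂ : ∀ v ∈ cv (S : Subgroup G) P₂, ∀ s ∈ (S : Subgroup G), s * v = v * s := fun v hv s hs =>
    hl.split₂.comm (hl.pair.star₂.le hs) hv
  refine le_antisymm ?_ (commutator_mono hA (cj_mono y hA₂))
  rw [commutator_le]
  rintro v hv _ ⟨w, hw, rfl⟩
  obtain ⟨d, hd, a, ha, rfl⟩ := hl.split.mul_eq hG hl.pair.star₁ hv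
  obtain ⟨d', hd', a', ha', rfl⟩ := hl.split₂.mul_eq hG hl.pair.star₂ hw
  change ⁅d * a, y * (d' * a') * y⁻¹⁆ ∈ _
  have hwS : y * (d' * a') * y⁻¹ ∈ (S : Subgroup G) := hl.le ⟨_, hw, rfl⟩
  have h1 : y * (d' * a') * y⁻¹ * d = d * (y * (d' * a') * y⁻¹) := hcA d hd _ hwS
  have haS : y⁻¹ * a * y ∈ (S : Subgroup G) := by rw [← mem_cj]; exact hl.ge (hA ha)
  have h2 : y⁻¹ * a * y * d' = d' * (y⁻¹ * a * y) := hcA₂ d' hd' _ haS
  have h3 : a * (y * d' * y⁻¹) = y * d' * y⁻¹ * a := by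
    calc a * (y * d' * y⁻¹) = y * (y⁻¹ * a * y * d') * y⁻¹ := by group
      _ = y * (d' * (y⁻¹ * a * y)) * y⁻¹ := by rw [h2]
      _ = y * d' * y⁻¹ * a := by group
  have h4 : d * a = a * d := (hl.split.comm (hl.split.A_le_P hl.pair.star₁ ha) hd).symm
  have h5 : d' * a' = a' * d' := (hl.split₂.comm (hl.split₂.A_le_P hl.pair.star₂ ha') hd').symm
  have e : ⁅d * a, y * (d' * a') * y⁻¹⁆ = ⁅a, y * a' * y⁻¹⁆ := by
    rw [commutatorElement_def, commutatorElement_def]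
    calc d * a * (y * (d' * a') * y⁻¹) * (d * a)⁻¹ * (y * (d' * a') * y⁻¹)⁻¹ =
        a * (d * (y * (d' * a') * y⁻¹)) * d⁻¹ * a⁻¹ * (y * (d' * a') * y⁻¹)⁻¹ := by rw [h4]; group
      _ = a * (y * (d' * a') * y⁻¹ * d) * d⁻¹ * a⁻¹ * (y * (d' * a') * y⁻¹)⁻¹ := by rw [h1]
      _ = a * (y * (d' * a') * y⁻¹) * a⁻¹ * (y * (d' * a') * y⁻¹)⁻¹ := by group
      _ = a * (y * (a' * d') * y⁻¹) * a⁻¹ * (y * (a' * d') * y⁻¹)⁻¹ := by rw [h5]
      _ = a * (y * a' * y⁻¹) * (y * d' * y⁻¹ * a * (y * d' * y⁻¹)⁻¹ )⁻¹ * (y * a' * y⁻¹)⁻¹ := by group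
      _ = a * (y * a' * y⁻¹) * (a * (y * d' * y⁻¹) * (y * d' * y⁻¹)⁻¹ )⁻¹ * (y * a' * y⁻¹)⁻¹ := by rw [h3]
      _ = a * (y * a' * y⁻¹) * a⁻¹ * (y * a' * y⁻¹)⁻¹ := by group
  rw [e]
  exact commutator_mem_commutator ha ⟨a', ha', rfl⟩

end labZ

/-! ### One side of a T-T pair -/

theorem exists_one_side [Finite G] {S : Sylow 2 G} {V L W : Subgroup G} (M : FiveMod V L)
    (hS : (S : Subgroup G) ≤ L) (hWS : W ≤ (S : Subgroup G)) {i j : Fin 5} (hij : i ≠ j)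
    (hex : ∃ b ∈ W, M.Ind b (Equiv.swap i j)) (hall : ∀ b ∈ W, M.Ind b 1 ∨ M.Ind b (Equiv.swap i j)) :
    ∃ M' : FiveMod V L, Dih S M' ∧ (∀ w ∈ W, ∃ p, Tp p ∧ M'.Ind w p) ∧
      ∃ w ∈ W, M'.Ind w (Equiv.swap 0 1) := by
  obtain ⟨σ, hd, hd'⟩ := Cfsg.Agent.Omega.S5.Types.exists_relabel M S hS
  have t : Dih S (M.relabel σ) := ⟨hS, hd, hd'⟩
  obtain ⟨w₀, hw₀, hi₀⟩ := hex
  have e0 : σ⁻¹ * Equiv.swap i j * σ = Equiv.swap (σ⁻¹ i) (σ⁻¹ j) := by
    rw [Equiv.swap_apply_apply, inv_inv]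
  have hij' : σ⁻¹ i ≠ σ⁻¹ j := fun h => hij (σ⁻¹.injective h)
  obtain ⟨i', hi'⟩ : ∃ i', i' = σ⁻¹ i := ⟨_, rfl⟩
  obtain ⟨j', hj'⟩ : ∃ j', j' = σ⁻¹ j := ⟨_, rfl⟩
  rw [← hi', ← hj'] at e0 hij'
  have hp₀ : (M.relabel σ).Ind w₀ (Equiv.swap i' j') := by
    have := FiveMod.relabel_ind σ hi₀
    rwa [e0] at this
  have hp₀d := hd w₀ (hWS hw₀) _ hp₀
  have hW : ∀ w ∈ W, (M.relabel σ).Ind w 1 ∨ (M.relabel σ).Ind w (Equiv.swap i' j') := by
    intro w hw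
    rcases hall w hw with h1 | h1
    · left
      have := FiveMod.relabel_ind σ h1
      rwa [show σ⁻¹ * 1 * σ = (1 : Equiv.Perm (Fin 5)) by group] at this
    · right
      have := FiveMod.relabel_ind σ h1
      rwa [e0] at this
  rcases TTn.swap_d8 i' j' hij' hp₀d with h1 | h1
  · rw [h1] at hW hp₀
    refine ⟨M.relabel σ, t, fun w hw => ?_, w₀, hw₀, hp₀⟩
    rcases hW w hw with h2 | h2
    · exact ⟨1, Or.inl rfl, h2⟩
    · exact ⟨_, Or.inr rfl, h2⟩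
  · rw [h1] at hW hp₀
    have e : tt⁻¹ * Equiv.swap 2 3 * tt = (Equiv.swap 0 1 : Equiv.Perm (Fin 5)) := by decide
    refine ⟨(M.relabel σ).relabel tt, t.relabel, fun w hw => ?_, w₀, hw₀, ?_⟩
    · rcases hW w hw with h2 | h2
      · refine ⟨1, Or.inl rfl, ?_⟩
        have := FiveMod.relabel_ind tt h2
        rwa [show tt⁻¹ * 1 * tt = (1 : Equiv.Perm (Fin 5)) by group] at this
      · refine ⟨_, Or.inr rfl, ?_⟩
        have := FiveMod.relabel_ind tt h2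
        rwa [e] at this
    · have := FiveMod.relabel_ind tt hp₀
      rwa [e] at this

/-- **The normal form.** -/
theorem exists_base [Finite G] (hG : IsCharacteristicTwoType G) {S : Sylow 2 G} {P₁ P₂ : Subgroup G} {y : G}
    {A A₂ : Subgroup G} {ε ε₂ : (Fin (2 ^ 2 + 1) → ZMod 2) → G} (hl : LabTwoZ S P₁ P₂ y 2 2 A ε A₂ ε₂)
    (hB₁ : ∀ M : FiveMod A P₁, Dih S M → ∀ b ∈ zc ((S : Subgroup G) ⊓ centralizer ({M.e nn} : Set G)),
      ∀ g ∈ (S : Subgroup G), g * b * g⁻¹ = b ∨ g * b * g⁻¹ = b * M.e ss)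
    (hB₂ : ∀ M : FiveMod A₂ P₂, Dih S M → ∀ b ∈ zc ((S : Subgroup G) ⊓ centralizer ({M.e nn} : Set G)),
      ∀ g ∈ (S : Subgroup G), g * b * g⁻¹ = b ∨ g * b * g⁻¹ = b * M.e ss)
    (hC : ¬ Cen (zl (S : Subgroup G) P₁) (cj y (zl (S : Subgroup G) P₂))) :
    ∃ (g k : G) (M₁ : FiveMod A P₁) (M₂ : FiveMod (cj g A₂) (cj g P₂)),
      (∀ x ∈ (S : Subgroup G), g * x * g⁻¹ ∈ (S : Subgroup G)) ∧ Base S M₁ M₂ k := by
  have h2 := two_of_labZ hG hl
  have hcomm := comm_labZ hG hl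
  have hS : (S : Subgroup G) ≤ P₁ := hl.pair.star₁.le
  have hS₂ : (S : Subgroup G) ≤ P₂ := hl.pair.star₂.le
  have hne : ⁅A, cj y A₂⁆ ≠ ⊥ := by
    rw [← hcomm]
    exact hl.pair.ne
  have hge : A ≤ cj y (S : Subgroup G) := hl.split.A_le.trans hl.ge
  -- the first side
  obtain ⟨i, j, hij, hex, hall⟩ := NSix.NoTk.acts_one_or hG le_rfl le_rfl h2
    (fun h0 => hne (by rw [commutator_comm]; exact commutator_eq_bot_iff_le_centralizer.2 h0))
  obtain ⟨M₁, s₁, a₁, e₁⟩ := exists_one_side (S := S) (S5.OfEven.ofEven hl.split.even) hS h2.in' hij hex hall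
  -- the second side
  obtain ⟨i', j', hij', ⟨b', hb', hb''⟩, hall'⟩ := NSix.NoTk.acts_one_or hG le_rfl le_rfl h2.symm
    (fun h0 => hne (commutator_eq_bot_iff_le_centralizer.2 h0))
  have hconj : ∀ (b : G) (p : Equiv.Perm (Fin 5)), Acts (fun x => y * ε₂ x * y⁻¹) b p →
      (S5.OfEven.ofEven hl.split₂.even).Ind (y⁻¹ * b * y) p := by
    intro b p hp
    rw [S5.OfEven.ofEven_ind]
    rw [← acts_conj_label_iff y]
    have e : y * (y⁻¹ * b * y) * y⁻¹ = b := by group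
    rw [e]
    exact hp
  have hAy : cj y⁻¹ A ≤ (S : Subgroup G) := by rw [cj_le_iff, inv_inv]; exact hge
  obtain ⟨M₂, s₂, a₂, e₂⟩ := exists_one_side (S := S) (W := cj y⁻¹ A) (S5.OfEven.ofEven hl.split₂.even) hS₂ hAy
    hij' ⟨y⁻¹ * b' * y, ⟨b', hb', by simp⟩, hconj _ _ hb''⟩ (by
      rintro _ ⟨b, hb, rfl⟩
      change (S5.OfEven.ofEven hl.split₂.even).Ind (y⁻¹ * b * y⁻¹⁻¹) 1 ∨
        (S5.OfEven.ofEven hl.split₂.even).Ind (y⁻¹ * b * y⁻¹⁻¹) _
      rw [inv_inv]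
      exact (hall' b hb).imp (hconj _ _) (hconj _ _))
  -- `y n₂ y⁻¹ = n`
  have a₂' : ∀ v ∈ A, ∃ p, Tp p ∧ (M₂.cj y).Ind v p := by
    intro v hv
    obtain ⟨p, hp, hi⟩ := a₂ (y⁻¹ * v * y) (by rw [mem_cj, inv_inv]; convert hv using 1; group)
    refine ⟨p, hp, ?_⟩
    have h1 := M₂.cj_ind (g := y) hi
    rwa [show y * (y⁻¹ * v * y) * y⁻¹ = v by group] at h1
  have hn : y * M₂.e nn * y⁻¹ = M₁.e nn := TTn.comm_eq (M := M₁) (M' := M₂.cj y) e₁ a₂'
  have nc : ∀ P : Sylow 2 G, ¬ (P : Subgroup G) ≤ centralizer ({M₁.e nn} : Set G) := by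
    intro P hP
    refine hC ⟨P, ?_⟩
    rw [hcomm]
    exact TTn.comm_le a₁ hP
  obtain ⟨g, k, hy, hgS, hk, hgn, hga⟩ := exists_align s₁ s₂ hn nc (hB₁ M₁ s₁) (hB₂ M₂ s₂)
  refine ⟨g, k, M₁, M₂.cj g, hgS, hG, s₁, s₂.cj hgS, hgn.symm, hga.symm, hk, ?_, ?_, ?_, nc⟩
  · rw [cj_cj, ← hy]
    exact a₁
  · intro v hv
    obtain ⟨p, hp, hi⟩ := a₂' v hv
    refine ⟨p, hp, fun x => ?_⟩
    have h1 := hi x
    rw [M₂.cj_e, M₂.cj_e] at h1
    change v * (k * (g * M₂.e x * g⁻¹) * k⁻¹) * v⁻¹ = k * (g * M₂.e (x ∘ p.symm) * g⁻¹) * k⁻¹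
    calc v * (k * (g * M₂.e x * g⁻¹) * k⁻¹) * v⁻¹ = v * (y * M₂.e x * y⁻¹) * v⁻¹ := by rw [hy]; group
      _ = y * M₂.e (x ∘ p.symm) * y⁻¹ := h1
      _ = k * (g * M₂.e (x ∘ p.symm) * g⁻¹) * k⁻¹ := by rw [hy]; group
  · rw [cj_cj, ← hy]
    exact e₁

end Cfsg.Agent.Omega.TTn.Z

end

end

-- merged: Cfsg.Agent.Mrg.Omega.TTn.BOne
section

section


/-!
# THEOREM B1 (helper429, bb OMEGA #13318, #13720): T-T, `n` not 2-central, `V ≤ O₂(C(s))`, `U_n ≤ O₂(C(a))`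
is impossible
-/

set_option autoImplicit false
set_option linter.unusedSectionVars false

namespace Cfsg.Agent.Omega.TTn.BOne

open Subgroup Cfsg Cfsg.Agent.ZN Cfsg.Agent.ZN.ChoiceBase
open Cfsg.Agent.Omega.S5.Mod Cfsg.Agent.Omega.S5.TT
open Cfsg.Agent.Omega.S5.TT.Pos (na ns as sn n_ne s_ne a_ne n_ne_a n_ne_s a_ne_s e_sq' mem_C)
open Cfsg.Agent.MinSimple.VModule (o2_isPGroup le_o2 o2_le le_normalizer_o2 o2_le_of_sylow
  normalizer_le_normalizer_zc)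
open Cfsg.Agent.Omega.S5.ChiConst (cls)
open Cfsg.Agent.Omega.TTn.Calc (conj_eq_iff comm_conj_iff)

universe u

variable {G : Type u} [Group G]

/-! ### The family `W ^ g` -/

/-- the family `W ^ g` over the class of `n`, for `W` normalised by `C(n)` -/
def Fam (n : G) (W : Subgroup G) (c : G) : Subgroup G where
  carrier := {y | ∀ g, g * n * g⁻¹ = c → g⁻¹ * y * g ∈ W}
  one_mem' := fun g _ => by
    have e : g⁻¹ * 1 * g = 1 := by group
    rw [e]; exact W.one_mem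
  mul_mem' := by
    intro x y hx hy g hg
    have := mul_mem (hx g hg) (hy g hg)
    have e : g⁻¹ * x * g * (g⁻¹ * y * g) = g⁻¹ * (x * y) * g := by group
    rwa [e] at this
  inv_mem' := by
    intro x hx g hg
    have := inv_mem (hx g hg)
    have e : (g⁻¹ * x * g)⁻¹ = g⁻¹ * x⁻¹ * g := by group
    rwa [e] at this

theorem mem_Fam {n : G} {W : Subgroup G} (hW : ∀ g, g * n = n * g → ∀ w ∈ W, g * w * g⁻¹ ∈ W) {g y : G} :
    y ∈ Fam n W (g * n * g⁻¹) ↔ g⁻¹ * y * g ∈ W := by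
  constructor
  · intro hy
    exact hy g rfl
  · intro hy k hk
    have h1 : (k⁻¹ * g) * n = n * (k⁻¹ * g) := by
      calc k⁻¹ * g * n = k⁻¹ * (g * n * g⁻¹) * g := by group
        _ = k⁻¹ * (k * n * k⁻¹) * g := by rw [hk]
        _ = n * (k⁻¹ * g) := by group
    have := hW _ h1 _ hy
    have e : k⁻¹ * g * (g⁻¹ * y * g) * (k⁻¹ * g)⁻¹ = k⁻¹ * y * k := by group
    rwa [e] at this

theorem Fam_conj {n c y : G} {W : Subgroup G} (k : G) (hy : y ∈ Fam n W c) :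
    k * y * k⁻¹ ∈ Fam n W (k * c * k⁻¹) := by
  intro g hg
  have h1 : (k⁻¹ * g) * n * (k⁻¹ * g)⁻¹ = c := by
    calc _ = k⁻¹ * (g * n * g⁻¹) * k := by group
      _ = k⁻¹ * (k * c * k⁻¹) * k := by rw [hg]
      _ = c := by group
  have := hy _ h1
  have e : (k⁻¹ * g)⁻¹ * y * (k⁻¹ * g) = g⁻¹ * (k * y * k⁻¹) * g := by group
  rwa [e] at this

theorem Fam_conj_iff {n c y k : G} {W : Subgroup G} :
    k⁻¹ * y * k ∈ Fam n W c ↔ y ∈ Fam n W (k * c * k⁻¹) := by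
  constructor
  · intro hy
    have := Fam_conj k hy
    have e : k * (k⁻¹ * y * k) * k⁻¹ = y := by group
    rwa [e] at this
  · intro hy
    have := Fam_conj k⁻¹ hy
    have e : k⁻¹ * (k * c * k⁻¹) * k⁻¹⁻¹ = c := by group
    rwa [e, inv_inv] at this

/-! ### `E = ⟨V ^ C(s)⟩` is elementary abelian -/

theorem v4_move : ∀ p : Equiv.Perm (Fin 5), V4p p → p ≠ 1 → ∃ y : Vec, y ∘ p.symm + y = ss + 1 := by
  intro p hp h1
  rcases hp with rfl | rfl | rfl | rfl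
  · exact absurd rfl h1
  · exact ⟨![1, 0, 1, 0, 0], by decide⟩
  · exact ⟨![1, 1, 0, 0, 0], by decide⟩
  · exact ⟨![1, 1, 0, 0, 0], by decide⟩

theorem v4_odd : ∀ p : Equiv.Perm (Fin 5), V4p p → ∀ x : Vec, x 0 + x 1 + x 2 + x 3 = 1 →
    x + x ∘ p.symm ≠ ss ∧ x + x ∘ p.symm ≠ ss + 1 := by
  intro p hp
  rcases hp with rfl | rfl | rfl | rfl <;> decide +kernel

/-- `{0}` -/
def oo : Vec := ![1, 0, 0, 0, 0]

theorem odd_add : ∀ x : Vec, x 0 + x 1 + x 2 + x 3 ≠ 1 →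
    (x + oo) 0 + (x + oo) 1 + (x + oo) 2 + (x + oo) 3 = 1 := by
  decide +kernel

section E

variable [Finite G] {S : Sylow 2 G} {V L : Subgroup G} {M : FiveMod V L} (t : Dih S M)
include t

theorem Qs_le_S : Q (M.e ss) ≤ (S : Subgroup G) :=
  o2_le_of_sylow S.isPGroup' (MinSimple.Basic.not_dvd_relIndex S fun _ hg => mem_C.2 (t.S_comm hg))

theorem Qs_ind {q : G} (hq : q ∈ Q (M.e ss)) : ∃ p, V4p p ∧ M.Ind q p :=
  Pos.Q_ind_aux t.S_le t.d8 (Qs_le_S t) hq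

theorem Qs_conj {m q : G} (hm : m * M.e ss = M.e ss * m) (hq : q ∈ Q (M.e ss)) :
    m * q * m⁻¹ ∈ Q (M.e ss) :=
  (mem_normalizer_iff.1 (le_normalizer_o2 _ (mem_C.2 hm)) _).1 hq

theorem Qs_conj' {m q : G} (hm : m * M.e ss = M.e ss * m) (hq : q ∈ Q (M.e ss)) :
    m⁻¹ * q * m ∈ Q (M.e ss) := by
  have h1 : m⁻¹ * M.e ss = M.e ss * m⁻¹ := by
    rw [inv_mul_eq_iff_eq_mul, ← mul_assoc, hm, mul_inv_cancel_right]
  have h2 := Qs_conj t h1 hq
  rwa [inv_inv] at h2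

theorem comm_odd (hV : V ≤ Q (M.e ss)) {m : G} (hm : m * M.e ss = M.e ss * m) {x : Vec}
    (hx : x 0 + x 1 + x 2 + x 3 = 1) {w : G} (hw : w ∈ cj m V) : M.e x * w = w * M.e x := by
  obtain ⟨p, hp, hi⟩ := Qs_ind t (Qs_conj' t hm (hV (M.e_mem x)))
  have hi' := M.cj_ind (g := m) hi
  have e : m * (m⁻¹ * M.e x * m) * m⁻¹ = M.e x := by group
  rw [e] at hi'
  by_cases h1 : p = 1
  · rw [h1] at hi'
    exact (mem_centralizer_iff.1 (FiveMod.ind_one_iff.1 hi') w hw).symm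
  · exfalso
    obtain ⟨y, hy⟩ := v4_move p hp h1
    have h2 := hi'.comm_eq y
    have h3 : (M.cj m).e (ss + 1) = M.e ss := by
      rw [M.cj_e, M.e_add, M.e_one, mul_one, hm, mul_inv_cancel_right]
    rw [hy, h3] at h2
    have h4 : (M.cj m).e y ∈ Q (M.e ss) := by
      rw [M.cj_e]
      exact Qs_conj t hm (hV (M.e_mem y))
    obtain ⟨q, hq, hj⟩ := Qs_ind t h4
    have h5 : M.e x * (M.cj m).e y * (M.e x)⁻¹ * ((M.cj m).e y)⁻¹ = M.e (x + x ∘ q.symm) := by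
      rw [M.e_add, ← hj x]
      have e2 : (M.e x)⁻¹ = M.e x := M.e_inv x
      rw [e2]
      group
    rw [h5] at h2
    rcases M.e_eq_iff.1 h2 with h6 | h6
    · exact (v4_odd q hq x hx).1 h6
    · exact (v4_odd q hq x hx).2 h6

theorem comm_conj (hV : V ≤ Q (M.e ss)) {m : G} (hm : m * M.e ss = M.e ss * m) {v w : G} (hv : v ∈ V)
    (hw : w ∈ cj m V) : v * w = w * v := by
  obtain ⟨x, rfl⟩ := (M.mem_iff v).1 hv
  by_cases hx : x 0 + x 1 + x 2 + x 3 = 1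
  · exact comm_odd t hV hm hx hw
  · have h1 := comm_odd t hV hm (odd_add x hx) hw
    have h2 := comm_odd t hV hm (x := oo) (by decide) hw
    have h3 : M.e x = M.e (x + oo) * M.e oo := by
      rw [← M.e_add, add_add_cancel']
    rw [h3, mul_assoc, h2, ← mul_assoc, h1, mul_assoc]

theorem E_comm (hV : V ≤ Q (M.e ss)) {u v : G} (hu : u ∈ WW V V (M.e ss)) (hv : v ∈ WW V V (M.e ss)) :
    u * v = v * u := by
  have key : ∀ g, g * M.e ss = M.e ss * g → ∀ k, k * M.e ss = M.e ss * k → ∀ v ∈ V, ∀ w ∈ V,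
      g * v * g⁻¹ * (k * w * k⁻¹) = k * w * k⁻¹ * (g * v * g⁻¹) := by
    intro g hg k hk v hv w hw
    have hg' : g⁻¹ * M.e ss = M.e ss * g⁻¹ := by
      rw [inv_mul_eq_iff_eq_mul, ← mul_assoc, hg, mul_inv_cancel_right]
    have h1 : g⁻¹ * k * M.e ss = M.e ss * (g⁻¹ * k) := by
      rw [mul_assoc, hk, ← mul_assoc, hg', mul_assoc]
    have h2 := comm_conj t hV h1 hv (w := (g⁻¹ * k) * w * (g⁻¹ * k)⁻¹) ⟨w, hw, rfl⟩
    calc g * v * g⁻¹ * (k * w * k⁻¹) = g * (v * ((g⁻¹ * k) * w * (g⁻¹ * k)⁻¹)) * g⁻¹ := by group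
      _ = g * (((g⁻¹ * k) * w * (g⁻¹ * k)⁻¹) * v) * g⁻¹ := by rw [h2]
      _ = k * w * k⁻¹ * (g * v * g⁻¹) := by group
  have h1 : WW V V (M.e ss) ≤ centralizer ({u} : Set G) := by
    have h2 : ∀ g, g * M.e ss = M.e ss * g → ∀ v ∈ V, g * v * g⁻¹ ∈ centralizer ({u} : Set G) := by
      intro g hg v hv
      have h3 : WW V V (M.e ss) ≤ centralizer ({g * v * g⁻¹} : Set G) := by
        have h4 : ∀ k, k * M.e ss = M.e ss * k → ∀ w ∈ V, k * w * k⁻¹ ∈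
            centralizer ({g * v * g⁻¹} : Set G) := fun k hk w hw => mem_C.2 (key k hk g hg w hw v hv)
        exact WW_le h4 h4
      exact mem_C.2 (mem_C.1 (h3 hu)).symm
    exact WW_le h2 h2
  exact (mem_C.1 (h1 hv)).symm

theorem E_sq (hV : V ≤ Q (M.e ss)) {u : G} (hu : u ∈ WW V V (M.e ss)) : u * u = 1 := by
  induction hu using closure_induction with
  | mem x hx =>
    obtain ⟨g, -, v, hv, rfl⟩ := hx
    have hv : v ∈ V := hv.elim id id
    calc g * v * g⁻¹ * (g * v * g⁻¹) = g * (v * v) * g⁻¹ := by group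
      _ = 1 := by rw [M.sq hv]; group
  | one => exact one_mul 1
  | mul x y hx hy h1 h2 =>
    have h3 : x * y = y * x := E_comm t hV hx hy
    calc x * y * (x * y) = x * (y * x) * y := by group
      _ = (x * x) * (y * y) := by rw [← h3]; group
      _ = 1 := by rw [h1, h2, one_mul]
  | inv x _ h1 => rw [← mul_inv_rev, h1, inv_one]

theorem E_isPGroup (hV : V ≤ Q (M.e ss)) : IsPGroup 2 (WW V V (M.e ss)) := by
  rintro ⟨v, hv⟩
  refine ⟨1, Subtype.ext ?_⟩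
  change v ^ (2 ^ 1) = 1
  rw [pow_one, pow_two]
  exact E_sq t hV hv

end E

/-! ### The main part -/

section main

variable [Finite G] {S : Sylow 2 G} {V₁ V₂ L₁ L₂ : Subgroup G} {M₁ : FiveMod V₁ L₁} {M₂ : FiveMod V₂ L₂}
  {h : G} (b : Base S M₁ M₂ h)
include b

theorem WWn_norm : ∀ g, g * M₁.e nn = M₁.e nn * g → ∀ w ∈ WW V₁ V₂ (M₁.e nn),
    g * w * g⁻¹ ∈ WW V₁ V₂ (M₁.e nn) := fun _ hg _ hw => WW_norm hg hw

theorem mem_F_n {g y : G} : y ∈ Fam (M₁.e nn) (WW V₁ V₂ (M₁.e nn)) (g * M₁.e nn * g⁻¹) ↔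
    g⁻¹ * y * g ∈ WW V₁ V₂ (M₁.e nn) := mem_Fam (WWn_norm b)

theorem mem_F_n' {y : G} : y ∈ Fam (M₁.e nn) (WW V₁ V₂ (M₁.e nn)) (M₁.e nn) ↔
    y ∈ WW V₁ V₂ (M₁.e nn) := by
  have h1 := mem_F_n b (g := 1) (y := y)
  simpa using h1

/-- the swap of `n` and `a` in `S` -/
theorem exists_x : ∃ x ∈ (S : Subgroup G), M₁.Ind x tt ∧ x * M₁.e nn * x⁻¹ = M₁.e aa ∧
    x * M₁.e aa * x⁻¹ = M₁.e nn ∧ x * M₁.e ss = M₁.e ss * x ∧ x ∈ normalizer (V₁ : Set G) ∧
    x ∈ normalizer (V₂ : Set G) := by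
  obtain ⟨x, hxS, hx⟩ := b.dih₁.exists_swap
  exact ⟨x, hxS, hx, Dih.tt_n hx, Dih.tt_a hx, b.dih₁.S_comm hxS, b.dih₁.S_norm hxS,
    b.dih₂.S_norm hxS⟩

/-- `x⁻¹ W_a x = W_n` -/
theorem conj_WWa {x y : G} (h1 : x * M₁.e nn * x⁻¹ = M₁.e aa) (h3 : x ∈ normalizer (V₁ : Set G))
    (h4 : x ∈ normalizer (V₂ : Set G)) : x⁻¹ * y * x ∈ WW V₁ V₂ (M₁.e nn) ↔ y ∈ WW V₁ V₂ (M₁.e aa) := by
  constructor
  · intro hy
    have := WW_conj h3 h4 hy
    have e : x * (x⁻¹ * y * x) * x⁻¹ = y := by group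
    rwa [e, h1] at this
  · intro hy
    have := WW_conj (inv_mem h3) (inv_mem h4) hy
    rw [inv_inv, ← h1] at this
    have e : x⁻¹ * (x * M₁.e nn * x⁻¹) * x = M₁.e nn := by group
    rwa [e] at this

theorem mem_F_a' {y : G} : y ∈ Fam (M₁.e nn) (WW V₁ V₂ (M₁.e nn)) (M₁.e aa) ↔
    y ∈ WW V₁ V₂ (M₁.e aa) := by
  obtain ⟨x, -, -, h1, -, -, h3, h4⟩ := exists_x b
  rw [← conj_WWa b h1 h3 h4, ← mem_F_n b, h1]

theorem mem_F_a {g y : G} : y ∈ Fam (M₁.e nn) (WW V₁ V₂ (M₁.e nn)) (g * M₁.e aa * g⁻¹) ↔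
    g⁻¹ * y * g ∈ WW V₁ V₂ (M₁.e aa) := by
  rw [← Fam_conj_iff, mem_F_a' b]

theorem WWn_le_S {w : G} (hw : w ∈ WW V₁ V₂ (M₁.e nn)) : w ∈ (S : Subgroup G) :=
  (b.Q_le_T (b.WW_le_Q hw)).1

theorem WWn_comm_n {w : G} (hw : w ∈ WW V₁ V₂ (M₁.e nn)) : w * M₁.e nn = M₁.e nn * w :=
  mem_C.1 (b.Q_le_T (b.WW_le_Q hw)).2

theorem WWn_comm_s {w : G} (hw : w ∈ WW V₁ V₂ (M₁.e nn)) : w * M₁.e ss = M₁.e ss * w :=
  b.dih₁.S_comm (WWn_le_S b hw)

theorem WWa_comm_n {w : G} (hw : w ∈ WW V₁ V₂ (M₁.e aa)) : w * M₁.e nn = M₁.e nn * w :=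
  mem_C.1 (b.Qa_le_T (b.WWa_le_Qa hw)).2

theorem WWa_comm_a {w : G} (hw : w ∈ WW V₁ V₂ (M₁.e aa)) : w * M₁.e aa = M₁.e aa * w :=
  mem_C.1 (o2_le _ (b.WWa_le_Qa hw))

omit b in
theorem comm_conj' {g w u : G} (h0 : g⁻¹ * w * g * u = u * (g⁻¹ * w * g)) :
    w * (g * u * g⁻¹) = g * u * g⁻¹ * w := by
  calc w * (g * u * g⁻¹) = g * (g⁻¹ * w * g * u) * g⁻¹ := by group
    _ = g * u * g⁻¹ * w := by rw [h0]; group

omit b in
theorem act_conj {g w u c : G} (h0 : g⁻¹ * w * g * (g⁻¹ * u * g) * (g⁻¹ * w * g)⁻¹ * (g⁻¹ * u * g)⁻¹ = 1 ∨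
    g⁻¹ * w * g * (g⁻¹ * u * g) * (g⁻¹ * w * g)⁻¹ * (g⁻¹ * u * g)⁻¹ = c)
    (hc : g * c * g⁻¹ * u = u * (g * c * g⁻¹)) :
    w * u * w⁻¹ = u ∨ w * u * w⁻¹ = u * (g * c * g⁻¹) := by
  have e : w * u * w⁻¹ * u⁻¹ = g * (g⁻¹ * w * g * (g⁻¹ * u * g) * (g⁻¹ * w * g)⁻¹ * (g⁻¹ * u * g)⁻¹) * g⁻¹ := by
    group
  rcases h0 with h0 | h0
  · left
    rw [h0] at e
    have e2 : g * 1 * g⁻¹ = 1 := by group
    rw [e2] at e
    exact mul_inv_eq_one.1 e
  · right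
    rw [h0] at e
    rw [← hc]
    exact mul_inv_eq_iff_eq_mul.1 e

/-- the calculus on `E = ⟨V₁ ^ C(s)⟩` -/
theorem calcM (hV : V₁ ≤ Q (M₁.e ss)) (hE : WW V₁ V₁ (M₁.e ss) ≤ Q (M₁.e nn)) :
    Calc.Dat (centralizer ({M₁.e ss} : Set G)) (WW V₁ V₁ (M₁.e ss))
      (cls (centralizer ({M₁.e ss} : Set G)) (M₁.e nn)) (Fam (M₁.e nn) (WW V₁ V₂ (M₁.e nn))) where
  comm u hu v hv := E_comm b.dih₁ hV hu hv
  sq u hu := E_sq b.dih₁ hV hu
  norm g hg u hu := WW_norm (mem_C.1 hg) hu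
  OmA := by
    rintro _ ⟨g, hg, rfl⟩
    exact mem_WW₁ (mem_C.1 hg) (M₁.e_mem _)
  OmX := by
    rintro k hk _ ⟨g, hg, rfl⟩
    exact ⟨k * g, mul_mem hk hg, by group⟩
  trans := by
    rintro _ ⟨g, hg, rfl⟩ _ ⟨k, hk, rfl⟩
    exact ⟨k * g⁻¹, mul_mem hk (inv_mem hg), by group⟩
  WX := by
    rintro _ ⟨g, hg, rfl⟩ w hw
    rw [mem_F_n b] at hw
    have h1 := mem_C.2 (WWn_comm_s b hw)
    have h2 := mul_mem (mul_mem hg h1) (inv_mem hg)
    have e : g * (g⁻¹ * w * g) * g⁻¹ = w := by group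
    rwa [e] at h2
  eqv g hg c hc w hw := Fam_conj g hw
  cen := by
    rintro _ ⟨g, hg, rfl⟩ w hw
    rw [mem_F_n b] at hw
    exact comm_conj' (WWn_comm_n b hw)
  act := by
    rintro _ ⟨g, hg, rfl⟩ w hw u hu
    rw [mem_F_n b] at hw
    have hg' : g⁻¹ * M₁.e ss = M₁.e ss * g⁻¹ := mem_C.1 (inv_mem hg)
    have h1 : g⁻¹ * u * g ∈ WW V₁ V₁ (M₁.e ss) := by
      have := WW_norm hg' hu
      rwa [inv_inv] at this
    exact act_conj (b.WW_comm hw (hE h1))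
      (E_comm b.dih₁ hV (mem_WW₁ (mem_C.1 hg) (M₁.e_mem _)) hu)

/-- `C(s)` moves `n` to `{0 2}` -/
theorem mm_mem : M₁.e mm ∈ cls (centralizer ({M₁.e ss} : Set G)) (M₁.e nn) := by
  obtain ⟨g, -, hg⟩ := M₁.exists_lift (Equiv.swap 1 2)
  have hg : M₁.Ind g (Equiv.swap 1 2) := hg
  refine ⟨g, mem_C.2 ((hg.commute_iff _).2 (Or.inl (by decide))), ?_⟩
  rw [hg nn]
  congr 1
  decide

/-- for `w ∈ W_n`: `w ∈ C(V₁)` iff `w` commutes with `{0 2}` -/
theorem n_cent_iff {w : G} (hw : w ∈ WW V₁ V₂ (M₁.e nn)) : w ∈ centralizer (V₁ : Set G) ↔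
    w * M₁.e mm = M₁.e mm * w := by
  obtain ⟨p, hp, hi⟩ := b.Q_ind₁ (b.WW_le_Q hw)
  rw [hi.commute_iff, ← FiveMod.ind_one_iff (M := M₁)]
  rcases hp with rfl | rfl
  · exact ⟨fun _ => Or.inl rfl, fun _ => hi⟩
  · constructor
    · intro h1
      exact absurd (FiveMod.Ind.unique h1 hi) (by decide)
    · intro h1
      exact absurd h1 (by decide)

theorem a_cent_iff_mm {w : G} (hw : w ∈ WW V₁ V₂ (M₁.e aa)) : w ∈ centralizer (V₁ : Set G) ↔
    w * M₁.e mm = M₁.e mm * w := by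
  obtain ⟨p, hp, hi⟩ := b.Qa_ind₁ (b.WWa_le_Qa hw)
  rw [hi.commute_iff, ← FiveMod.ind_one_iff (M := M₁)]
  rcases hp with rfl | rfl
  · exact ⟨fun _ => Or.inl rfl, fun _ => hi⟩
  · constructor
    · intro h1
      exact absurd (FiveMod.Ind.unique h1 hi) (by decide)
    · intro h1
      exact absurd h1 (by decide)

theorem a_cent_iff {w : G} (hw : w ∈ WW V₁ V₂ (M₁.e aa)) : w ∈ centralizer (V₁ : Set G) ↔
    w * M₁.e bb = M₁.e bb * w := by
  obtain ⟨p, hp, hi⟩ := b.Qa_ind₁ (b.WWa_le_Qa hw)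
  rw [hi.commute_iff, ← FiveMod.ind_one_iff (M := M₁)]
  rcases hp with rfl | rfl
  · exact ⟨fun _ => Or.inl rfl, fun _ => hi⟩
  · constructor
    · intro h1
      exact absurd (FiveMod.Ind.unique h1 hi) (by decide)
    · intro h1
      exact absurd h1 (by decide)

/-- **(1)** `C_{W_n}(V₁) = C_{W_n}(n ^ C(s))` -/
theorem one_n (hV : V₁ ≤ Q (M₁.e ss)) (hE : WW V₁ V₁ (M₁.e ss) ≤ Q (M₁.e nn)) {w : G}
    (hw : w ∈ WW V₁ V₂ (M₁.e nn)) (h1 : w ∈ centralizer (V₁ : Set G)) :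
    ∀ d ∈ cls (centralizer ({M₁.e ss} : Set G)) (M₁.e nn), w * d = d * w := by
  have hcal := calcM b hV hE
  have hna : M₁.e nn ∈ cls (centralizer ({M₁.e ss} : Set G)) (M₁.e nn) := ⟨1, one_mem _, by group⟩
  obtain ⟨x, -, -, hx1, -, hx3, -, -⟩ := exists_x b
  obtain ⟨k, hk, hki⟩ := b.exists_move₁
  refine hcal.all (s := M₁.e ss) hna (le_WW₁ V₁ V₁ _ (M₁.e_mem _)) ?_ ?_ ?_ (mm_mem b) ?_ w ((mem_F_n' b).2 hw)
    ((n_cent_iff b hw).1 h1)
  · rintro _ ⟨g, hg, rfl⟩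
    refine ⟨g * x, mul_mem hg (mem_C.2 hx3), ?_⟩
    have e : g * x * M₁.e nn * (g * x)⁻¹ = g * (x * M₁.e nn * x⁻¹) * g⁻¹ := by group
    rw [e, hx1, ← ns M₁]
    have e2 : g * (M₁.e nn * M₁.e ss) * g⁻¹ = g * M₁.e nn * g⁻¹ * (g * M₁.e ss * g⁻¹) := by group
    rw [e2, mem_C.1 hg, mul_inv_cancel_right]
  · intro c hc v hv
    exact mem_C.1 (hcal.WX c hc v hv)
  · refine ⟨k, (mem_F_n' b).2 hk, fun k' hk' => ⟨M₁.e oo, le_WW₁ V₁ V₁ _ (M₁.e_mem _), ?_⟩⟩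
    rw [ns M₁, mem_F_a' b] at hk'
    obtain ⟨p, hp, hi⟩ := b.Qa_ind₁ (b.WWa_le_Qa hk')
    rw [hi.commute_iff, hki.commute_iff]
    rcases hp with rfl | rfl <;> decide
  · refine ⟨k, (mem_F_n' b).2 hk, ?_⟩
    rw [Ne, hki.commute_iff]
    decide

/-- **(1)** for `a`: `C_{W_a}(V₁) = C_{W_a}(n ^ C(s))` -/
theorem one_a (hV : V₁ ≤ Q (M₁.e ss)) (hE : WW V₁ V₁ (M₁.e ss) ≤ Q (M₁.e nn)) {w : G}
    (hw : w ∈ WW V₁ V₂ (M₁.e aa)) : w ∈ centralizer (V₁ : Set G) ↔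
    ∀ d ∈ cls (centralizer ({M₁.e ss} : Set G)) (M₁.e nn), w * d = d * w := by
  constructor
  · intro h1 d hd
    obtain ⟨x, -, -, hx1, -, hx3, hx4, hx5⟩ := exists_x b
    have h2 := (conj_WWa b hx1 hx4 hx5).2 hw
    have h3 : x⁻¹ * w * x ∈ centralizer (V₁ : Set G) := by
      rw [mem_centralizer_iff] at h1 ⊢
      intro v hv
      have h4 := h1 _ ((mem_normalizer_iff.1 hx4 v).1 hv)
      calc v * (x⁻¹ * w * x) = x⁻¹ * (x * v * x⁻¹ * w) * x := by group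
        _ = x⁻¹ * (w * (x * v * x⁻¹)) * x := by rw [h4]
        _ = x⁻¹ * w * x * v := by group
    obtain ⟨g, hg, rfl⟩ := hd
    have h4 := one_n b hV hE h2 h3 (x⁻¹ * g * M₁.e nn * (x⁻¹ * g)⁻¹)
      ⟨x⁻¹ * g, mul_mem (inv_mem (mem_C.2 hx3)) hg, rfl⟩
    have h5 := comm_conj' h4
    have e : x * (x⁻¹ * g * M₁.e nn * (x⁻¹ * g)⁻¹) * x⁻¹ = g * M₁.e nn * g⁻¹ := by group
    rwa [e] at h5
  · intro h1
    exact (a_cent_iff_mm b hw).2 (h1 _ (mm_mem b))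

/-! ### The calculus on `U_n` -/

omit b [Finite G] in
theorem mem_Q_conj {g y c : G} : g⁻¹ * y * g ∈ Q c ↔ y ∈ Q (g * c * g⁻¹) := by
  rw [Q, Q, ← o2_conj g c, mem_cj]

omit b [Finite G] in
theorem cent_conj_iff {V : Subgroup G} {g y : G} (hg : g ∈ normalizer (V : Set G)) :
    g⁻¹ * y * g ∈ centralizer (V : Set G) ↔ y ∈ centralizer (V : Set G) := by
  have key : ∀ g ∈ normalizer (V : Set G), ∀ y ∈ centralizer (V : Set G),
      g⁻¹ * y * g ∈ centralizer (V : Set G) := by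
    intro g hg y hy
    rw [mem_centralizer_iff] at hy ⊢
    intro v hv
    have h4 := hy _ ((mem_normalizer_iff.1 hg v).1 hv)
    calc v * (g⁻¹ * y * g) = g⁻¹ * (g * v * g⁻¹ * y) * g := by group
      _ = g⁻¹ * (y * (g * v * g⁻¹)) * g := by rw [h4]
      _ = g⁻¹ * y * g * v := by group
  constructor
  · intro h1
    have h2 := key g⁻¹ (inv_mem hg) _ h1
    have e : g⁻¹⁻¹ * (g⁻¹ * y * g) * g⁻¹ = y := by group
    rwa [e] at h2
  · exact key g hg y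

/-- the calculus on `U_n` -/
theorem calcN (hU : UU (M₁.e nn) (M₁.e aa) ≤ Q (M₁.e aa)) :
    Calc.Dat (centralizer ({M₁.e nn} : Set G)) (UU (M₁.e nn) (M₁.e aa))
      (cls (centralizer ({M₁.e nn} : Set G)) (M₁.e aa)) (Fam (M₁.e nn) (WW V₁ V₂ (M₁.e nn))) where
  comm u hu v hv := b.UU_comm hu hv
  sq u hu := b.UU_sq hu
  norm g hg u hu := UU_norm (mem_C.1 hg) hu
  OmA := by
    rintro _ ⟨g, hg, rfl⟩
    exact mem_UU (mem_C.1 hg)
  OmX := by
    rintro k hk _ ⟨g, hg, rfl⟩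
    exact ⟨k * g, mul_mem hk hg, by group⟩
  trans := by
    rintro _ ⟨g, hg, rfl⟩ _ ⟨k, hk, rfl⟩
    exact ⟨k * g⁻¹, mul_mem hk (inv_mem hg), by group⟩
  WX := by
    rintro _ ⟨g, hg, rfl⟩ w hw
    rw [mem_F_a b] at hw
    have h1 := mem_C.2 (WWa_comm_n b hw)
    have h2 := mul_mem (mul_mem hg h1) (inv_mem hg)
    have e : g * (g⁻¹ * w * g) * g⁻¹ = w := by group
    rwa [e] at h2
  eqv g hg c hc w hw := Fam_conj g hw
  cen := by
    rintro _ ⟨g, hg, rfl⟩ w hw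
    rw [mem_F_a b] at hw
    exact comm_conj' (WWa_comm_a b hw)
  act := by
    rintro _ ⟨g, hg, rfl⟩ w hw u hu
    rw [mem_F_a b] at hw
    have hg' : g⁻¹ * M₁.e nn = M₁.e nn * g⁻¹ := mem_C.1 (inv_mem hg)
    have h1 : g⁻¹ * u * g ∈ UU (M₁.e nn) (M₁.e aa) := by
      have := UU_norm hg' hu
      rwa [inv_inv] at this
    exact act_conj (b.WWa_comm hw (hU h1)) (b.UU_comm (mem_UU (mem_C.1 hg)) hu)

theorem bb_mem : ∃ g, g ∈ centralizer ({M₁.e nn} : Set G) ∧ g ∈ normalizer (V₁ : Set G) ∧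
    M₁.e bb = g * M₁.e aa * g⁻¹ := by
  obtain ⟨g, -, hg⟩ := M₁.exists_lift (Equiv.swap 3 4)
  have hg : M₁.Ind g (Equiv.swap 3 4) := hg
  refine ⟨g, mem_C.2 ((hg.commute_iff _).2 (Or.inl (by decide))), hg.mem_normalizer, ?_⟩
  rw [hg aa]
  congr 1
  decide

theorem cc_mem : ∃ g, g ∈ centralizer ({M₁.e nn} : Set G) ∧ g ∈ normalizer (V₁ : Set G) ∧
    M₁.e cc = g * M₁.e aa * g⁻¹ := by
  obtain ⟨g, -, hg⟩ := M₁.exists_lift (Equiv.swap 2 4)
  have hg : M₁.Ind g (Equiv.swap 2 4) := hg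
  refine ⟨g, mem_C.2 ((hg.commute_iff _).2 (Or.inl (by decide))), hg.mem_normalizer, ?_⟩
  rw [hg aa]
  congr 1
  decide

theorem ab : M₁.e aa * M₁.e bb = M₁.e cc := by
  rw [← M₁.e_add]
  congr 1
  decide

theorem comm_s_of {y : G} (h1 : y * M₁.e nn = M₁.e nn * y) (h2 : y * M₁.e aa = M₁.e aa * y) :
    y * M₁.e ss = M₁.e ss * y := by
  rw [← na M₁, ← mul_assoc, h1, mul_assoc, h2, ← mul_assoc]

/-- (A8) from `Δ(a) = b ^ Y` and (1) -/
theorem eight (hV : V₁ ≤ Q (M₁.e ss)) (hE : WW V₁ V₁ (M₁.e ss) ≤ Q (M₁.e nn))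
    (hi : ∀ d ∈ cls (centralizer ({M₁.e nn} : Set G)) (M₁.e aa),
      (∃ w ∈ Fam (M₁.e nn) (WW V₁ V₂ (M₁.e nn)) (M₁.e aa), w * d ≠ d * w) →
      ∃ y ∈ centralizer ({M₁.e nn} : Set G), y * M₁.e aa = M₁.e aa * y ∧ d = y * M₁.e bb * y⁻¹) :
    ∀ d ∈ cls (centralizer ({M₁.e nn} : Set G)) (M₁.e aa),
      (∃ w ∈ Fam (M₁.e nn) (WW V₁ V₂ (M₁.e nn)) (M₁.e aa), w * d ≠ d * w) →
      ∀ w ∈ Fam (M₁.e nn) (WW V₁ V₂ (M₁.e nn)) (M₁.e aa),
        (w * d = d * w ↔ w * M₁.e bb = M₁.e bb * w) := by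
  intro d hd hj w hw
  obtain ⟨y, hy, hya, rfl⟩ := hi d hd hj
  have hys := comm_s_of b (mem_C.1 hy) hya
  rw [mem_F_a' b] at hw
  have hya' : y⁻¹ * M₁.e aa = M₁.e aa * y⁻¹ := by
    rw [inv_mul_eq_iff_eq_mul, ← mul_assoc, hya, mul_inv_cancel_right]
  have hw' : y⁻¹ * w * y ∈ WW V₁ V₂ (M₁.e aa) := by
    have := WW_norm hya' hw
    rwa [inv_inv] at this
  have h1 : w * (y * M₁.e bb * y⁻¹) = y * M₁.e bb * y⁻¹ * w ↔
      y⁻¹ * w * y * M₁.e bb = M₁.e bb * (y⁻¹ * w * y) := by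
    have := comm_conj_iff (g := y⁻¹) (w := w) (u := M₁.e bb)
    rw [inv_inv] at this
    exact this.symm
  rw [h1, ← a_cent_iff b hw', ← a_cent_iff b hw, one_a b hV hE hw', one_a b hV hE hw]
  constructor
  · rintro h2 _ ⟨g, hg, rfl⟩
    have h3 := comm_conj' (h2 (y⁻¹ * g * M₁.e nn * (y⁻¹ * g)⁻¹)
      ⟨y⁻¹ * g, mul_mem (inv_mem (mem_C.2 hys)) hg, rfl⟩)
    have e : y * (y⁻¹ * g * M₁.e nn * (y⁻¹ * g)⁻¹) * y⁻¹ = g * M₁.e nn * g⁻¹ := by group
    rwa [e] at h3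
  · rintro h2 _ ⟨g, hg, rfl⟩
    have h3 := h2 (y * g * M₁.e nn * (y * g)⁻¹) ⟨y * g, mul_mem (mem_C.2 hys) hg, rfl⟩
    have h4 := (comm_conj_iff (g := y⁻¹) (w := w) (u := g * M₁.e nn * g⁻¹)).2 (by
      rw [inv_inv]
      have e : y * (g * M₁.e nn * g⁻¹) * y⁻¹ = y * g * M₁.e nn * (y * g)⁻¹ := by group
      rw [e]
      exact h3)
    rwa [inv_inv] at h4

/-- `W_a ∩ Q_n = C_{W_a}(V₁)` -/
theorem a_mem_Q_iff (hV : V₁ ≤ Q (M₁.e ss)) (hE : WW V₁ V₁ (M₁.e ss) ≤ Q (M₁.e nn))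
    (hi : ∀ d ∈ cls (centralizer ({M₁.e nn} : Set G)) (M₁.e aa),
      (∃ w ∈ Fam (M₁.e nn) (WW V₁ V₂ (M₁.e nn)) (M₁.e aa), w * d ≠ d * w) →
      ∃ y ∈ centralizer ({M₁.e nn} : Set G), y * M₁.e aa = M₁.e aa * y ∧ d = y * M₁.e bb * y⁻¹)
    {w : G} (hw : w ∈ WW V₁ V₂ (M₁.e aa)) : w ∈ Q (M₁.e nn) ↔ w ∈ centralizer (V₁ : Set G) := by
  rw [a_cent_iff b hw]
  constructor
  · intro h1
    exact ((b.mem_Q_iff hw).1 h1 _ (b.perp_mem₁ (x := bb) (by decide))).symm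
  · intro h1
    rw [b.mem_Q_iff hw]
    have h2 : UU (M₁.e nn) (M₁.e aa) ≤ centralizer ({w} : Set G) := by
      refine UU_le (mem_C.2 (WWa_comm_n b hw).symm) fun g hg => mem_C.2 ?_
      have hF := (mem_F_a' b).2 hw
      by_cases h3 : w * (g * M₁.e aa * g⁻¹) = g * M₁.e aa * g⁻¹ * w
      · exact h3.symm
      · exact absurd ((eight b hV hE hi _ ⟨g, mem_C.2 hg, rfl⟩ ⟨w, hF, h3⟩ w hF).2 h1) h3
    exact fun u hu => mem_C.1 (h2 hu)

/-- `W_n ∩ Q_a = C_{W_n}(V₁)` -/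
theorem n_mem_Q_iff (hV : V₁ ≤ Q (M₁.e ss)) (hE : WW V₁ V₁ (M₁.e ss) ≤ Q (M₁.e nn))
    (hi : ∀ d ∈ cls (centralizer ({M₁.e nn} : Set G)) (M₁.e aa),
      (∃ w ∈ Fam (M₁.e nn) (WW V₁ V₂ (M₁.e nn)) (M₁.e aa), w * d ≠ d * w) →
      ∃ y ∈ centralizer ({M₁.e nn} : Set G), y * M₁.e aa = M₁.e aa * y ∧ d = y * M₁.e bb * y⁻¹)
    {w : G} (hw : w ∈ WW V₁ V₂ (M₁.e nn)) : w ∈ Q (M₁.e aa) ↔ w ∈ centralizer (V₁ : Set G) := by
  obtain ⟨x, -, -, h1, h2, -, h3, h4⟩ := exists_x b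
  have e : x⁻¹ * (x * w * x⁻¹) * x = w := by group
  have h5 : x * w * x⁻¹ ∈ WW V₁ V₂ (M₁.e aa) := by
    rw [← conj_WWa b h1 h3 h4, e]
    exact hw
  have h6 := a_mem_Q_iff b hV hE hi h5
  rw [← cent_conj_iff h3, e, ← h2, ← mem_Q_conj, e] at h6
  exact h6

theorem n_ind {w : G} (hw : w ∈ WW V₁ V₂ (M₁.e nn)) (h1 : w ∉ centralizer (V₁ : Set G)) :
    M₁.Ind w (Equiv.swap 0 1) := by
  obtain ⟨p, hp, hi⟩ := b.Q_ind₁ (b.WW_le_Q hw)
  rcases hp with rfl | rfl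
  · exact absurd (FiveMod.ind_one_iff.1 hi) h1
  · exact hi

/-- the data of `ChiConst` -/
theorem chi (hV : V₁ ≤ Q (M₁.e ss)) (hE : WW V₁ V₁ (M₁.e ss) ≤ Q (M₁.e nn))
    (hU : UU (M₁.e nn) (M₁.e aa) ≤ Q (M₁.e aa))
    (hi : ∀ d ∈ cls (centralizer ({M₁.e nn} : Set G)) (M₁.e aa),
      (∃ w ∈ Fam (M₁.e nn) (WW V₁ V₂ (M₁.e nn)) (M₁.e aa), w * d ≠ d * w) →
      ∃ y ∈ centralizer ({M₁.e nn} : Set G), y * M₁.e aa = M₁.e aa * y ∧ d = y * M₁.e bb * y⁻¹) :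
    Cfsg.Agent.Omega.S5.ChiConst.Dat (M₁.e nn) (M₁.e aa) (M₁.e bb) (centralizer ({M₁.e nn} : Set G))
      (UU (M₁.e nn) (M₁.e aa)) (WW V₁ V₂ (M₁.e nn)) (Fam (M₁.e nn) (WW V₁ V₂ (M₁.e nn))) Q where
  nN g hg := mem_C.1 hg
  UN g hg u hu := UU_norm (mem_C.1 hg) hu
  Ucomm u hu v hv := b.UU_comm hu hv
  Usq u hu := b.UU_sq hu
  nU := self_mem_UU _ _
  aU := mem_UU_self _ _
  WN g hg y hy := WW_norm (mem_C.1 hg) hy
  WfN w hw := mem_C.2 (WWa_comm_n b ((mem_F_a' b).1 hw))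
  Wf_eqv g hg c hc w hw := Fam_conj g hw
  O_eqv g hg c hc y hy := by
    rw [← mem_Q_conj]
    have e : g⁻¹ * (g * y * g⁻¹) * g = y := by group
    rwa [e]
  act w hw u hu := (calcN b hU).act _ ⟨1, one_mem _, by group⟩ w hw u hu
  sym := (calcN b hU).sym
  idx y hy y' hy' h1 h2 := by
    rw [n_mem_Q_iff b hV hE hi hy] at h1
    rw [n_mem_Q_iff b hV hE hi hy'] at h2
    rw [n_mem_Q_iff b hV hE hi (mul_mem hy hy')]
    have h3 := (n_ind b hy h1).mul (n_ind b hy' h2)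
    rw [Equiv.swap_mul_self] at h3
    exact FiveMod.ind_one_iff.1 h3
  out := by
    obtain ⟨k, hk, hki⟩ := b.exists_move₁
    refine ⟨k, hk, ?_⟩
    rw [n_mem_Q_iff b hV hE hi hk]
    intro h0
    exact absurd (FiveMod.Ind.unique (FiveMod.ind_one_iff.2 h0) hki) (by decide)
  hyp y hy hyO w hw := by
    rw [mem_F_a' b] at hw
    have h1 := b.WWa_comm hw hyO
    have h2 : y * M₁.e aa = M₁.e aa * y := mem_C.1 (o2_le _ hyO)
    rcases h1 with h1 | h1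
    · exact Or.inl (mul_inv_eq_one.1 h1)
    · right
      rw [h2]
      exact mul_inv_eq_iff_eq_mul.1 h1
  aW := le_WW₁ V₁ V₂ _ (M₁.e_mem _)
  aO := by
    rintro _ ⟨g, hg, rfl⟩
    rw [← mem_Q_conj]
    refine hU ?_
    have hg' : g⁻¹ * M₁.e nn = M₁.e nn * g⁻¹ := mem_C.1 (inv_mem hg)
    have := UU_norm hg' (mem_UU_self (M₁.e nn) (M₁.e aa))
    rwa [inv_inv] at this
  bA := by
    obtain ⟨g, hg, -, h1⟩ := bb_mem b
    exact ⟨g, hg, h1⟩
  bO y hy := by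
    obtain ⟨g, hg, hgV, h1⟩ := bb_mem b
    have hg' : g⁻¹ * M₁.e nn = M₁.e nn * g⁻¹ := mem_C.1 (inv_mem hg)
    have h2 : g⁻¹ * y * g ∈ WW V₁ V₂ (M₁.e nn) := by
      have := WW_norm hg' hy
      rwa [inv_inv] at this
    rw [h1, ← mem_Q_conj, n_mem_Q_iff b hV hE hi h2, cent_conj_iff hgV, n_mem_Q_iff b hV hE hi hy]
  abO y hy := by
    obtain ⟨g, hg, hgV, h1⟩ := cc_mem b
    have hg' : g⁻¹ * M₁.e nn = M₁.e nn * g⁻¹ := mem_C.1 (inv_mem hg)
    have h2 : g⁻¹ * y * g ∈ WW V₁ V₂ (M₁.e nn) := by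
      have := WW_norm hg' hy
      rwa [inv_inv] at this
    rw [ab b, h1, ← mem_Q_conj, n_mem_Q_iff b hV hE hi h2, cent_conj_iff hgV, n_mem_Q_iff b hV hE hi hy]
  mov := by
    obtain ⟨k, hk, hki⟩ := b.exists_move_a₁
    refine ⟨k, (mem_F_a' b).2 hk, ?_⟩
    rw [Ne, hki.commute_iff]
    decide
  eight := eight b hV hE hi

/-- the end of B1 -/
theorem false_of' (hV : V₁ ≤ Q (M₁.e ss)) (hE : WW V₁ V₁ (M₁.e ss) ≤ Q (M₁.e nn))
    (hU : UU (M₁.e nn) (M₁.e aa) ≤ Q (M₁.e aa))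
    (hi : ∀ d ∈ cls (centralizer ({M₁.e nn} : Set G)) (M₁.e aa),
      (∃ w ∈ Fam (M₁.e nn) (WW V₁ V₂ (M₁.e nn)) (M₁.e aa), w * d ≠ d * w) →
      ∃ y ∈ centralizer ({M₁.e nn} : Set G), y * M₁.e aa = M₁.e aa * y ∧ d = y * M₁.e bb * y⁻¹) :
    False := by
  have hc := (chi b hV hE hU hi).const (T := (S : Subgroup G) ⊓ centralizer ({M₁.e nn} : Set G))
    (by
      rintro ⟨g, -, h0⟩
      refine a_ne M₁ ?_
      have h1 : g⁻¹ * 1 * g = M₁.e aa := by rw [h0]; group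
      rw [← h1]; group)
    (by
      rintro ⟨g, hg, h0⟩
      exact Base.conj_a_ne_n (mem_C.1 hg) h0.symm)
    (by
      rintro ⟨g, hg, h0⟩
      rw [na] at h0
      exact b.conj_a_ne_s g h0.symm)
    (S.isPGroup'.to_le inf_le_left) inf_le_right (fun t ht => b.dih₁.T_comm_a ht)
    (fun u hu hT => by rw [na]; exact b.mem_E4 hu hT)
  obtain ⟨v, hv, hvi⟩ := b.ex
  have hhn : h ∈ centralizer ({M₁.e nn} : Set G) := mem_C.2 b.hn
  have hvW : v ∈ WW V₁ V₂ (M₁.e nn) := by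
    rw [mem_cj] at hv
    have h1 := mem_WW₂ (V₁ := V₁) (V₂ := V₂) b.hn hv
    have h2 : h * (h⁻¹ * v * h) * h⁻¹ = v := by group
    rwa [h2] at h1
  have h1 := hc (h * M₁.e aa * h⁻¹) ⟨h, hhn, rfl⟩ v hvW
  rw [← mem_Q_conj, n_mem_Q_iff b hV hE hi hvW] at h1
  rw [mem_cj] at hv
  have h2 := h1.1 (b.WWa_le_Qa (le_WW₂ V₁ V₂ _ hv))
  exact absurd (FiveMod.Ind.unique (FiveMod.ind_one_iff.2 h2) hvi) (by decide)

/-- (B0)(iv): `E ≤ Q_n` if `E` centralises `a ^ C(n)` -/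
theorem E_le_Qn (hV : V₁ ≤ Q (M₁.e ss)) (hK : ∀ k ∈ WW V₁ V₁ (M₁.e ss),
    ∀ c ∈ cls (centralizer ({M₁.e nn} : Set G)) (M₁.e aa), k * c = c * k) :
    WW V₁ V₁ (M₁.e ss) ≤ Q (M₁.e nn) := by
  have h1 : WW V₁ V₁ (M₁.e ss) ≤ centralizer (UU (M₁.e nn) (M₁.e aa) : Set G) := by
    intro k hk
    rw [mem_centralizer_iff]
    have h2 : UU (M₁.e nn) (M₁.e aa) ≤ centralizer ({k} : Set G) :=
      UU_le (mem_C.2 (E_comm b.dih₁ hV (le_WW₁ V₁ V₁ _ (M₁.e_mem _)) hk))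
        fun g hg => mem_C.2 (hK k hk _ ⟨g, mem_C.2 hg, rfl⟩).symm
    exact fun u hu => mem_C.1 (h2 hu)
  have h2 : WW V₁ V₁ (M₁.e ss) ≤ o2 (centralizer (UU (M₁.e nn) (M₁.e aa) : Set G)) := by
    refine le_o2 h1 (E_isPGroup b.dih₁ hV) ?_
    intro x hx
    have hx' := mem_inf.1 (b.centralizer_UU_le hx)
    have hxs := comm_s_of b (mem_C.1 hx'.1) (mem_C.1 hx'.2)
    refine mem_normalizer_of_cj_le ?_
    rintro _ ⟨w, hw, rfl⟩
    exact WW_norm hxs hw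
  refine h2.trans (le_o2 ((o2_le _).trans (b.centralizer_UU_le.trans inf_le_left)) (o2_isPGroup _) ?_)
  exact b.normalizer_centralizer_UU.trans (normalizer_le_normalizer_o2' _)

end main

end Cfsg.Agent.Omega.TTn.BOne

end

section


/-!
# T-T, `n` not 2-central, `A ≤ O₂(C(s))`, `U_n ≤ O₂(C(a))`, arbitrary `V₀` (#15257 (5))

THEOREM B1 (helper429) without `zc S ≤ V`: `V₀` is a subgroup centralised by `S` and by the elements of `L₁`,
the elements of `U_n` centralised by `T = C_S(n)` lie in `V₀ {1, n, a, s}`, and `a` is the only member of `a ^ C(n)`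
centralised by `T`.
-/

set_option autoImplicit false
set_option linter.unusedSectionVars false

namespace Cfsg.Agent.Omega.TTn.Z.BOne

open Subgroup Cfsg Cfsg.Agent.ZN Cfsg.Agent.ZN.ChoiceBase
open Cfsg.Agent.Omega.S5.Mod Cfsg.Agent.Omega.S5.TT
open Cfsg.Agent.Omega.S5.TT.Pos (na ns as sn n_ne s_ne a_ne n_ne_a n_ne_s a_ne_s e_sq' mem_C)
open Cfsg.Agent.MinSimple.VModule (o2_isPGroup le_o2 o2_le le_normalizer_o2 o2_le_of_sylow
  normalizer_le_normalizer_zc)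
open Cfsg.Agent.Omega.S5.ChiConst (cls)
open Cfsg.Agent.Omega.TTn.Calc (conj_eq_iff comm_conj_iff)
open Cfsg.Agent.Omega.TTn.BOne (Fam mem_Fam Fam_conj Fam_conj_iff v4_move v4_odd oo odd_add)

universe u

variable {G : Type u} [Group G]

section E

variable [Finite G] {S : Sylow 2 G} {V L : Subgroup G} {M : FiveMod V L} (t : Dih S M)
include t

theorem Qs_le_S : Q (M.e ss) ≤ (S : Subgroup G) :=
  o2_le_of_sylow S.isPGroup' (MinSimple.Basic.not_dvd_relIndex S fun _ hg => mem_C.2 (t.S_comm hg))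

theorem Qs_ind {q : G} (hq : q ∈ Q (M.e ss)) : ∃ p, V4p p ∧ M.Ind q p :=
  Pos.Q_ind_aux t.S_le t.d8 (Qs_le_S t) hq

theorem Qs_conj {m q : G} (hm : m * M.e ss = M.e ss * m) (hq : q ∈ Q (M.e ss)) :
    m * q * m⁻¹ ∈ Q (M.e ss) :=
  (mem_normalizer_iff.1 (le_normalizer_o2 _ (mem_C.2 hm)) _).1 hq

theorem Qs_conj' {m q : G} (hm : m * M.e ss = M.e ss * m) (hq : q ∈ Q (M.e ss)) :
    m⁻¹ * q * m ∈ Q (M.e ss) := by
  have h1 : m⁻¹ * M.e ss = M.e ss * m⁻¹ := by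
    rw [inv_mul_eq_iff_eq_mul, ← mul_assoc, hm, mul_inv_cancel_right]
  have h2 := Qs_conj t h1 hq
  rwa [inv_inv] at h2

theorem comm_odd (hV : V ≤ Q (M.e ss)) {m : G} (hm : m * M.e ss = M.e ss * m) {x : Vec}
    (hx : x 0 + x 1 + x 2 + x 3 = 1) {w : G} (hw : w ∈ cj m V) : M.e x * w = w * M.e x := by
  obtain ⟨p, hp, hi⟩ := Qs_ind t (Qs_conj' t hm (hV (M.e_mem x)))
  have hi' := M.cj_ind (g := m) hi
  have e : m * (m⁻¹ * M.e x * m) * m⁻¹ = M.e x := by group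
  rw [e] at hi'
  by_cases h1 : p = 1
  · rw [h1] at hi'
    exact (mem_centralizer_iff.1 (FiveMod.ind_one_iff.1 hi') w hw).symm
  · exfalso
    obtain ⟨y, hy⟩ := v4_move p hp h1
    have h2 := hi'.comm_eq y
    have h3 : (M.cj m).e (ss + 1) = M.e ss := by
      rw [M.cj_e, M.e_add, M.e_one, mul_one, hm, mul_inv_cancel_right]
    rw [hy, h3] at h2
    have h4 : (M.cj m).e y ∈ Q (M.e ss) := by
      rw [M.cj_e]
      exact Qs_conj t hm (hV (M.e_mem y))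
    obtain ⟨q, hq, hj⟩ := Qs_ind t h4
    have h5 : M.e x * (M.cj m).e y * (M.e x)⁻¹ * ((M.cj m).e y)⁻¹ = M.e (x + x ∘ q.symm) := by
      rw [M.e_add, ← hj x]
      have e2 : (M.e x)⁻¹ = M.e x := M.e_inv x
      rw [e2]
      group
    rw [h5] at h2
    rcases M.e_eq_iff.1 h2 with h6 | h6
    · exact (v4_odd q hq x hx).1 h6
    · exact (v4_odd q hq x hx).2 h6

theorem comm_conj (hV : V ≤ Q (M.e ss)) {m : G} (hm : m * M.e ss = M.e ss * m) {v w : G} (hv : v ∈ V)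
    (hw : w ∈ cj m V) : v * w = w * v := by
  obtain ⟨x, rfl⟩ := (M.mem_iff v).1 hv
  by_cases hx : x 0 + x 1 + x 2 + x 3 = 1
  · exact comm_odd t hV hm hx hw
  · have h1 := comm_odd t hV hm (odd_add x hx) hw
    have h2 := comm_odd t hV hm (x := oo) (by decide) hw
    have h3 : M.e x = M.e (x + oo) * M.e oo := by
      rw [← M.e_add, add_add_cancel']
    rw [h3, mul_assoc, h2, ← mul_assoc, h1, mul_assoc]

theorem E_comm (hV : V ≤ Q (M.e ss)) {u v : G} (hu : u ∈ WW V V (M.e ss)) (hv : v ∈ WW V V (M.e ss)) :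
    u * v = v * u := by
  have key : ∀ g, g * M.e ss = M.e ss * g → ∀ k, k * M.e ss = M.e ss * k → ∀ v ∈ V, ∀ w ∈ V,
      g * v * g⁻¹ * (k * w * k⁻¹) = k * w * k⁻¹ * (g * v * g⁻¹) := by
    intro g hg k hk v hv w hw
    have hg' : g⁻¹ * M.e ss = M.e ss * g⁻¹ := by
      rw [inv_mul_eq_iff_eq_mul, ← mul_assoc, hg, mul_inv_cancel_right]
    have h1 : g⁻¹ * k * M.e ss = M.e ss * (g⁻¹ * k) := by
      rw [mul_assoc, hk, ← mul_assoc, hg', mul_assoc]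
    have h2 := comm_conj t hV h1 hv (w := (g⁻¹ * k) * w * (g⁻¹ * k)⁻¹) ⟨w, hw, rfl⟩
    calc g * v * g⁻¹ * (k * w * k⁻¹) = g * (v * ((g⁻¹ * k) * w * (g⁻¹ * k)⁻¹)) * g⁻¹ := by group
      _ = g * (((g⁻¹ * k) * w * (g⁻¹ * k)⁻¹) * v) * g⁻¹ := by rw [h2]
      _ = k * w * k⁻¹ * (g * v * g⁻¹) := by group
  have h1 : WW V V (M.e ss) ≤ centralizer ({u} : Set G) := by
    have h2 : ∀ g, g * M.e ss = M.e ss * g → ∀ v ∈ V, g * v * g⁻¹ ∈ centralizer ({u} : Set G) := by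
      intro g hg v hv
      have h3 : WW V V (M.e ss) ≤ centralizer ({g * v * g⁻¹} : Set G) := by
        have h4 : ∀ k, k * M.e ss = M.e ss * k → ∀ w ∈ V, k * w * k⁻¹ ∈
            centralizer ({g * v * g⁻¹} : Set G) := fun k hk w hw => mem_C.2 (key k hk g hg w hw v hv)
        exact WW_le h4 h4
      exact mem_C.2 (mem_C.1 (h3 hu)).symm
    exact WW_le h2 h2
  exact (mem_C.1 (h1 hv)).symm

theorem E_sq (hV : V ≤ Q (M.e ss)) {u : G} (hu : u ∈ WW V V (M.e ss)) : u * u = 1 := by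
  induction hu using closure_induction with
  | mem x hx =>
    obtain ⟨g, -, v, hv, rfl⟩ := hx
    have hv : v ∈ V := hv.elim id id
    calc g * v * g⁻¹ * (g * v * g⁻¹) = g * (v * v) * g⁻¹ := by group
      _ = 1 := by rw [M.sq hv]; group
  | one => exact one_mul 1
  | mul x y hx hy h1 h2 =>
    have h3 : x * y = y * x := E_comm t hV hx hy
    calc x * y * (x * y) = x * (y * x) * y := by group
      _ = (x * x) * (y * y) := by rw [← h3]; group
      _ = 1 := by rw [h1, h2, one_mul]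
  | inv x _ h1 => rw [← mul_inv_rev, h1, inv_one]

theorem E_isPGroup (hV : V ≤ Q (M.e ss)) : IsPGroup 2 (WW V V (M.e ss)) := by
  rintro ⟨v, hv⟩
  refine ⟨1, Subtype.ext ?_⟩
  change v ^ (2 ^ 1) = 1
  rw [pow_one, pow_two]
  exact E_sq t hV hv

end E

/-! ### The main part -/

section main

variable [Finite G] {S : Sylow 2 G} {V₁ V₂ L₁ L₂ : Subgroup G} {M₁ : FiveMod V₁ L₁} {M₂ : FiveMod V₂ L₂}
  {h : G} (b : Base S M₁ M₂ h)
include b

theorem WWn_norm : ∀ g, g * M₁.e nn = M₁.e nn * g → ∀ w ∈ WW V₁ V₂ (M₁.e nn),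
    g * w * g⁻¹ ∈ WW V₁ V₂ (M₁.e nn) := fun _ hg _ hw => WW_norm hg hw

theorem mem_F_n {g y : G} : y ∈ Fam (M₁.e nn) (WW V₁ V₂ (M₁.e nn)) (g * M₁.e nn * g⁻¹) ↔
    g⁻¹ * y * g ∈ WW V₁ V₂ (M₁.e nn) := mem_Fam (WWn_norm b)

theorem mem_F_n' {y : G} : y ∈ Fam (M₁.e nn) (WW V₁ V₂ (M₁.e nn)) (M₁.e nn) ↔
    y ∈ WW V₁ V₂ (M₁.e nn) := by
  have h1 := mem_F_n b (g := 1) (y := y)
  simpa using h1

/-- the swap of `n` and `a` in `S` -/
theorem exists_x : ∃ x ∈ (S : Subgroup G), M₁.Ind x tt ∧ x * M₁.e nn * x⁻¹ = M₁.e aa ∧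
    x * M₁.e aa * x⁻¹ = M₁.e nn ∧ x * M₁.e ss = M₁.e ss * x ∧ x ∈ normalizer (V₁ : Set G) ∧
    x ∈ normalizer (V₂ : Set G) := by
  obtain ⟨x, hxS, hx⟩ := b.dih₁.exists_swap
  exact ⟨x, hxS, hx, Dih.tt_n hx, Dih.tt_a hx, b.dih₁.S_comm hxS, b.dih₁.S_norm hxS,
    b.dih₂.S_norm hxS⟩

/-- `x⁻¹ W_a x = W_n` -/
theorem conj_WWa {x y : G} (h1 : x * M₁.e nn * x⁻¹ = M₁.e aa) (h3 : x ∈ normalizer (V₁ : Set G))
    (h4 : x ∈ normalizer (V₂ : Set G)) : x⁻¹ * y * x ∈ WW V₁ V₂ (M₁.e nn) ↔ y ∈ WW V₁ V₂ (M₁.e aa) := by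
  constructor
  · intro hy
    have := WW_conj h3 h4 hy
    have e : x * (x⁻¹ * y * x) * x⁻¹ = y := by group
    rwa [e, h1] at this
  · intro hy
    have := WW_conj (inv_mem h3) (inv_mem h4) hy
    rw [inv_inv, ← h1] at this
    have e : x⁻¹ * (x * M₁.e nn * x⁻¹) * x = M₁.e nn := by group
    rwa [e] at this

theorem mem_F_a' {y : G} : y ∈ Fam (M₁.e nn) (WW V₁ V₂ (M₁.e nn)) (M₁.e aa) ↔
    y ∈ WW V₁ V₂ (M₁.e aa) := by
  obtain ⟨x, -, -, h1, -, -, h3, h4⟩ := exists_x b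
  rw [← conj_WWa b h1 h3 h4, ← mem_F_n b, h1]

theorem mem_F_a {g y : G} : y ∈ Fam (M₁.e nn) (WW V₁ V₂ (M₁.e nn)) (g * M₁.e aa * g⁻¹) ↔
    g⁻¹ * y * g ∈ WW V₁ V₂ (M₁.e aa) := by
  rw [← Fam_conj_iff, mem_F_a' b]

theorem WWn_le_S {w : G} (hw : w ∈ WW V₁ V₂ (M₁.e nn)) : w ∈ (S : Subgroup G) :=
  (b.Q_le_T (b.WW_le_Q hw)).1

theorem WWn_comm_n {w : G} (hw : w ∈ WW V₁ V₂ (M₁.e nn)) : w * M₁.e nn = M₁.e nn * w :=
  mem_C.1 (b.Q_le_T (b.WW_le_Q hw)).2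

theorem WWn_comm_s {w : G} (hw : w ∈ WW V₁ V₂ (M₁.e nn)) : w * M₁.e ss = M₁.e ss * w :=
  b.dih₁.S_comm (WWn_le_S b hw)

theorem WWa_comm_n {w : G} (hw : w ∈ WW V₁ V₂ (M₁.e aa)) : w * M₁.e nn = M₁.e nn * w :=
  mem_C.1 (b.Qa_le_T (b.WWa_le_Qa hw)).2

theorem WWa_comm_a {w : G} (hw : w ∈ WW V₁ V₂ (M₁.e aa)) : w * M₁.e aa = M₁.e aa * w :=
  mem_C.1 (o2_le _ (b.WWa_le_Qa hw))

omit b in
theorem comm_conj' {g w u : G} (h0 : g⁻¹ * w * g * u = u * (g⁻¹ * w * g)) :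
    w * (g * u * g⁻¹) = g * u * g⁻¹ * w := by
  calc w * (g * u * g⁻¹) = g * (g⁻¹ * w * g * u) * g⁻¹ := by group
    _ = g * u * g⁻¹ * w := by rw [h0]; group

omit b in
theorem act_conj {g w u c : G} (h0 : g⁻¹ * w * g * (g⁻¹ * u * g) * (g⁻¹ * w * g)⁻¹ * (g⁻¹ * u * g)⁻¹ = 1 ∨
    g⁻¹ * w * g * (g⁻¹ * u * g) * (g⁻¹ * w * g)⁻¹ * (g⁻¹ * u * g)⁻¹ = c)
    (hc : g * c * g⁻¹ * u = u * (g * c * g⁻¹)) :
    w * u * w⁻¹ = u ∨ w * u * w⁻¹ = u * (g * c * g⁻¹) := by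
  have e : w * u * w⁻¹ * u⁻¹ = g * (g⁻¹ * w * g * (g⁻¹ * u * g) * (g⁻¹ * w * g)⁻¹ * (g⁻¹ * u * g)⁻¹) * g⁻¹ := by
    group
  rcases h0 with h0 | h0
  · left
    rw [h0] at e
    have e2 : g * 1 * g⁻¹ = 1 := by group
    rw [e2] at e
    exact mul_inv_eq_one.1 e
  · right
    rw [h0] at e
    rw [← hc]
    exact mul_inv_eq_iff_eq_mul.1 e

/-- the calculus on `E = ⟨V₁ ^ C(s)⟩` -/
theorem calcM (hV : V₁ ≤ Q (M₁.e ss)) (hE : WW V₁ V₁ (M₁.e ss) ≤ Q (M₁.e nn)) :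
    Calc.Dat (centralizer ({M₁.e ss} : Set G)) (WW V₁ V₁ (M₁.e ss))
      (cls (centralizer ({M₁.e ss} : Set G)) (M₁.e nn)) (Fam (M₁.e nn) (WW V₁ V₂ (M₁.e nn))) where
  comm u hu v hv := E_comm b.dih₁ hV hu hv
  sq u hu := E_sq b.dih₁ hV hu
  norm g hg u hu := WW_norm (mem_C.1 hg) hu
  OmA := by
    rintro _ ⟨g, hg, rfl⟩
    exact mem_WW₁ (mem_C.1 hg) (M₁.e_mem _)
  OmX := by
    rintro k hk _ ⟨g, hg, rfl⟩
    exact ⟨k * g, mul_mem hk hg, by group⟩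
  trans := by
    rintro _ ⟨g, hg, rfl⟩ _ ⟨k, hk, rfl⟩
    exact ⟨k * g⁻¹, mul_mem hk (inv_mem hg), by group⟩
  WX := by
    rintro _ ⟨g, hg, rfl⟩ w hw
    rw [mem_F_n b] at hw
    have h1 := mem_C.2 (WWn_comm_s b hw)
    have h2 := mul_mem (mul_mem hg h1) (inv_mem hg)
    have e : g * (g⁻¹ * w * g) * g⁻¹ = w := by group
    rwa [e] at h2
  eqv g hg c hc w hw := Fam_conj g hw
  cen := by
    rintro _ ⟨g, hg, rfl⟩ w hw
    rw [mem_F_n b] at hw
    exact comm_conj' (WWn_comm_n b hw)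
  act := by
    rintro _ ⟨g, hg, rfl⟩ w hw u hu
    rw [mem_F_n b] at hw
    have hg' : g⁻¹ * M₁.e ss = M₁.e ss * g⁻¹ := mem_C.1 (inv_mem hg)
    have h1 : g⁻¹ * u * g ∈ WW V₁ V₁ (M₁.e ss) := by
      have := WW_norm hg' hu
      rwa [inv_inv] at this
    exact act_conj (b.WW_comm hw (hE h1))
      (E_comm b.dih₁ hV (mem_WW₁ (mem_C.1 hg) (M₁.e_mem _)) hu)

/-- `C(s)` moves `n` to `{0 2}` -/
theorem mm_mem : M₁.e mm ∈ cls (centralizer ({M₁.e ss} : Set G)) (M₁.e nn) := by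
  obtain ⟨g, -, hg⟩ := M₁.exists_lift (Equiv.swap 1 2)
  have hg : M₁.Ind g (Equiv.swap 1 2) := hg
  refine ⟨g, mem_C.2 ((hg.commute_iff _).2 (Or.inl (by decide))), ?_⟩
  rw [hg nn]
  congr 1
  decide

/-- for `w ∈ W_n`: `w ∈ C(V₁)` iff `w` commutes with `{0 2}` -/
theorem n_cent_iff {w : G} (hw : w ∈ WW V₁ V₂ (M₁.e nn)) : w ∈ centralizer (V₁ : Set G) ↔
    w * M₁.e mm = M₁.e mm * w := by
  obtain ⟨p, hp, hi⟩ := b.Q_ind₁ (b.WW_le_Q hw)
  rw [hi.commute_iff, ← FiveMod.ind_one_iff (M := M₁)]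
  rcases hp with rfl | rfl
  · exact ⟨fun _ => Or.inl rfl, fun _ => hi⟩
  · constructor
    · intro h1
      exact absurd (FiveMod.Ind.unique h1 hi) (by decide)
    · intro h1
      exact absurd h1 (by decide)

theorem a_cent_iff_mm {w : G} (hw : w ∈ WW V₁ V₂ (M₁.e aa)) : w ∈ centralizer (V₁ : Set G) ↔
    w * M₁.e mm = M₁.e mm * w := by
  obtain ⟨p, hp, hi⟩ := b.Qa_ind₁ (b.WWa_le_Qa hw)
  rw [hi.commute_iff, ← FiveMod.ind_one_iff (M := M₁)]
  rcases hp with rfl | rfl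
  · exact ⟨fun _ => Or.inl rfl, fun _ => hi⟩
  · constructor
    · intro h1
      exact absurd (FiveMod.Ind.unique h1 hi) (by decide)
    · intro h1
      exact absurd h1 (by decide)

theorem a_cent_iff {w : G} (hw : w ∈ WW V₁ V₂ (M₁.e aa)) : w ∈ centralizer (V₁ : Set G) ↔
    w * M₁.e bb = M₁.e bb * w := by
  obtain ⟨p, hp, hi⟩ := b.Qa_ind₁ (b.WWa_le_Qa hw)
  rw [hi.commute_iff, ← FiveMod.ind_one_iff (M := M₁)]
  rcases hp with rfl | rfl
  · exact ⟨fun _ => Or.inl rfl, fun _ => hi⟩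
  · constructor
    · intro h1
      exact absurd (FiveMod.Ind.unique h1 hi) (by decide)
    · intro h1
      exact absurd h1 (by decide)

/-- **(1)** `C_{W_n}(V₁) = C_{W_n}(n ^ C(s))` -/
theorem one_n (hV : V₁ ≤ Q (M₁.e ss)) (hE : WW V₁ V₁ (M₁.e ss) ≤ Q (M₁.e nn)) {w : G}
    (hw : w ∈ WW V₁ V₂ (M₁.e nn)) (h1 : w ∈ centralizer (V₁ : Set G)) :
    ∀ d ∈ cls (centralizer ({M₁.e ss} : Set G)) (M₁.e nn), w * d = d * w := by
  have hcal := calcM b hV hE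
  have hna : M₁.e nn ∈ cls (centralizer ({M₁.e ss} : Set G)) (M₁.e nn) := ⟨1, one_mem _, by group⟩
  obtain ⟨x, -, -, hx1, -, hx3, -, -⟩ := exists_x b
  obtain ⟨k, hk, hki⟩ := b.exists_move₁
  refine hcal.all (s := M₁.e ss) hna (le_WW₁ V₁ V₁ _ (M₁.e_mem _)) ?_ ?_ ?_ (mm_mem b) ?_ w ((mem_F_n' b).2 hw)
    ((n_cent_iff b hw).1 h1)
  · rintro _ ⟨g, hg, rfl⟩
    refine ⟨g * x, mul_mem hg (mem_C.2 hx3), ?_⟩
    have e : g * x * M₁.e nn * (g * x)⁻¹ = g * (x * M₁.e nn * x⁻¹) * g⁻¹ := by group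
    rw [e, hx1, ← ns M₁]
    have e2 : g * (M₁.e nn * M₁.e ss) * g⁻¹ = g * M₁.e nn * g⁻¹ * (g * M₁.e ss * g⁻¹) := by group
    rw [e2, mem_C.1 hg, mul_inv_cancel_right]
  · intro c hc v hv
    exact mem_C.1 (hcal.WX c hc v hv)
  · refine ⟨k, (mem_F_n' b).2 hk, fun k' hk' => ⟨M₁.e oo, le_WW₁ V₁ V₁ _ (M₁.e_mem _), ?_⟩⟩
    rw [ns M₁, mem_F_a' b] at hk'
    obtain ⟨p, hp, hi⟩ := b.Qa_ind₁ (b.WWa_le_Qa hk')
    rw [hi.commute_iff, hki.commute_iff]
    rcases hp with rfl | rfl <;> decide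
  · refine ⟨k, (mem_F_n' b).2 hk, ?_⟩
    rw [Ne, hki.commute_iff]
    decide

/-- **(1)** for `a`: `C_{W_a}(V₁) = C_{W_a}(n ^ C(s))` -/
theorem one_a (hV : V₁ ≤ Q (M₁.e ss)) (hE : WW V₁ V₁ (M₁.e ss) ≤ Q (M₁.e nn)) {w : G}
    (hw : w ∈ WW V₁ V₂ (M₁.e aa)) : w ∈ centralizer (V₁ : Set G) ↔
    ∀ d ∈ cls (centralizer ({M₁.e ss} : Set G)) (M₁.e nn), w * d = d * w := by
  constructor
  · intro h1 d hd
    obtain ⟨x, -, -, hx1, -, hx3, hx4, hx5⟩ := exists_x b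
    have h2 := (conj_WWa b hx1 hx4 hx5).2 hw
    have h3 : x⁻¹ * w * x ∈ centralizer (V₁ : Set G) := by
      rw [mem_centralizer_iff] at h1 ⊢
      intro v hv
      have h4 := h1 _ ((mem_normalizer_iff.1 hx4 v).1 hv)
      calc v * (x⁻¹ * w * x) = x⁻¹ * (x * v * x⁻¹ * w) * x := by group
        _ = x⁻¹ * (w * (x * v * x⁻¹)) * x := by rw [h4]
        _ = x⁻¹ * w * x * v := by group
    obtain ⟨g, hg, rfl⟩ := hd
    have h4 := one_n b hV hE h2 h3 (x⁻¹ * g * M₁.e nn * (x⁻¹ * g)⁻¹)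
      ⟨x⁻¹ * g, mul_mem (inv_mem (mem_C.2 hx3)) hg, rfl⟩
    have h5 := comm_conj' h4
    have e : x * (x⁻¹ * g * M₁.e nn * (x⁻¹ * g)⁻¹) * x⁻¹ = g * M₁.e nn * g⁻¹ := by group
    rwa [e] at h5
  · intro h1
    exact (a_cent_iff_mm b hw).2 (h1 _ (mm_mem b))

/-! ### The calculus on `U_n` -/

omit b [Finite G] in
theorem mem_Q_conj {g y c : G} : g⁻¹ * y * g ∈ Q c ↔ y ∈ Q (g * c * g⁻¹) := by
  rw [Q, Q, ← o2_conj g c, mem_cj]

omit b [Finite G] in
theorem cent_conj_iff {V : Subgroup G} {g y : G} (hg : g ∈ normalizer (V : Set G)) :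
    g⁻¹ * y * g ∈ centralizer (V : Set G) ↔ y ∈ centralizer (V : Set G) := by
  have key : ∀ g ∈ normalizer (V : Set G), ∀ y ∈ centralizer (V : Set G),
      g⁻¹ * y * g ∈ centralizer (V : Set G) := by
    intro g hg y hy
    rw [mem_centralizer_iff] at hy ⊢
    intro v hv
    have h4 := hy _ ((mem_normalizer_iff.1 hg v).1 hv)
    calc v * (g⁻¹ * y * g) = g⁻¹ * (g * v * g⁻¹ * y) * g := by group
      _ = g⁻¹ * (y * (g * v * g⁻¹)) * g := by rw [h4]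
      _ = g⁻¹ * y * g * v := by group
  constructor
  · intro h1
    have h2 := key g⁻¹ (inv_mem hg) _ h1
    have e : g⁻¹⁻¹ * (g⁻¹ * y * g) * g⁻¹ = y := by group
    rwa [e] at h2
  · exact key g hg y

/-- the calculus on `U_n` -/
theorem calcN (hU : UU (M₁.e nn) (M₁.e aa) ≤ Q (M₁.e aa)) :
    Calc.Dat (centralizer ({M₁.e nn} : Set G)) (UU (M₁.e nn) (M₁.e aa))
      (cls (centralizer ({M₁.e nn} : Set G)) (M₁.e aa)) (Fam (M₁.e nn) (WW V₁ V₂ (M₁.e nn))) where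
  comm u hu v hv := b.UU_comm hu hv
  sq u hu := b.UU_sq hu
  norm g hg u hu := UU_norm (mem_C.1 hg) hu
  OmA := by
    rintro _ ⟨g, hg, rfl⟩
    exact mem_UU (mem_C.1 hg)
  OmX := by
    rintro k hk _ ⟨g, hg, rfl⟩
    exact ⟨k * g, mul_mem hk hg, by group⟩
  trans := by
    rintro _ ⟨g, hg, rfl⟩ _ ⟨k, hk, rfl⟩
    exact ⟨k * g⁻¹, mul_mem hk (inv_mem hg), by group⟩
  WX := by
    rintro _ ⟨g, hg, rfl⟩ w hw
    rw [mem_F_a b] at hw
    have h1 := mem_C.2 (WWa_comm_n b hw)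
    have h2 := mul_mem (mul_mem hg h1) (inv_mem hg)
    have e : g * (g⁻¹ * w * g) * g⁻¹ = w := by group
    rwa [e] at h2
  eqv g hg c hc w hw := Fam_conj g hw
  cen := by
    rintro _ ⟨g, hg, rfl⟩ w hw
    rw [mem_F_a b] at hw
    exact comm_conj' (WWa_comm_a b hw)
  act := by
    rintro _ ⟨g, hg, rfl⟩ w hw u hu
    rw [mem_F_a b] at hw
    have hg' : g⁻¹ * M₁.e nn = M₁.e nn * g⁻¹ := mem_C.1 (inv_mem hg)
    have h1 : g⁻¹ * u * g ∈ UU (M₁.e nn) (M₁.e aa) := by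
      have := UU_norm hg' hu
      rwa [inv_inv] at this
    exact act_conj (b.WWa_comm hw (hU h1)) (b.UU_comm (mem_UU (mem_C.1 hg)) hu)

theorem bb_mem : ∃ g, g ∈ centralizer ({M₁.e nn} : Set G) ∧ g ∈ normalizer (V₁ : Set G) ∧
    M₁.e bb = g * M₁.e aa * g⁻¹ := by
  obtain ⟨g, -, hg⟩ := M₁.exists_lift (Equiv.swap 3 4)
  have hg : M₁.Ind g (Equiv.swap 3 4) := hg
  refine ⟨g, mem_C.2 ((hg.commute_iff _).2 (Or.inl (by decide))), hg.mem_normalizer, ?_⟩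
  rw [hg aa]
  congr 1
  decide

theorem cc_mem : ∃ g, g ∈ centralizer ({M₁.e nn} : Set G) ∧ g ∈ normalizer (V₁ : Set G) ∧
    M₁.e cc = g * M₁.e aa * g⁻¹ := by
  obtain ⟨g, -, hg⟩ := M₁.exists_lift (Equiv.swap 2 4)
  have hg : M₁.Ind g (Equiv.swap 2 4) := hg
  refine ⟨g, mem_C.2 ((hg.commute_iff _).2 (Or.inl (by decide))), hg.mem_normalizer, ?_⟩
  rw [hg aa]
  congr 1
  decide

theorem ab : M₁.e aa * M₁.e bb = M₁.e cc := by
  rw [← M₁.e_add]
  congr 1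
  decide

theorem comm_s_of {y : G} (h1 : y * M₁.e nn = M₁.e nn * y) (h2 : y * M₁.e aa = M₁.e aa * y) :
    y * M₁.e ss = M₁.e ss * y := by
  rw [← na M₁, ← mul_assoc, h1, mul_assoc, h2, ← mul_assoc]

/-- (A8) from `Δ(a) = b ^ Y` and (1) -/
theorem eight (hV : V₁ ≤ Q (M₁.e ss)) (hE : WW V₁ V₁ (M₁.e ss) ≤ Q (M₁.e nn))
    (hi : ∀ d ∈ cls (centralizer ({M₁.e nn} : Set G)) (M₁.e aa),
      (∃ w ∈ Fam (M₁.e nn) (WW V₁ V₂ (M₁.e nn)) (M₁.e aa), w * d ≠ d * w) →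
      ∃ y ∈ centralizer ({M₁.e nn} : Set G), y * M₁.e aa = M₁.e aa * y ∧ d = y * M₁.e bb * y⁻¹) :
    ∀ d ∈ cls (centralizer ({M₁.e nn} : Set G)) (M₁.e aa),
      (∃ w ∈ Fam (M₁.e nn) (WW V₁ V₂ (M₁.e nn)) (M₁.e aa), w * d ≠ d * w) →
      ∀ w ∈ Fam (M₁.e nn) (WW V₁ V₂ (M₁.e nn)) (M₁.e aa),
        (w * d = d * w ↔ w * M₁.e bb = M₁.e bb * w) := by
  intro d hd hj w hw
  obtain ⟨y, hy, hya, rfl⟩ := hi d hd hj
  have hys := comm_s_of b (mem_C.1 hy) hya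
  rw [mem_F_a' b] at hw
  have hya' : y⁻¹ * M₁.e aa = M₁.e aa * y⁻¹ := by
    rw [inv_mul_eq_iff_eq_mul, ← mul_assoc, hya, mul_inv_cancel_right]
  have hw' : y⁻¹ * w * y ∈ WW V₁ V₂ (M₁.e aa) := by
    have := WW_norm hya' hw
    rwa [inv_inv] at this
  have h1 : w * (y * M₁.e bb * y⁻¹) = y * M₁.e bb * y⁻¹ * w ↔
      y⁻¹ * w * y * M₁.e bb = M₁.e bb * (y⁻¹ * w * y) := by
    have := comm_conj_iff (g := y⁻¹) (w := w) (u := M₁.e bb)
    rw [inv_inv] at this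
    exact this.symm
  rw [h1, ← a_cent_iff b hw', ← a_cent_iff b hw, one_a b hV hE hw', one_a b hV hE hw]
  constructor
  · rintro h2 _ ⟨g, hg, rfl⟩
    have h3 := comm_conj' (h2 (y⁻¹ * g * M₁.e nn * (y⁻¹ * g)⁻¹)
      ⟨y⁻¹ * g, mul_mem (inv_mem (mem_C.2 hys)) hg, rfl⟩)
    have e : y * (y⁻¹ * g * M₁.e nn * (y⁻¹ * g)⁻¹) * y⁻¹ = g * M₁.e nn * g⁻¹ := by group
    rwa [e] at h3
  · rintro h2 _ ⟨g, hg, rfl⟩
    have h3 := h2 (y * g * M₁.e nn * (y * g)⁻¹) ⟨y * g, mul_mem (mem_C.2 hys) hg, rfl⟩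
    have h4 := (comm_conj_iff (g := y⁻¹) (w := w) (u := g * M₁.e nn * g⁻¹)).2 (by
      rw [inv_inv]
      have e : y * (g * M₁.e nn * g⁻¹) * y⁻¹ = y * g * M₁.e nn * (y * g)⁻¹ := by group
      rw [e]
      exact h3)
    rwa [inv_inv] at h4

/-- `W_a ∩ Q_n = C_{W_a}(V₁)` -/
theorem a_mem_Q_iff (hV : V₁ ≤ Q (M₁.e ss)) (hE : WW V₁ V₁ (M₁.e ss) ≤ Q (M₁.e nn))
    (hi : ∀ d ∈ cls (centralizer ({M₁.e nn} : Set G)) (M₁.e aa),
      (∃ w ∈ Fam (M₁.e nn) (WW V₁ V₂ (M₁.e nn)) (M₁.e aa), w * d ≠ d * w) →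
      ∃ y ∈ centralizer ({M₁.e nn} : Set G), y * M₁.e aa = M₁.e aa * y ∧ d = y * M₁.e bb * y⁻¹)
    {w : G} (hw : w ∈ WW V₁ V₂ (M₁.e aa)) : w ∈ Q (M₁.e nn) ↔ w ∈ centralizer (V₁ : Set G) := by
  rw [a_cent_iff b hw]
  constructor
  · intro h1
    exact ((b.mem_Q_iff hw).1 h1 _ (b.perp_mem₁ (x := bb) (by decide))).symm
  · intro h1
    rw [b.mem_Q_iff hw]
    have h2 : UU (M₁.e nn) (M₁.e aa) ≤ centralizer ({w} : Set G) := by
      refine UU_le (mem_C.2 (WWa_comm_n b hw).symm) fun g hg => mem_C.2 ?_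
      have hF := (mem_F_a' b).2 hw
      by_cases h3 : w * (g * M₁.e aa * g⁻¹) = g * M₁.e aa * g⁻¹ * w
      · exact h3.symm
      · exact absurd ((eight b hV hE hi _ ⟨g, mem_C.2 hg, rfl⟩ ⟨w, hF, h3⟩ w hF).2 h1) h3
    exact fun u hu => mem_C.1 (h2 hu)

/-- `W_n ∩ Q_a = C_{W_n}(V₁)` -/
theorem n_mem_Q_iff (hV : V₁ ≤ Q (M₁.e ss)) (hE : WW V₁ V₁ (M₁.e ss) ≤ Q (M₁.e nn))
    (hi : ∀ d ∈ cls (centralizer ({M₁.e nn} : Set G)) (M₁.e aa),
      (∃ w ∈ Fam (M₁.e nn) (WW V₁ V₂ (M₁.e nn)) (M₁.e aa), w * d ≠ d * w) →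
      ∃ y ∈ centralizer ({M₁.e nn} : Set G), y * M₁.e aa = M₁.e aa * y ∧ d = y * M₁.e bb * y⁻¹)
    {w : G} (hw : w ∈ WW V₁ V₂ (M₁.e nn)) : w ∈ Q (M₁.e aa) ↔ w ∈ centralizer (V₁ : Set G) := by
  obtain ⟨x, -, -, h1, h2, -, h3, h4⟩ := exists_x b
  have e : x⁻¹ * (x * w * x⁻¹) * x = w := by group
  have h5 : x * w * x⁻¹ ∈ WW V₁ V₂ (M₁.e aa) := by
    rw [← conj_WWa b h1 h3 h4, e]
    exact hw
  have h6 := a_mem_Q_iff b hV hE hi h5
  rw [← cent_conj_iff h3, e, ← h2, ← mem_Q_conj, e] at h6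
  exact h6

theorem n_ind {w : G} (hw : w ∈ WW V₁ V₂ (M₁.e nn)) (h1 : w ∉ centralizer (V₁ : Set G)) :
    M₁.Ind w (Equiv.swap 0 1) := by
  obtain ⟨p, hp, hi⟩ := b.Q_ind₁ (b.WW_le_Q hw)
  rcases hp with rfl | rfl
  · exact absurd (FiveMod.ind_one_iff.1 hi) h1
  · exact hi

/-- the data of `ChiConst` -/
theorem chi (hV : V₁ ≤ Q (M₁.e ss)) (hE : WW V₁ V₁ (M₁.e ss) ≤ Q (M₁.e nn))
    (hU : UU (M₁.e nn) (M₁.e aa) ≤ Q (M₁.e aa))
    (hi : ∀ d ∈ cls (centralizer ({M₁.e nn} : Set G)) (M₁.e aa),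
      (∃ w ∈ Fam (M₁.e nn) (WW V₁ V₂ (M₁.e nn)) (M₁.e aa), w * d ≠ d * w) →
      ∃ y ∈ centralizer ({M₁.e nn} : Set G), y * M₁.e aa = M₁.e aa * y ∧ d = y * M₁.e bb * y⁻¹) :
    Cfsg.Agent.Omega.S5.ChiConst.Dat (M₁.e nn) (M₁.e aa) (M₁.e bb) (centralizer ({M₁.e nn} : Set G))
      (UU (M₁.e nn) (M₁.e aa)) (WW V₁ V₂ (M₁.e nn)) (Fam (M₁.e nn) (WW V₁ V₂ (M₁.e nn))) Q where
  nN g hg := mem_C.1 hg
  UN g hg u hu := UU_norm (mem_C.1 hg) hu
  Ucomm u hu v hv := b.UU_comm hu hv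
  Usq u hu := b.UU_sq hu
  nU := self_mem_UU _ _
  aU := mem_UU_self _ _
  WN g hg y hy := WW_norm (mem_C.1 hg) hy
  WfN w hw := mem_C.2 (WWa_comm_n b ((mem_F_a' b).1 hw))
  Wf_eqv g hg c hc w hw := Fam_conj g hw
  O_eqv g hg c hc y hy := by
    rw [← mem_Q_conj]
    have e : g⁻¹ * (g * y * g⁻¹) * g = y := by group
    rwa [e]
  act w hw u hu := (calcN b hU).act _ ⟨1, one_mem _, by group⟩ w hw u hu
  sym := (calcN b hU).sym
  idx y hy y' hy' h1 h2 := by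
    rw [n_mem_Q_iff b hV hE hi hy] at h1
    rw [n_mem_Q_iff b hV hE hi hy'] at h2
    rw [n_mem_Q_iff b hV hE hi (mul_mem hy hy')]
    have h3 := (n_ind b hy h1).mul (n_ind b hy' h2)
    rw [Equiv.swap_mul_self] at h3
    exact FiveMod.ind_one_iff.1 h3
  out := by
    obtain ⟨k, hk, hki⟩ := b.exists_move₁
    refine ⟨k, hk, ?_⟩
    rw [n_mem_Q_iff b hV hE hi hk]
    intro h0
    exact absurd (FiveMod.Ind.unique (FiveMod.ind_one_iff.2 h0) hki) (by decide)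
  hyp y hy hyO w hw := by
    rw [mem_F_a' b] at hw
    have h1 := b.WWa_comm hw hyO
    have h2 : y * M₁.e aa = M₁.e aa * y := mem_C.1 (o2_le _ hyO)
    rcases h1 with h1 | h1
    · exact Or.inl (mul_inv_eq_one.1 h1)
    · right
      rw [h2]
      exact mul_inv_eq_iff_eq_mul.1 h1
  aW := le_WW₁ V₁ V₂ _ (M₁.e_mem _)
  aO := by
    rintro _ ⟨g, hg, rfl⟩
    rw [← mem_Q_conj]
    refine hU ?_
    have hg' : g⁻¹ * M₁.e nn = M₁.e nn * g⁻¹ := mem_C.1 (inv_mem hg)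
    have := UU_norm hg' (mem_UU_self (M₁.e nn) (M₁.e aa))
    rwa [inv_inv] at this
  bA := by
    obtain ⟨g, hg, -, h1⟩ := bb_mem b
    exact ⟨g, hg, h1⟩
  bO y hy := by
    obtain ⟨g, hg, hgV, h1⟩ := bb_mem b
    have hg' : g⁻¹ * M₁.e nn = M₁.e nn * g⁻¹ := mem_C.1 (inv_mem hg)
    have h2 : g⁻¹ * y * g ∈ WW V₁ V₂ (M₁.e nn) := by
      have := WW_norm hg' hy
      rwa [inv_inv] at this
    rw [h1, ← mem_Q_conj, n_mem_Q_iff b hV hE hi h2, cent_conj_iff hgV, n_mem_Q_iff b hV hE hi hy]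
  abO y hy := by
    obtain ⟨g, hg, hgV, h1⟩ := cc_mem b
    have hg' : g⁻¹ * M₁.e nn = M₁.e nn * g⁻¹ := mem_C.1 (inv_mem hg)
    have h2 : g⁻¹ * y * g ∈ WW V₁ V₂ (M₁.e nn) := by
      have := WW_norm hg' hy
      rwa [inv_inv] at this
    rw [ab b, h1, ← mem_Q_conj, n_mem_Q_iff b hV hE hi h2, cent_conj_iff hgV, n_mem_Q_iff b hV hE hi hy]
  mov := by
    obtain ⟨k, hk, hki⟩ := b.exists_move_a₁
    refine ⟨k, (mem_F_a' b).2 hk, ?_⟩
    rw [Ne, hki.commute_iff]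
    decide
  eight := eight b hV hE hi

/-- (B0)(iv): `E ≤ Q_n` if `E` centralises `a ^ C(n)` -/
theorem E_le_Qn (hV : V₁ ≤ Q (M₁.e ss)) (hK : ∀ k ∈ WW V₁ V₁ (M₁.e ss),
    ∀ c ∈ cls (centralizer ({M₁.e nn} : Set G)) (M₁.e aa), k * c = c * k) :
    WW V₁ V₁ (M₁.e ss) ≤ Q (M₁.e nn) := by
  have h1 : WW V₁ V₁ (M₁.e ss) ≤ centralizer (UU (M₁.e nn) (M₁.e aa) : Set G) := by
    intro k hk
    rw [mem_centralizer_iff]
    have h2 : UU (M₁.e nn) (M₁.e aa) ≤ centralizer ({k} : Set G) :=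
      UU_le (mem_C.2 (E_comm b.dih₁ hV (le_WW₁ V₁ V₁ _ (M₁.e_mem _)) hk))
        fun g hg => mem_C.2 (hK k hk _ ⟨g, mem_C.2 hg, rfl⟩).symm
    exact fun u hu => mem_C.1 (h2 hu)
  have h2 : WW V₁ V₁ (M₁.e ss) ≤ o2 (centralizer (UU (M₁.e nn) (M₁.e aa) : Set G)) := by
    refine le_o2 h1 (E_isPGroup b.dih₁ hV) ?_
    intro x hx
    have hx' := mem_inf.1 (b.centralizer_UU_le hx)
    have hxs := comm_s_of b (mem_C.1 hx'.1) (mem_C.1 hx'.2)
    refine mem_normalizer_of_cj_le ?_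
    rintro _ ⟨w, hw, rfl⟩
    exact WW_norm hxs hw
  refine h2.trans (le_o2 ((o2_le _).trans (b.centralizer_UU_le.trans inf_le_left)) (o2_isPGroup _) ?_)
  exact b.normalizer_centralizer_UU.trans (normalizer_le_normalizer_o2' _)

/-! ### Connectivity -/

theorem bb_conj {x : G} (hx : M₁.Ind x tt) : x * M₁.e bb * x⁻¹ = M₁.e ![1, 0, 0, 0, 1] := by
  rw [hx bb]
  congr 1
  decide

/-- the data of `Z.Conn` -/
theorem con {V0 : Subgroup G} (hV0S : ∀ v ∈ V0, ∀ g ∈ (S : Subgroup G), g * v = v * g)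
    (hV0L : ∀ v ∈ V0, ∀ g ∈ L₁, g * v = v * g)
    (hfix : ∀ u ∈ UU (M₁.e nn) (M₁.e aa), (∀ t ∈ (S : Subgroup G) ⊓ centralizer ({M₁.e nn} : Set G),
      t * u = u * t) → ∃ v ∈ V0, u = v ∨ u = v * M₁.e nn ∨ u = v * M₁.e aa ∨ u = v * M₁.e ss)
    (heq : ∀ c ∈ cls (centralizer ({M₁.e nn} : Set G)) (M₁.e aa),
      (∀ t ∈ (S : Subgroup G) ⊓ centralizer ({M₁.e nn} : Set G), t * c = c * t) → c = M₁.e aa)
    (hU : UU (M₁.e nn) (M₁.e aa) ≤ Q (M₁.e aa)) {x : G} (hxS : x ∈ (S : Subgroup G)) (hx : M₁.Ind x tt) :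
    Conn.Con (M₁.e nn) (M₁.e aa) (M₁.e bb) x (UU (M₁.e nn) (M₁.e aa))
      ((S : Subgroup G) ⊓ centralizer ({M₁.e nn} : Set G)) V0 (Fam (M₁.e nn) (WW V₁ V₂ (M₁.e nn))) where
  cal := calcN b hU
  eqv g c w hw := Fam_conj g hw
  xn := Dih.tt_n hx
  xa := Dih.tt_a hx
  nU := self_mem_UU _ _
  hT := S.isPGroup'.to_le inf_le_left
  hTN t ht := mem_C.1 ht.2
  hTa t ht := b.dih₁.T_comm_a ht
  heq := heq
  fix u hu hT := by
    obtain ⟨v, hv, h1⟩ := hfix u hu hT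
    refine ⟨v, hv, ?_⟩
    rwa [na]
  V0x v hv := hV0S v hv x hxS
  V0b v hv w hw := by
    obtain ⟨g, hgL, hg⟩ := M₁.exists_lift (Equiv.swap 3 4)
    have hg : M₁.Ind g (Equiv.swap 3 4) := hg
    have h1 : M₁.e bb = g * M₁.e aa * g⁻¹ := by
      rw [hg aa]
      congr 1
      decide
    rw [h1, mem_F_a b] at hw
    have h2 := hV0S v hv _ (b.Qa_le_T (b.WWa_le_Qa hw)).1
    have h3 := hV0L v hv g hgL
    have e : g⁻¹ * v * g = v := by
      calc g⁻¹ * v * g = g⁻¹ * (v * g) := by group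
        _ = g⁻¹ * (g * v) := by rw [h3]
        _ = v := by group
    calc w * v = g * (g⁻¹ * w * g * (g⁻¹ * v * g)) * g⁻¹ := by group
      _ = g * (v * (g⁻¹ * w * g)) * g⁻¹ := by rw [e, h2]
      _ = (g * v) * (g⁻¹ * w) := by group
      _ = (v * g) * (g⁻¹ * w) := by rw [h3]
      _ = v * w := by group
  bA := by
    obtain ⟨g, hg, -, h1⟩ := bb_mem b
    exact ⟨g, hg, h1⟩
  ab := by
    obtain ⟨k, hk, hki⟩ := b.exists_move_a₁
    refine ⟨k, (mem_F_a' b).2 hk, ?_⟩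
    rw [Ne, hki.commute_iff]
    decide
  bb := by
    obtain ⟨g, -, hg⟩ := M₁.exists_lift (Equiv.swap 1 4)
    have hg : M₁.Ind g (Equiv.swap 1 4) := hg
    obtain ⟨k, hk, hki⟩ := b.exists_move₁
    have h1 : x * M₁.e bb * x⁻¹ = g * M₁.e nn * g⁻¹ := by
      rw [bb_conj b hx, hg nn]
      congr 1
      decide
    refine ⟨g * k * g⁻¹, ?_, ?_⟩
    · rw [h1, mem_F_n b]
      have e : g⁻¹ * (g * k * g⁻¹) * g = k := by group
      rwa [e]
    · have h2 := (hg.mul hki).mul hg.inv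
      rw [Ne, h2.commute_iff]
      decide
  kk := by
    obtain ⟨g, -, hg⟩ := M₁.exists_lift (Equiv.swap 3 4)
    have hg : M₁.Ind g (Equiv.swap 3 4) := hg
    have h1 : M₁.e bb = g * M₁.e aa * g⁻¹ := by
      rw [hg aa]
      congr 1
      decide
    obtain ⟨k, hk, hki⟩ := b.exists_move_a₁
    have h2 : g * k * g⁻¹ ∈ Fam (M₁.e nn) (WW V₁ V₂ (M₁.e nn)) (M₁.e bb) := by
      rw [h1, mem_F_a b]
      have e : g⁻¹ * (g * k * g⁻¹) * g = k := by group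
      rwa [e]
    refine ⟨k * (g * k * g⁻¹), mul_mem (mem_sup_left ((mem_F_a' b).2 hk)) (mem_sup_right h2), ?_⟩
    have h3 := hki.mul ((hg.mul hki).mul hg.inv)
    rw [h3 aa]
    congr 1
    decide

omit b [Finite G] in
theorem conn_of {n a b x : G} {U T V0 : Subgroup G} {Wf : G → Subgroup G} [Finite G]
    (h : Conn.Con n a b x U T V0 Wf) : BZero.Conn (centralizer ({n} : Set G)) a Wf := by
  intro R hR hadj c hc
  have h1 := h.conn hc
  refine hR.symm _ BZero.a_cls _ hc ?_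
  clear hc
  induction h1 with
  | refl => exact hR.refl _ BZero.a_cls
  | @tail d e h1 h2 ih =>
    obtain ⟨hd, he, hw⟩ := h2
    rw [Conn.AA_n] at hd he
    exact hR.trans _ BZero.a_cls _ hd _ he ih (hadj _ hd _ he hw)

/-- **THEOREM B1 for arbitrary `V₀`** from connectivity -/
theorem false_of_conn (hV : V₁ ≤ Q (M₁.e ss)) (hU : UU (M₁.e nn) (M₁.e aa) ≤ Q (M₁.e aa))
    (hC : BZero.Conn (centralizer ({M₁.e nn} : Set G)) (M₁.e aa) (Fam (M₁.e nn) (WW V₁ V₂ (M₁.e nn)))) :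
    False := by
  have hcal := calcN b hU
  have hbA : M₁.e bb ∈ cls (centralizer ({M₁.e nn} : Set G)) (M₁.e aa) := by
    obtain ⟨g, hg, -, h1⟩ := bb_mem b
    exact ⟨g, hg, h1⟩
  have hmov : BZero.Adj (Fam (M₁.e nn) (WW V₁ V₂ (M₁.e nn))) (M₁.e aa) (M₁.e bb) := by
    obtain ⟨k, hk, hki⟩ := b.exists_move_a₁
    refine ⟨k, (mem_F_a' b).2 hk, ?_⟩
    rw [Ne, hki.commute_iff]
    decide
  have hi : ∀ d ∈ cls (centralizer ({M₁.e nn} : Set G)) (M₁.e aa),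
      (∃ w ∈ Fam (M₁.e nn) (WW V₁ V₂ (M₁.e nn)) (M₁.e aa), w * d ≠ d * w) →
      ∃ y ∈ centralizer ({M₁.e nn} : Set G), y * M₁.e aa = M₁.e aa * y ∧ d = y * M₁.e bb * y⁻¹ :=
    fun d hd had => BZero.conj_b hcal hbA hmov hd had
  have hVE := le_WW₁ V₁ V₁ (M₁.e ss)
  have hE : WW V₁ V₁ (M₁.e ss) ≤ Q (M₁.e nn) := by
    refine E_le_Qn b hV (BZero.comm_all hcal hC hbA hmov ?_ ?_ ?_)
    · intro y hy hya k hk
      exact WW_norm (comm_s_of b (mem_C.1 hy) hya) hk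
    · exact fun k hk => E_comm b.dih₁ hV hk (hVE (M₁.e_mem _))
    · exact fun k hk => E_comm b.dih₁ hV hk (hVE (M₁.e_mem _))
  have hchi := chi b hV hE hU hi
  have hc : ∀ c ∈ cls (centralizer ({M₁.e nn} : Set G)) (M₁.e aa),
      Cfsg.Agent.Omega.S5.ChiConst.Dat.Same (WW V₁ V₂ (M₁.e nn)) Q c (M₁.e aa) := by
    refine hC _ ⟨fun _ _ _ _ => Iff.rfl, fun _ _ _ _ h1 y hy => (h1 y hy).symm,
      fun _ _ _ _ _ _ h1 h2 y hy => (h1 y hy).trans (h2 y hy),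
      fun g hg c hc d hd h1 => hchi.same_conj hc hd hg h1⟩ ?_
    intro c hc d hd hw
    obtain ⟨w, hw, hwd⟩ := hw
    exact fun y hy => (hchi.same_of_move' hc hd hw hwd y hy).symm
  obtain ⟨v, hv, hvi⟩ := b.ex
  have hhn : h ∈ centralizer ({M₁.e nn} : Set G) := mem_C.2 b.hn
  have hvW : v ∈ WW V₁ V₂ (M₁.e nn) := by
    rw [mem_cj] at hv
    have h1 := mem_WW₂ (V₁ := V₁) (V₂ := V₂) b.hn hv
    have h2 : h * (h⁻¹ * v * h) * h⁻¹ = v := by group
    rwa [h2] at h1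
  have h1 := hc (h * M₁.e aa * h⁻¹) ⟨h, hhn, rfl⟩ v hvW
  rw [← mem_Q_conj, n_mem_Q_iff b hV hE hi hvW] at h1
  rw [mem_cj] at hv
  have h2 := h1.1 (b.WWa_le_Qa (le_WW₂ V₁ V₂ _ hv))
  exact absurd (FiveMod.Ind.unique (FiveMod.ind_one_iff.2 h2) hvi) (by decide)

/-- **THEOREM B1 for arbitrary `V₀`** (#15257 (5)) -/
theorem false_of {V0 : Subgroup G} (hV0S : ∀ v ∈ V0, ∀ g ∈ (S : Subgroup G), g * v = v * g)
    (hV0L : ∀ v ∈ V0, ∀ g ∈ L₁, g * v = v * g)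
    (hfix : ∀ u ∈ UU (M₁.e nn) (M₁.e aa), (∀ t ∈ (S : Subgroup G) ⊓ centralizer ({M₁.e nn} : Set G),
      t * u = u * t) → ∃ v ∈ V0, u = v ∨ u = v * M₁.e nn ∨ u = v * M₁.e aa ∨ u = v * M₁.e ss)
    (heq : ∀ c ∈ cls (centralizer ({M₁.e nn} : Set G)) (M₁.e aa),
      (∀ t ∈ (S : Subgroup G) ⊓ centralizer ({M₁.e nn} : Set G), t * c = c * t) → c = M₁.e aa)
    (hV : V₁ ≤ Q (M₁.e ss)) (hU : UU (M₁.e nn) (M₁.e aa) ≤ Q (M₁.e aa)) : False := by
  obtain ⟨x, hxS, hx, -⟩ := exists_x b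
  exact false_of_conn b hV hU (conn_of (con b hV0S hV0L hfix heq hU hxS hx))

end main

end Cfsg.Agent.Omega.TTn.Z.BOne

end

section


/-!
# T-T, `n` not 2-central: from two modules to one

`Base.to_one₂ : Base S M₁ M₂ h → ∃ k, Base S M₂ M₂ k` and `Base.to_one₁ : Base S M₁ M₂ h → ∃ k, Base S M₁ M₁ k`
(LEMMA TWO, `TwoTypes.Duo.not_comm`, `Duo.exists_one`).
-/

set_option autoImplicit false

namespace Cfsg.Agent.Omega.TTn

open Subgroup Cfsg Cfsg.Agent.ZN Cfsg.Agent.ZN.ChoiceBase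
open Cfsg.Agent.Omega.S5.Mod Cfsg.Agent.Omega.S5.TT
open Cfsg.Agent.Omega.S5.TT.Pos (mem_C)
open Cfsg.Agent.MinSimple.VModule (o2_isPGroup o2_le)

universe u

variable {G : Type u} [Group G]

namespace Base

variable {S : Sylow 2 G} {V₁ V₂ L₁ L₂ : Subgroup G} {M₁ : FiveMod V₁ L₁} {M₂ : FiveMod V₂ L₂} {h : G}

/-- `O₂(C_G(V₂)) ≤ C_S(n)`. -/
theorem R_le (b : Base S M₁ M₂ h) {r : G} (hr : r ∈ o2 (centralizer (V₂ : Set G))) :
    r ∈ (S : Subgroup G) ⊓ centralizer ({M₁.e nn} : Set G) := by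
  refine mem_inf.2 ⟨?_, ?_⟩
  · have hn : (S : Subgroup G) ≤ normalizer (o2 (centralizer (V₂ : Set G)) : Set G) := by
      intro g hg
      rw [mem_normalizer_iff]
      intro y
      constructor
      · exact fun hy => TwoTypes.conj_R (b.dih₂.S_norm hg) hy
      · intro hy
        have h1 := TwoTypes.conj_R (inv_mem (b.dih₂.S_norm hg)) hy
        have h2 : g⁻¹ * (g * y * g⁻¹) * g⁻¹⁻¹ = y := by group
        rwa [h2] at h1
    have h1 : IsPGroup 2 ((S : Subgroup G) ⊔ o2 (centralizer (V₂ : Set G)) : Subgroup G) :=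
      IsPGroup.to_sup_of_normal_right' S.isPGroup' (o2_isPGroup _) hn
    have h2 := S.is_maximal' h1 le_sup_left
    rw [← h2]
    exact (le_sup_right : o2 (centralizer (V₂ : Set G)) ≤ _) hr
  · rw [mem_C, b.en]
    exact (mem_centralizer_iff.1 (o2_le _ hr) _ (M₂.e_mem _)).symm

theorem duo [Finite G] (b : Base S M₁ M₂ h) : ∃ x, TwoTypes.Duo M₁ M₂ x h := by
  obtain ⟨x, hxS, hx⟩ := b.dih₁.exists_swap
  refine ⟨x, b.en.symm, b.ea.symm, ?_, ?_, b.V₁_le_Q, b.V₂_le_Q, ?_, Dih.tt_n hx, b.dih₁.S_norm hxS,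
    b.dih₂.S_norm hxS, b.hn, ?_, ?_⟩
  · intro q hq
    obtain ⟨p, hp | hp, hi⟩ := b.Q_ind₁ hq
    · left; rwa [hp] at hi
    · right; rwa [hp] at hi
  · intro q hq
    obtain ⟨p, hp | hp, hi⟩ := b.Q_ind₂ hq
    · left; rwa [hp] at hi
    · right; rwa [hp] at hi
  · intro r hr
    exact b.dih₁.T_ind (b.R_le hr)
  · obtain ⟨w, ⟨v, hv, rfl⟩, hi⟩ := b.ex
    exact ⟨v, hv, hi⟩
  · obtain ⟨w, ⟨v, hv, rfl⟩, hi⟩ := b.symm.ex
    refine ⟨v, hv, ?_⟩
    change M₂.Ind (h⁻¹ * v * h⁻¹⁻¹) _ at hi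
    rwa [inv_inv] at hi

/-- LEMMA TWO: the configuration `Base` for the second module alone. -/
theorem to_one₂ [Finite G] (b : Base S M₁ M₂ h) : ∃ k, Base S M₂ M₂ k := by
  obtain ⟨x, t⟩ := b.duo
  obtain ⟨k, hk, h1, h2, h3, -⟩ := t.exists_one
  refine ⟨k, b.two, b.dih₂, b.dih₂, rfl, rfl, hk, ?_, ?_, h2, ?_⟩
  · intro v hv
    rcases h1 v hv with h4 | h4
    · exact ⟨_, Or.inl rfl, h4⟩
    · exact ⟨_, Or.inr rfl, h4⟩
  · intro v hv
    rcases h3 v hv with h4 | h4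
    · exact ⟨_, Or.inl rfl, h4⟩
    · exact ⟨_, Or.inr rfl, h4⟩
  · rw [← b.en]; exact b.nc

/-- LEMMA TWO: the configuration `Base` for the first module alone. -/
theorem to_one₁ [Finite G] (b : Base S M₁ M₂ h) : ∃ k, Base S M₁ M₁ k := b.symm.to_one₂

end Base

end Cfsg.Agent.Omega.TTn

end

section


/-!
# T-T, `n` not 2-central: the assembly of `S5.Main.TTNon`

Inputs (for ONE module, `Base S M M h`):

* `DiProp` : `U_n ≤ O₂(C_G(a))` (helper439, #14261);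
* `BetaProp` : `V ≤ O₂(C_G(s))` and `U_n ≤ O₂(C_G(a))` is impossible (helper429, #13318, #13720).
-/

set_option autoImplicit false

namespace Cfsg.Agent.Omega.TTn

open Subgroup Cfsg Cfsg.Agent.ZN Cfsg.Agent.ZN.ChoiceBase
open Cfsg.Agent.Omega.S5.Mod Cfsg.Agent.Omega.S5.TT

universe u

/-- **D(i) is impossible**: `U_n ≤ O₂(C_G(a))`. -/
def DiProp : Prop :=
  ∀ (G : Type u) [Group G] [Finite G] (S : Sylow 2 G) (V L : Subgroup G) (M : FiveMod V L) (h : G),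
    Base S M M h → UU (M.e nn) (M.e aa) ≤ Q (M.e aa)

/-- **Case beta is impossible**, given `U_n ≤ O₂(C_G(a))`. -/
def BetaProp : Prop :=
  ∀ (G : Type u) [Group G] [Finite G] (S : Sylow 2 G) (V L : Subgroup G) (M : FiveMod V L) (h : G),
    Base S M M h → V ≤ Q (M.e ss) → UU (M.e nn) (M.e aa) ≤ Q (M.e aa) → False

theorem ttNon (h1 : DiProp.{u}) (h2 : BetaProp.{u}) : Cfsg.Agent.Omega.S5.Main.TTNon.{u} := by
  intro G _ _ hG S _ hI P₁ P₂ y ε ε₂ hl t1 t2 hC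
  obtain ⟨g, k, M₁, M₂, -, b⟩ := exists_base hG.char2 hl t1 t2 hC
  obtain ⟨k', b'⟩ := b.to_one₁
  exact h2 G S _ _ M₁ k' b' (b.dih₁.le_Qs (hI P₁ hl.pair.star₁)) (h1 G S _ _ M₁ k' b')

end Cfsg.Agent.Omega.TTn

end

section


/-!
# #14261: `[U_n, U_a] = 1` and `U_n ≤ O₂(C_G(a))` (`DiProp`)
-/

set_option autoImplicit false

namespace Cfsg.Agent.Omega.TTn.Di

open Subgroup Cfsg Cfsg.Agent.ZN
open Cfsg.Agent.Omega.S5.Mod Cfsg.Agent.Omega.S5.TT
open Cfsg.Agent.Omega.S5.TT.Pos (sn ns mem_C)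

universe u

variable {G : Type u} [Group G] {S : Sylow 2 G} {V L : Subgroup G} {M : FiveMod V L} {h : G}

/-- `U i j` is generated by `s i s j` and the `C_G(s i s j)`-conjugates of `s m`. -/
theorem UP_gen [Finite G] (b : Base S M M h) {i j k l m : Fin 5} (h5 : D5 i j k l m) :
    UP M i j ≤ closure {x | x = sv M i * sv M j ∨
      ∃ g, g * (sv M i * sv M j) = sv M i * sv M j * g ∧ x = cj g (sv M m)} := by
  obtain ⟨p, rfl, rfl, rfl, rfl, rfl⟩ := exists_perm5 h5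
  obtain ⟨l, -, hl⟩ := M.exists_lift p
  have hl : M.Ind l p := hl
  set H := closure {x | x = sv M (p 0) * sv M (p 1) ∨
    ∃ g, g * (sv M (p 0) * sv M (p 1)) = sv M (p 0) * sv M (p 1) * g ∧ x = cj g (sv M (p 4))} with hH
  have key : UU (M.e nn) (M.e aa) ≤ ZN.ChoiceBase.cj l⁻¹ H := by
    have hnH : sv M (p 0) * sv M (p 1) ∈ H := subset_closure (Or.inl rfl)
    refine UU_le ?_ fun g hg => ?_
    · rw [ZN.ChoiceBase.mem_cj, inv_inv, ← sv01, svsv_conj hl]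
      exact hnH
    · rw [ZN.ChoiceBase.mem_cj, inv_inv]
      have hg' : g * (sv M 0 * sv M 1) = sv M 0 * sv M 1 * g := by rw [sv01]; exact hg
      have h1 : l * (g * M.e aa * g⁻¹) * l⁻¹ =
          sv M (p 0) * sv M (p 1) * cj (l * g * l⁻¹) (sv M (p 4)) := by
        rw [← ns M, ← sv4, ← svsv_conj hl, ← sv_conj hl, ← sv01]
        unfold cj
        calc l * (g * (sv M 0 * sv M 1 * sv M 4) * g⁻¹) * l⁻¹ =
            l * ((g * (sv M 0 * sv M 1)) * sv M 4 * g⁻¹) * l⁻¹ := by group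
          _ = l * ((sv M 0 * sv M 1 * g) * sv M 4 * g⁻¹) * l⁻¹ := by rw [hg']
          _ = _ := by group
      rw [h1]
      refine H.mul_mem hnH (subset_closure (Or.inr ⟨_, ?_, rfl⟩))
      rw [← svsv_conj hl]
      calc l * g * l⁻¹ * (l * (sv M 0 * sv M 1) * l⁻¹) = l * (g * (sv M 0 * sv M 1)) * l⁻¹ := by group
        _ = l * (sv M 0 * sv M 1 * g) * l⁻¹ := by rw [hg']
        _ = _ := by group
  intro u hu
  have h1 := key (UP_zero b hl hu)
  rw [ZN.ChoiceBase.mem_cj, inv_inv] at h1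
  have h2 : l * (l⁻¹ * u * l) * l⁻¹ = u := by group
  rwa [h2] at h1

theorem cj_ne (b : Base S M M h) {i j k l m : Fin 5} (h5 : D5 i j k l m) (g : G) :
    cj g (sv M m) ≠ sv M k * sv M l := by
  obtain ⟨p, rfl, rfl, rfl, rfl, rfl⟩ := exists_perm5 h5
  obtain ⟨l, -, hl⟩ := M.exists_lift p
  have hl : M.Ind l p := hl
  rw [← svsv_conj hl, ← sv_conj hl, sv4, sv23]
  intro h0
  refine b.conj_a_ne_s (l⁻¹ * g⁻¹ * l) ?_
  unfold cj at h0
  calc l⁻¹ * g⁻¹ * l * M.e aa * (l⁻¹ * g⁻¹ * l)⁻¹ = l⁻¹ * g⁻¹ * (l * M.e aa * l⁻¹) * g * l := by group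
    _ = l⁻¹ * g⁻¹ * (g * (l * M.e ss * l⁻¹) * g⁻¹) * g * l := by rw [h0]
    _ = M.e ss := by group

/-- The frame `FrN` from `Base`. -/
theorem frN_of [Finite G] (b : Base S M M h) :
    ∃ w, FrN (sv M) (UP M) (WP M) (QP M) w (centralizer (V : Set G)) := by
  obtain ⟨w, hw, F⟩ := fr_of_ind b (cwStd b) (coreStd b) (faithStd b)
  refine ⟨w, { F with
    NU := fun _ g hg u hu => UP_norm hg hu
    gen := fun h5 => UP_gen b h5
    nc := fun h5 g => cj_ne b h5 g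
    wcj := ?_
    wcj' := ?_ }⟩
  · intro i j hij
    have h1 := sv_conj (hw i j hij) i
    rwa [Equiv.swap_apply_left] at h1
  · intro i j k hij hki hkj
    have h1 := sv_conj (hw i j hij) k
    rwa [Equiv.swap_apply_of_ne_of_ne hki hkj] at h1

/-- `[U_n, U_a] = 1` -/
theorem UU_comm_UUa [Finite G] (b : Base S M M h) {y z : G} (hy : y ∈ UU (M.e nn) (M.e aa))
    (hz : z ∈ UU (M.e aa) (M.e nn)) : y * z = z * y := by
  obtain ⟨w, F⟩ := frN_of b
  have h5 : D5 (0 : Fin 5) 1 2 3 4 := by constructor <;> decide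
  refine F.comm_of (fun H => H.kill) h5 y ?_ z ?_
  · rw [UP_zero_one b]; exact hy
  · exact UP_two_three_le b hz

end Cfsg.Agent.Omega.TTn.Di

namespace Cfsg.Agent.Omega.TTn

open Subgroup Cfsg Cfsg.Agent.ZN
open Cfsg.Agent.Omega.S5.Mod Cfsg.Agent.Omega.S5.TT

universe u

/-- **#14261 (helper439)**: `U_n ≤ O₂(C_G(a))`. -/
theorem diProp : DiProp.{u} := by
  intro G _ _ S V L M h b
  obtain ⟨h', b'⟩ := b.exists_flip
  have h1 := b'.WWa_inf_centralizer_le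
  rw [Base.rel_nn, Base.rel_aa] at h1
  refine le_trans ?_ h1
  refine le_inf b.UU_le_WW fun y hy => mem_centralizer_iff.2 fun z hz => ?_
  exact (Di.UU_comm_UUa b hy hz).symm

end Cfsg.Agent.Omega.TTn

end

section


/-!
# #14261 (helper439) and LEMMA TWO (helper107) over `Z.Base` (#15257 (6))

The files `Omega/TTn/{DiCore,DiCw,DiInst,DiCoreStd,DiStd,DiLast,ToOne}.lean` of helper439, 375, 107 without the hypothesis
`zc S ≤ V`; instead: the intersection of the ten groups `U_π` is trivial.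
-/

set_option autoImplicit false
set_option linter.unusedSectionVars false

namespace Cfsg.Agent.Omega.TTn.Z

open Subgroup Cfsg Cfsg.Agent.ZN Cfsg.Agent.ZN.ChoiceBase
open Cfsg.Agent.Omega.S5.Mod Cfsg.Agent.Omega.S5.TT
open Cfsg.Agent.Omega.S5.TT.Pos (na ns as sn n_ne s_ne a_ne n_ne_a n_ne_s a_ne_s e_sq' mem_C)
open Cfsg.Agent.MinSimple.VModule (o2_isPGroup le_o2 o2_le le_normalizer_o2)

universe u

variable {G : Type u} [Group G]

namespace Base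

variable {S : Sylow 2 G} {V₁ V₂ L₁ L₂ : Subgroup G} {M₁ : FiveMod V₁ L₁} {M₂ : FiveMod V₂ L₂} {h : G}

/-- `O₂(C_G(V₂)) ≤ C_S(n)`. -/
theorem R_le (b : Base S M₁ M₂ h) {r : G} (hr : r ∈ o2 (centralizer (V₂ : Set G))) :
    r ∈ (S : Subgroup G) ⊓ centralizer ({M₁.e nn} : Set G) := by
  refine mem_inf.2 ⟨?_, ?_⟩
  · have hn : (S : Subgroup G) ≤ normalizer (o2 (centralizer (V₂ : Set G)) : Set G) := by
      intro g hg
      rw [mem_normalizer_iff]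
      intro y
      constructor
      · exact fun hy => TwoTypes.conj_R (b.dih₂.S_norm hg) hy
      · intro hy
        have h1 := TwoTypes.conj_R (inv_mem (b.dih₂.S_norm hg)) hy
        have h2 : g⁻¹ * (g * y * g⁻¹) * g⁻¹⁻¹ = y := by group
        rwa [h2] at h1
    have h1 : IsPGroup 2 ((S : Subgroup G) ⊔ o2 (centralizer (V₂ : Set G)) : Subgroup G) :=
      IsPGroup.to_sup_of_normal_right' S.isPGroup' (o2_isPGroup _) hn
    have h2 := S.is_maximal' h1 le_sup_left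
    rw [← h2]
    exact (le_sup_right : o2 (centralizer (V₂ : Set G)) ≤ _) hr
  · rw [mem_C, b.en]
    exact (mem_centralizer_iff.1 (o2_le _ hr) _ (M₂.e_mem _)).symm

theorem duo [Finite G] (b : Base S M₁ M₂ h) : ∃ x, TwoTypes.Duo M₁ M₂ x h := by
  obtain ⟨x, hxS, hx⟩ := b.dih₁.exists_swap
  refine ⟨x, b.en.symm, b.ea.symm, ?_, ?_, b.V₁_le_Q, b.V₂_le_Q, ?_, Dih.tt_n hx, b.dih₁.S_norm hxS,
    b.dih₂.S_norm hxS, b.hn, ?_, ?_⟩
  · intro q hq
    obtain ⟨p, hp | hp, hi⟩ := b.Q_ind₁ hq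
    · left; rwa [hp] at hi
    · right; rwa [hp] at hi
  · intro q hq
    obtain ⟨p, hp | hp, hi⟩ := b.Q_ind₂ hq
    · left; rwa [hp] at hi
    · right; rwa [hp] at hi
  · intro r hr
    exact b.dih₁.T_ind (b.R_le hr)
  · obtain ⟨w, ⟨v, hv, rfl⟩, hi⟩ := b.ex
    exact ⟨v, hv, hi⟩
  · obtain ⟨w, ⟨v, hv, rfl⟩, hi⟩ := b.symm.ex
    refine ⟨v, hv, ?_⟩
    change M₂.Ind (h⁻¹ * v * h⁻¹⁻¹) _ at hi
    rwa [inv_inv] at hi

/-- LEMMA TWO: the configuration `Base` for the second module alone. -/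
theorem to_one₂ [Finite G] (b : Base S M₁ M₂ h) : ∃ k, Base S M₂ M₂ k := by
  obtain ⟨x, t⟩ := b.duo
  obtain ⟨k, hk, h1, h2, h3, -⟩ := t.exists_one
  refine ⟨k, b.two, b.dih₂, b.dih₂, rfl, rfl, hk, ?_, ?_, h2, ?_⟩
  · intro v hv
    rcases h1 v hv with h4 | h4
    · exact ⟨_, Or.inl rfl, h4⟩
    · exact ⟨_, Or.inr rfl, h4⟩
  · intro v hv
    rcases h3 v hv with h4 | h4
    · exact ⟨_, Or.inl rfl, h4⟩
    · exact ⟨_, Or.inr rfl, h4⟩
  · rw [← b.en]; exact b.nc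

/-- LEMMA TWO: the configuration `Base` for the first module alone. -/
theorem to_one₁ [Finite G] (b : Base S M₁ M₂ h) : ∃ k, Base S M₁ M₁ k := b.symm.to_one₂

end Base

namespace Base

variable {S : Sylow 2 G} {V₁ V₂ L₁ L₂ : Subgroup G} {M₁ : FiveMod V₁ L₁} {M₂ : FiveMod V₂ L₂} {h : G}
  (b : Base S M₁ M₂ h)
include b

/-- `C_G(U_n U_a)` -/
abbrev OO (M₁ : FiveMod V₁ L₁) : Subgroup G :=
  centralizer (UU (M₁.e nn) (M₁.e aa) : Set G) ⊓ centralizer (UU (M₁.e aa) (M₁.e nn) : Set G)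

omit b in
theorem OO_norm [Finite G] {g : G} (hn : g * M₁.e nn = M₁.e nn * g) (ha : g * M₁.e aa = M₁.e aa * g) :
    g ∈ normalizer (OO M₁ : Set G) :=
  DiCoreAbs.mem_norm_of fun _ hx => mem_inf.2 ⟨cent_UU_norm hn hx.1, cent_UU_norm ha hx.2⟩

omit b in
theorem OO_tt [Finite G] {g : G} (hg : M₁.Ind g tt) : g ∈ normalizer (OO M₁ : Set G) := by
  have h1 : g⁻¹ * M₁.e aa * g = M₁.e nn := by rw [← Dih.tt_n hg]; group
  have h2 : g⁻¹ * M₁.e nn * g = M₁.e aa := by rw [← Dih.tt_a hg]; group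
  exact DiCoreAbs.mem_norm_of fun _ hx => mem_inf.2 ⟨cent_UU_conj h2 h1 hx.2, cent_UU_conj h1 h2 hx.1⟩

/-- `W_a ^ C_G(n)` and `Q_n` -/
def FF (V₁ V₂ : Subgroup G) (M₁ : FiveMod V₁ L₁) : Set G :=
  {x | ∃ g, g * M₁.e nn = M₁.e nn * g ∧ ∃ w ∈ WW V₁ V₂ (M₁.e aa), x = g * w * g⁻¹} ∪
    {x | x ∈ Q (M₁.e nn)}

variable [Finite G]

theorem gen_le : L₁ ≤ closure (FF V₁ V₂ M₁ ∪ (normalizer (OO M₁ : Set G) : Set G)) := by
  set K₀ := closure (FF V₁ V₂ M₁ ∪ (normalizer (OO M₁ : Set G) : Set G)) with hK₀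
  let H : Subgroup (Equiv.Perm (Fin 5)) :=
    { carrier := {p | ∃ g ∈ K₀, M₁.Ind g p}
      one_mem' := ⟨1, one_mem _, M₁.ind_one⟩
      mul_mem' := by
        rintro p q ⟨g, hg, hi⟩ ⟨g', hg', hi'⟩
        exact ⟨g * g', mul_mem hg hg', hi.mul hi'⟩
      inv_mem' := by
        rintro p ⟨g, hg, hi⟩
        exact ⟨g⁻¹, inv_mem hg, hi.inv⟩ }
  obtain ⟨w, hw, hwi⟩ := b.exists_move_a₁
  have e1 : Equiv.swap 3 2 ∈ H := by
    refine ⟨w, subset_closure (Or.inl (Or.inl ⟨1, by rw [one_mul, mul_one], w, hw, by group⟩)), ?_⟩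
    rw [Equiv.swap_comm]; exact hwi
  have e2 : Equiv.swap 4 3 ∈ H := by
    obtain ⟨g, -, hg⟩ := M₁.exists_lift (Equiv.swap 2 4)
    refine ⟨g * w * g⁻¹, subset_closure (Or.inl (Or.inl ⟨g, (hg.commute_iff _).2 (Or.inl (by decide)), w, hw,
      rfl⟩)), ?_⟩
    have h1 := (hg.mul hwi).mul hg.inv
    rwa [show Equiv.swap (2 : Fin 5) 4 * Equiv.swap 2 3 * (Equiv.swap 2 4)⁻¹ = Equiv.swap 4 3 by decide] at h1
  obtain ⟨k, hkS, hk⟩ := b.dih₁.exists_swap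
  have e0 : tt ∈ H := ⟨k, subset_closure (Or.inr (OO_tt hk)), hk⟩
  have e3 : Equiv.swap 1 4 ∈ H := by
    have h1 := H.mul_mem (H.mul_mem e0 e2) (H.inv_mem e0)
    rwa [show tt * Equiv.swap 4 3 * tt⁻¹ = Equiv.swap 1 4 by decide] at h1
  have e4 : Equiv.swap 0 1 ∈ H := by
    have h1 := H.mul_mem (H.mul_mem e0 e1) (H.inv_mem e0)
    rwa [show tt * Equiv.swap 3 2 * tt⁻¹ = Equiv.swap 0 1 by decide] at h1
  have hH := perm_top e4 e3 e2 e1
  intro l hl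
  obtain ⟨p, hp⟩ := M₁.exists_ind hl
  obtain ⟨g, hg, hi⟩ : p ∈ H := by rw [hH]; exact mem_top _
  have h1 := hp.mul hi.inv
  rw [mul_inv_cancel] at h1
  have h2 := FiveMod.ind_one_iff.1 h1
  have h3 : l * g⁻¹ ∈ K₀ := by
    refine subset_closure (Or.inr (OO_norm ?_ ?_))
    · exact (mem_centralizer_iff.1 h2 _ (M₁.e_mem _)).symm
    · exact (mem_centralizer_iff.1 h2 _ (M₁.e_mem _)).symm
  have h4 := mul_mem h3 hg
  rwa [inv_mul_cancel_right] at h4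

/-- **(2.4)** -/
theorem core_std {l f : G} (hl : l ∈ L₁) (hf : f ∈ WW V₁ V₂ (M₁.e nn))
    (h1 : ∀ y ∈ UU (M₁.e nn) (M₁.e aa), l * f * l⁻¹ * y = y * (l * f * l⁻¹))
    (h2 : ∀ y ∈ UU (M₁.e aa) (M₁.e nn), l * f * l⁻¹ * y = y * (l * f * l⁻¹)) :
    l * f * l⁻¹ ∈ Q (M₁.e nn) := by
  have hWT : ∀ {w : G}, w ∈ WW V₁ V₂ (M₁.e aa) → w * M₁.e nn = M₁.e nn * w := fun hw =>
    mem_C.1 (b.Qa_le_T (b.WWa_le_Qa hw)).2
  have hCN : centralizer (UU (M₁.e nn) (M₁.e aa) : Set G) ≤ centralizer ({M₁.e nn} : Set G) :=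
    b.centralizer_UU_le.trans inf_le_left
  have hCa : ∀ {x : G}, x ∈ centralizer (UU (M₁.e nn) (M₁.e aa) : Set G) → x * M₁.e aa = M₁.e aa * x :=
    fun hx => mem_C.1 (b.centralizer_UU_le hx).2
  have hQf : f ∈ Q (M₁.e nn) := b.WW_le_Q hf
  obtain ⟨k, hk⟩ := o2_isPGroup _ ⟨f, hQf⟩
  have hk' : f ^ 2 ^ k = 1 := congrArg Subtype.val hk
  refine DiCoreAbs.core_abs (N := centralizer ({M₁.e nn} : Set G))
    (C := centralizer (UU (M₁.e nn) (M₁.e aa) : Set G)) (O := OO M₁) (L := L₁) (F := FF V₁ V₂ M₁) hCN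
    b.normalizer_centralizer_UU inf_le_left ?_ ?_ ?_ ?_ (b.gen_le) hl (Or.inr hQf) rfl ?_ (k := k) ?_
  · intro g hg
    exact OO_norm (mem_C.1 (hCN hg)) (hCa hg)
  · intro g hg
    exact OO_norm (mem_C.1 (b.Q_le_T hg).2) (b.a_comm_Q hg)
  · rintro _ (⟨g, hg, w, hw, rfl⟩ | hx)
    · exact mul_mem (mul_mem (mem_C.2 hg) (mem_C.2 (hWT hw))) (inv_mem (mem_C.2 hg))
    · exact o2_le _ hx
  · rintro _ (⟨g, hg, w, hw, rfl⟩ | hx) c hc
    · have hc' : g⁻¹ * c * g ∈ centralizer (UU (M₁.e nn) (M₁.e aa) : Set G) := by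
        have hg' : g⁻¹ * M₁.e nn = M₁.e nn * g⁻¹ := by
          rw [inv_mul_eq_iff_eq_mul, ← mul_assoc, hg, mul_inv_cancel_right]
        have := cent_UU_norm hg' hc.1
        rwa [inv_inv] at this
      set c' := g⁻¹ * c * g with hc'd
      have h3 : w * c' * w⁻¹ * c'⁻¹ ∈ Q (M₁.e nn) := by
        refine b.WWa_inf_centralizer_le (mem_inf.2 ⟨?_, ?_⟩)
        · have h4 := WW_norm (hCa hc') (inv_mem hw)
          have h5 : w * c' * w⁻¹ * c'⁻¹ = w * (c' * w⁻¹ * c'⁻¹) := by group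
          rw [h5]
          exact mul_mem hw h4
        · exact mul_mem (cent_UU_norm (hWT hw) hc') (inv_mem hc')
      have h4 := b.Q_conj hg h3
      have h5 : g * (w * c' * w⁻¹ * c'⁻¹) * g⁻¹ = g * w * g⁻¹ * c * (g * w * g⁻¹)⁻¹ * c⁻¹ := by
        rw [hc'd]; group
      rwa [h5] at h4
    · rename_i x
      have h3 := b.Q_conj (mem_C.1 (hCN hc.1)) (inv_mem hx)
      have h4 : x * c * x⁻¹ * c⁻¹ = x * (c * x⁻¹ * c⁻¹) := by group
      rw [h4]
      exact mul_mem hx h3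
  · exact mem_inf.2 ⟨mem_centralizer_iff.2 fun y hy => (h1 y hy).symm,
      mem_centralizer_iff.2 fun y hy => (h2 y hy).symm⟩
  · have h3 : (l * f * l⁻¹) ^ 2 ^ k = l * f ^ 2 ^ k * l⁻¹ := conj_pow
    rw [h3, hk', mul_one, mul_inv_cancel]

end Base

namespace Base

variable [Finite G] {S : Sylow 2 G} {V₁ V₂ L₁ L₂ : Subgroup G} {M₁ : FiveMod V₁ L₁}
  {M₂ : FiveMod V₂ L₂} {h : G} (b : Base S M₁ M₂ h)
include b

/-- **(1.5)** `[C_G(U_n), W_a] ≤ Q_n` -/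
theorem cw {c x : G} (hc : ∀ u ∈ UU (M₁.e nn) (M₁.e aa), c * u = u * c)
    (hx : x ∈ WW V₁ V₂ (M₁.e aa)) : c * x * c⁻¹ * x⁻¹ ∈ Q (M₁.e nn) := by
  have hcC : c ∈ centralizer (UU (M₁.e nn) (M₁.e aa) : Set G) :=
    mem_centralizer_iff.2 fun u hu => (hc u hu).symm
  refine b.WWa_inf_centralizer_le (mem_inf.2 ⟨?_, ?_⟩)
  · exact mul_mem (WW_norm (hc _ (mem_UU_self _ _)) hx) (inv_mem hx)
  · have h1 : x ∈ normalizer (centralizer (UU (M₁.e nn) (M₁.e aa) : Set G) : Set G) :=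
      b.normalizer_centralizer_UU (b.Qa_le_T (b.WWa_le_Qa hx)).2
    have h2 := (mem_normalizer_iff.1 h1 _).1 (inv_mem hcC)
    have e : c * x * c⁻¹ * x⁻¹ = c * (x * c⁻¹ * x⁻¹) := by group
    rw [e]
    exact mul_mem hcC h2

/-- **(3.4)** `g ∈ C_G(n)`, `[g, U_n] ≤ ⟨n⟩` ⟹ `[g, U_n] = 1`. -/
theorem faith {g : G} (hgn : g * M₁.e nn = M₁.e nn * g)
    (hg : ∀ u ∈ UU (M₁.e nn) (M₁.e aa), g * u * g⁻¹ * u⁻¹ = 1 ∨ g * u * g⁻¹ * u⁻¹ = M₁.e nn)
    {u : G} (hu : u ∈ UU (M₁.e nn) (M₁.e aa)) : g * u = u * g :=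
  dn_centralizes (n := M₁.e nn) (M₁.e_sq nn) (S.isPGroup'.to_le inf_le_left) inf_le_right b.not_dvd
    (fun _ ht => b.dih₁.T_comm_a ht) ⟨hgn, hg⟩ hu

end Base

end Cfsg.Agent.Omega.TTn.Z

namespace Cfsg.Agent.Omega.TTn.Z.Di

open Subgroup Cfsg Cfsg.Agent.ZN
open Cfsg.Agent.Omega.S5.Mod Cfsg.Agent.Omega.S5.TT
open Cfsg.Agent.Omega.S5.TT.Pos (n_ne a_ne n_ne_a e_sq' mem_C sn ns)
open Cfsg.Agent.MinSimple.VModule (o2_isPGroup le_o2 o2_le le_normalizer_o2 o2_le_of_sylow)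
open Cfsg.Agent.Omega.TTn.Di

universe u

variable {G : Type u} [Group G]

variable {S : Sylow 2 G} {V L : Subgroup G} {M : FiveMod V L} {h : G}

section base

variable (b : Base S M M h)
include b

variable [Finite G]

theorem UP_zero_one : UP M 0 1 = UU (M.e nn) (M.e aa) := by
  refine le_antisymm (UP_le fun g hg x hx => ?_) (UU_le ?_ fun g hg => ?_)
  · rw [sv01] at hg
    exact UU_norm hg (b.perp_mem₁ hx)
  · exact e_mem_UP (by decide)
  · rw [← sv01] at hg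
    exact mem_UP hg (by decide)

/-- reduction to the labels `0`, `1` -/
theorem UP_zero {p : Equiv.Perm (Fin 5)} {l u : G} (hl : M.Ind l p) (hu : u ∈ UP M (p 0) (p 1)) :
    l⁻¹ * u * l ∈ UU (M.e nn) (M.e aa) := by
  rw [← UP_zero_one b, ← UP_conj_iff hl]
  have : l * (l⁻¹ * u * l) * l⁻¹ = u := by group
  rwa [this]

theorem U_comm_Q {i j : Fin 5} (hij : i ≠ j) {q u : G} (hq : q ∈ QP M i j) (hu : u ∈ UP M i j) :
    q * u = u * q := by
  obtain ⟨p, rfl, rfl⟩ := exists_perm2 hij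
  obtain ⟨l, -, hl⟩ := M.exists_lift p
  have hl : M.Ind l p := hl
  have eq' : q = l * (l⁻¹ * q * l) * l⁻¹ := by group
  have eu : u = l * (l⁻¹ * u * l) * l⁻¹ := by group
  rw [eq', eu, comm_conj_iff]
  refine (b.UU_comm_Q ?_ ?_).symm
  · rw [← UP_zero_one b, ← UP_conj_iff hl, ← eu]; exact hu
  · rw [← QP01, ← QP_conj_iff hl, ← eq']; exact hq

theorem U_le_Q {i j : Fin 5} (hij : i ≠ j) : UP M i j ≤ QP M i j := by
  obtain ⟨p, rfl, rfl⟩ := exists_perm2 hij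
  obtain ⟨l, -, hl⟩ := M.exists_lift p
  have hl : M.Ind l p := hl
  intro u hu
  have eu : u = l * (l⁻¹ * u * l) * l⁻¹ := by group
  rw [eu, QP_conj_iff hl, QP01]
  refine b.UU_le_Q ?_
  rw [← UP_zero_one b, ← UP_conj_iff hl, ← eu]; exact hu

theorem W_le_Q {i j : Fin 5} (hij : i ≠ j) : WP M i j ≤ QP M i j := by
  obtain ⟨p, rfl, rfl⟩ := exists_perm2 hij
  obtain ⟨l, -, hl⟩ := M.exists_lift p
  have hl : M.Ind l p := hl
  intro u hu
  have eu : u = l * (l⁻¹ * u * l) * l⁻¹ := by group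
  rw [eu, QP_conj_iff hl, QP01]
  refine b.WW_le_Q ?_
  rw [← WP01, ← WP_conj_iff hl, ← eu]; exact hu

theorem V_le_QP {i j : Fin 5} (hij : i ≠ j) : V ≤ QP M i j :=
  (le_WW₁ V V _).trans (W_le_Q b hij)

theorem U_le_C {i j : Fin 5} (hij : i ≠ j) : UP M i j ≤ centralizer (V : Set G) := by
  intro u hu
  rw [mem_centralizer_iff]
  intro v hv
  exact U_comm_Q b hij (V_le_QP b hij hv) hu

theorem U_sq {i j : Fin 5} (hij : i ≠ j) {u : G} (hu : u ∈ UP M i j) : u * u = 1 := by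
  obtain ⟨p, rfl, rfl⟩ := exists_perm2 hij
  obtain ⟨l, -, hl⟩ := M.exists_lift p
  have hl : M.Ind l p := hl
  have h1 := b.UU_sq (u := l⁻¹ * u * l) (by
    rw [← UP_zero_one b, ← UP_conj_iff hl]
    have : l * (l⁻¹ * u * l) * l⁻¹ = u := by group
    rwa [this])
  have h2 : l⁻¹ * u * l * (l⁻¹ * u * l) = l⁻¹ * (u * u) * l := by group
  rw [h2] at h1
  have h3 := congrArg (fun t => l * t * l⁻¹) h1
  simpa [mul_assoc] using h3

theorem QW_comm {i j : Fin 5} (hij : i ≠ j) {q x : G} (hq : q ∈ QP M i j) (hx : x ∈ WP M i j) :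
    cm q x = 1 ∨ cm q x = sv M i * sv M j := by
  obtain ⟨p, rfl, rfl⟩ := exists_perm2 hij
  obtain ⟨l, -, hl⟩ := M.exists_lift p
  have hl : M.Ind l p := hl
  have eq' : q = l * (l⁻¹ * q * l) * l⁻¹ := by group
  have ex : x = l * (l⁻¹ * x * l) * l⁻¹ := by group
  have h1 : l⁻¹ * x * l ∈ WW V V (M.e nn) := by
    rw [← WP01, ← WP_conj_iff hl, ← ex]; exact hx
  have h2 : l⁻¹ * q * l ∈ Q (M.e nn) := by
    rw [← QP01, ← QP_conj_iff hl, ← eq']; exact hq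
  have h3 := b.WW_comm h1 h2
  rw [eq', ex, ← cm_conj, ← svsv_conj hl, sv01]
  have h4 : cm (l⁻¹ * q * l) (l⁻¹ * x * l) =
      (l⁻¹ * x * l * (l⁻¹ * q * l) * (l⁻¹ * x * l)⁻¹ * (l⁻¹ * q * l)⁻¹)⁻¹ := by
    unfold cm; group
  rcases h3 with h3 | h3
  · left; rw [h4, h3]; group
  · right; rw [h4, h3, M.e_inv]

/-- squares in `W n` -/
theorem WW_sq {x : G} (hx : x ∈ WW V V (M.e nn)) : x * x = 1 ∨ x * x = M.e nn := by
  have hn : ∀ {y : G}, y ∈ Q (M.e nn) → y * M.e nn = M.e nn * y := fun hy => mem_C.1 (o2_le _ hy)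
  induction hx using closure_induction with
  | mem y hy =>
    obtain ⟨g, hg, v, hv, rfl⟩ := hy
    left
    have hv' : v ∈ V := hv.elim id id
    have h1 : g * v * g⁻¹ * (g * v * g⁻¹) = g * (v * v) * g⁻¹ := by group
    rw [h1, M.sq hv']; group
  | one => left; group
  | mul x y hx hy h1 h2 =>
    have hxQ : x ∈ Q (M.e nn) := b.WW_le_Q hx
    have hyQ : y ∈ Q (M.e nn) := b.WW_le_Q hy
    have h3 := b.WW_comm hy hxQ
    have e : x * y * (x * y) = x * (y * x * y⁻¹ * x⁻¹) * x⁻¹ * (x * x) * (y * y) := by group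
    have h4 : x * (y * x * y⁻¹ * x⁻¹) * x⁻¹ = y * x * y⁻¹ * x⁻¹ := by
      rcases h3 with h3 | h3
      · rw [h3]; group
      · rw [h3, hn hxQ, mul_inv_cancel_right]
    rw [e, h4]
    rcases h1 with h1 | h1 <;> rcases h2 with h2 | h2 <;> rcases h3 with h3 | h3 <;> rw [h1, h2, h3] <;>
      simp [M.e_sq]
  | inv x hx h1 =>
    have e : x⁻¹ * x⁻¹ = (x * x)⁻¹ := by group
    rw [e]
    rcases h1 with h1 | h1
    · left; rw [h1]; group
    · right; rw [h1, M.e_inv]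

theorem W_sq {i j : Fin 5} (hij : i ≠ j) {x : G} (hx : x ∈ WP M i j) : x * x = 1 ∨ x * x = sv M i * sv M j := by
  obtain ⟨p, rfl, rfl⟩ := exists_perm2 hij
  obtain ⟨l, -, hl⟩ := M.exists_lift p
  have hl : M.Ind l p := hl
  have ex : x = l * (l⁻¹ * x * l) * l⁻¹ := by group
  have h1 : l⁻¹ * x * l ∈ WW V V (M.e nn) := by
    rw [← WP01, ← WP_conj_iff hl, ← ex]; exact hx
  have h2 := WW_sq b h1
  have e : x * x = l * (l⁻¹ * x * l * (l⁻¹ * x * l)) * l⁻¹ := by group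
  rw [e, ← svsv_conj hl, sv01]
  rcases h2 with h2 | h2
  · left; rw [h2]; group
  · right; rw [h2]

theorem sv_notMem {i j : Fin 5} (hij : i ≠ j) : sv M i ∉ UP M i j := by
  obtain ⟨p, rfl, rfl⟩ := exists_perm2 hij
  obtain ⟨l, -, hl⟩ := M.exists_lift p
  have hl : M.Ind l p := hl
  rw [← sv_conj hl, UP_conj_iff hl, UP_zero_one b]
  intro h1
  have h2 := b.perp_of_mem₁ h1
  revert h2
  decide

theorem exists_w {i j : Fin 5} (hij : i ≠ j) : ∃ w ∈ WP M i j, M.Ind w (Equiv.swap i j) := by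
  obtain ⟨p, rfl, rfl⟩ := exists_perm2 hij
  obtain ⟨l, -, hl⟩ := M.exists_lift p
  have hl : M.Ind l p := hl
  obtain ⟨w, hw, hi⟩ := b.exists_move₁
  refine ⟨l * w * l⁻¹, WP_conj hl (by rwa [WP01]), ?_⟩
  have h1 := (hl.mul hi).mul hl.inv
  have h2 : p * Equiv.swap 0 1 * p⁻¹ = Equiv.swap (p 0) (p 1) := (Equiv.swap_apply_apply p 0 1).symm
  rwa [h2] at h1

/-- The frame of #14261 from `Base` (one module) and the three facts (1.5), (2.4), (3.4), with the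
action of `w i j` on `V`. -/
theorem fr_of_ind (hI : ∀ x, (∀ i j, i ≠ j → x ∈ UP M i j) → x = 1) (hcw : CwStd M) (hcore : CoreStd M)
    (hfaith : FaithStd M) :
    ∃ w : Fin 5 → Fin 5 → G, (∀ i j, i ≠ j → M.Ind (w i j) (Equiv.swap i j)) ∧
      Fr (sv M) (UP M) (WP M) (QP M) w (centralizer (V : Set G)) := by
  have hex : ∀ i j : Fin 5, ∃ w, i ≠ j → w ∈ WP M i j ∧ M.Ind w (Equiv.swap i j) := by
    intro i j
    by_cases hij : i = j
    · exact ⟨1, fun h0 => absurd hij h0⟩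
    · obtain ⟨w, hw, hi⟩ := exists_w b hij
      exact ⟨w, fun _ => ⟨hw, hi⟩⟩
  choose w hw using hex
  refine ⟨w, fun i j hij => (hw i j hij).2, ?_⟩
  refine
    { s_sq := fun i => M.e_sq _
      s_comm := fun i j => M.e_comm _ _
      s_rel := ?_
      sK := ?_
      Ks := ?_
      Usym := UP_symm M
      Wsym := WP_symm M
      Qsym := QP_symm M
      UK := fun hij => U_le_C b hij
      KU := ?_
      KW := ?_
      Uab := ?_
      Usq := fun hij u hu => U_sq b hij hu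
      UQ := fun hij => U_le_Q b hij
      UQc := fun hij q hq u hu => U_comm_Q b hij hq hu
      WQ := fun hij => W_le_Q b hij
      QW := fun hij q hq x hx => QW_comm b hij hq hx
      Wsq := fun hij x hx => W_sq b hij hx
      sU := ?_
      sU' := fun hij => sv_notMem b hij
      wW := fun hij => (hw _ _ hij).1
      w1 := ?_
      w2 := ?_
      w3 := ?_
      cw := fun h5 => hcw.gen h5
      core := fun h5 => hcore.gen h5
      inter := fun x hx => hI x hx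
      faith := fun hij => hfaith.gen hij }
  · intro i j k l m h5
    obtain ⟨p, rfl, rfl, rfl, rfl, rfl⟩ := exists_perm5 h5
    unfold sv
    rw [← M.e_add, ← M.e_add, ← M.e_add, ← M.e_add]
    have h1 : ((Pi.single (p 0) 1 + Pi.single (p 1) 1 + Pi.single (p 2) 1 + Pi.single (p 3) 1 +
        Pi.single (p 4) 1 : Vec)) = 1 := by
      funext x
      obtain ⟨y, rfl⟩ := p.surjective x
      simp only [Pi.add_apply, Pi.single_apply, p.injective.eq_iff, Pi.one_apply]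
      fin_cases y <;> simp
    rw [h1, M.e_one]
  · intro i
    rw [mem_centralizer_iff]
    exact fun v hv => M.comm hv (M.e_mem _)
  · intro i g hg
    exact (mem_centralizer_iff.1 hg _ (M.e_mem _)).symm
  · intro i j hij g hg u hu
    refine UP_norm ?_ hu
    have h1 := (mem_centralizer_iff.1 hg _ (M.e_mem (Pi.single i 1))).symm
    have h2 := (mem_centralizer_iff.1 hg _ (M.e_mem (Pi.single j 1))).symm
    unfold sv
    rw [← mul_assoc, h1, mul_assoc, h2, ← mul_assoc]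
  · intro i j hij g hg u hu
    refine WW_norm ?_ hu
    have h1 := (mem_centralizer_iff.1 hg _ (M.e_mem (Pi.single i 1))).symm
    have h2 := (mem_centralizer_iff.1 hg _ (M.e_mem (Pi.single j 1))).symm
    unfold sv
    rw [← mul_assoc, h1, mul_assoc, h2, ← mul_assoc]
  · intro i j hij u hu v hv
    exact U_comm_Q b hij (U_le_Q b hij hu) hv
  · intro i j k hij hki hkj
    refine e_mem_UP ?_
    rw [Pi.single_eq_of_ne hki.symm, Pi.single_eq_of_ne hkj.symm]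
  · intro i j k hij hki hkj u hu
    have h1 := UP_conj (hw _ _ hij).2 hu
    rw [Equiv.swap_apply_left, Equiv.swap_apply_of_ne_of_ne hki hkj] at h1
    exact h1
  · intro i j k hij hki hkj u hu
    have h1 := UP_conj (hw _ _ hij).2 hu
    rw [Equiv.swap_apply_right, Equiv.swap_apply_of_ne_of_ne hki hkj] at h1
    exact h1
  · intro i j k l hij hki hkj hli hlj hkl u hu
    have h1 := UP_conj (hw _ _ hij).2 hu
    rw [Equiv.swap_apply_of_ne_of_ne hki hkj, Equiv.swap_apply_of_ne_of_ne hli hlj] at h1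
    exact h1

end base

theorem UP_two_three_le [Finite G] (b : Base S M M h) : UU (M.e aa) (M.e nn) ≤ UP M 2 3 := by
  intro y hy
  obtain ⟨k, -, hk⟩ := b.dih₁.exists_swap
  have h1 : k⁻¹ * M.e aa * k⁻¹⁻¹ = M.e nn := by rw [← Dih.tt_n hk]; group
  have h2 : k⁻¹ * M.e nn * k⁻¹⁻¹ = M.e aa := by rw [← Dih.tt_a hk]; group
  have h3 := UU_conj k⁻¹ hy
  rw [h1, h2, ← UP_zero_one b] at h3
  have h4 := UP_conj hk h3
  have h5 : k * (k⁻¹ * y * k⁻¹⁻¹) * k⁻¹ = y := by group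
  rw [h5] at h4
  exact h4

/-- (2.4) -/
theorem coreStd [Finite G] (b : Base S M M h) : CoreStd M := by
  intro c hc h1 h2
  obtain ⟨p, p0, p1⟩ := exists_perm2 (i := (1 : Fin 5)) (j := 2) (by decide)
  obtain ⟨l, hlL, hl⟩ := M.exists_lift p
  have ec : c = l * (l⁻¹ * c * l) * l⁻¹ := by group
  have hf : l⁻¹ * c * l ∈ WW V V (M.e nn) := by
    rw [← WP01, ← WP_conj_iff hl, ← ec, p0, p1]
    exact hc
  rw [QP01, ec]
  refine b.core_std hlL hf (fun y hy => ?_) fun y hy => ?_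
  · rw [← ec]
    exact h1 y (by rw [UP_zero_one b]; exact hy)
  · rw [← ec]
    exact h2 y (UP_two_three_le b hy)

theorem cwStd [Finite G] (b : Base S M M h) : CwStd M := by
  intro c hc x hx
  rw [QP01]
  rw [WP23] at hx
  exact b.cw (fun u hu => hc u (by rwa [UP_zero_one b])) hx

theorem faithStd [Finite G] (b : Base S M M h) : FaithStd M := by
  intro g hg h1 u hu
  rw [UP_zero_one b] at hu
  refine b.faith ?_ (fun v hv => ?_) hu
  · exact (mem_centralizer_iff.1 hg _ (M.e_mem _)).symm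
  · have h2 := h1 v (by rwa [UP_zero_one b])
    rw [sv01] at h2
    exact h2

/-- `U i j` is generated by `s i s j` and the `C_G(s i s j)`-conjugates of `s m`. -/
theorem UP_gen [Finite G] (b : Base S M M h) {i j k l m : Fin 5} (h5 : D5 i j k l m) :
    UP M i j ≤ closure {x | x = sv M i * sv M j ∨
      ∃ g, g * (sv M i * sv M j) = sv M i * sv M j * g ∧ x = cj g (sv M m)} := by
  obtain ⟨p, rfl, rfl, rfl, rfl, rfl⟩ := exists_perm5 h5
  obtain ⟨l, -, hl⟩ := M.exists_lift p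
  have hl : M.Ind l p := hl
  set H := closure {x | x = sv M (p 0) * sv M (p 1) ∨
    ∃ g, g * (sv M (p 0) * sv M (p 1)) = sv M (p 0) * sv M (p 1) * g ∧ x = cj g (sv M (p 4))} with hH
  have key : UU (M.e nn) (M.e aa) ≤ ZN.ChoiceBase.cj l⁻¹ H := by
    have hnH : sv M (p 0) * sv M (p 1) ∈ H := subset_closure (Or.inl rfl)
    refine UU_le ?_ fun g hg => ?_
    · rw [ZN.ChoiceBase.mem_cj, inv_inv, ← sv01, svsv_conj hl]
      exact hnH
    · rw [ZN.ChoiceBase.mem_cj, inv_inv]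
      have hg' : g * (sv M 0 * sv M 1) = sv M 0 * sv M 1 * g := by rw [sv01]; exact hg
      have h1 : l * (g * M.e aa * g⁻¹) * l⁻¹ =
          sv M (p 0) * sv M (p 1) * cj (l * g * l⁻¹) (sv M (p 4)) := by
        rw [← ns M, ← sv4, ← svsv_conj hl, ← sv_conj hl, ← sv01]
        unfold cj
        calc l * (g * (sv M 0 * sv M 1 * sv M 4) * g⁻¹) * l⁻¹ =
            l * ((g * (sv M 0 * sv M 1)) * sv M 4 * g⁻¹) * l⁻¹ := by group
          _ = l * ((sv M 0 * sv M 1 * g) * sv M 4 * g⁻¹) * l⁻¹ := by rw [hg']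
          _ = _ := by group
      rw [h1]
      refine H.mul_mem hnH (subset_closure (Or.inr ⟨_, ?_, rfl⟩))
      rw [← svsv_conj hl]
      calc l * g * l⁻¹ * (l * (sv M 0 * sv M 1) * l⁻¹) = l * (g * (sv M 0 * sv M 1)) * l⁻¹ := by group
        _ = l * (sv M 0 * sv M 1 * g) * l⁻¹ := by rw [hg']
        _ = _ := by group
  intro u hu
  have h1 := key (UP_zero b hl hu)
  rw [ZN.ChoiceBase.mem_cj, inv_inv] at h1
  have h2 : l * (l⁻¹ * u * l) * l⁻¹ = u := by group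
  rwa [h2] at h1

theorem cj_ne (b : Base S M M h) {i j k l m : Fin 5} (h5 : D5 i j k l m) (g : G) :
    cj g (sv M m) ≠ sv M k * sv M l := by
  obtain ⟨p, rfl, rfl, rfl, rfl, rfl⟩ := exists_perm5 h5
  obtain ⟨l, -, hl⟩ := M.exists_lift p
  have hl : M.Ind l p := hl
  rw [← svsv_conj hl, ← sv_conj hl, sv4, sv23]
  intro h0
  refine b.conj_a_ne_s (l⁻¹ * g⁻¹ * l) ?_
  unfold cj at h0
  calc l⁻¹ * g⁻¹ * l * M.e aa * (l⁻¹ * g⁻¹ * l)⁻¹ = l⁻¹ * g⁻¹ * (l * M.e aa * l⁻¹) * g * l := by group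
    _ = l⁻¹ * g⁻¹ * (g * (l * M.e ss * l⁻¹) * g⁻¹) * g * l := by rw [h0]
    _ = M.e ss := by group

/-- The frame `FrN` from `Base`. -/
theorem frN_of [Finite G] (b : Base S M M h) (hI : ∀ x, (∀ i j, i ≠ j → x ∈ UP M i j) → x = 1) :
    ∃ w, FrN (sv M) (UP M) (WP M) (QP M) w (centralizer (V : Set G)) := by
  obtain ⟨w, hw, F⟩ := fr_of_ind b hI (cwStd b) (coreStd b) (faithStd b)
  refine ⟨w, { F with
    NU := fun _ g hg u hu => UP_norm hg hu
    gen := fun h5 => UP_gen b h5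
    nc := fun h5 g => cj_ne b h5 g
    wcj := ?_
    wcj' := ?_ }⟩
  · intro i j hij
    have h1 := sv_conj (hw i j hij) i
    rwa [Equiv.swap_apply_left] at h1
  · intro i j k hij hki hkj
    have h1 := sv_conj (hw i j hij) k
    rwa [Equiv.swap_apply_of_ne_of_ne hki hkj] at h1

/-- `[U_n, U_a] = 1` -/
theorem UU_comm_UUa [Finite G] (b : Base S M M h) (hI : ∀ x, (∀ i j, i ≠ j → x ∈ UP M i j) → x = 1)
    {y z : G} (hy : y ∈ UU (M.e nn) (M.e aa))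
    (hz : z ∈ UU (M.e aa) (M.e nn)) : y * z = z * y := by
  obtain ⟨w, F⟩ := frN_of b hI
  have h5 : D5 (0 : Fin 5) 1 2 3 4 := by constructor <;> decide
  refine F.comm_of (fun H => H.kill) h5 y ?_ z ?_
  · rw [UP_zero_one b]; exact hy
  · exact UP_two_three_le b hz

/-- **#14261 (helper439)** over `Z.Base`: `U_n ≤ O₂(C_G(a))` if `⋂ U_π = 1`. -/
theorem di [Finite G] (b : Base S M M h) (hI : ∀ x, (∀ i j, i ≠ j → x ∈ UP M i j) → x = 1) :
    UU (M.e nn) (M.e aa) ≤ Q (M.e aa) := by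
  obtain ⟨h', b'⟩ := b.exists_flip
  have h1 := b'.WWa_inf_centralizer_le
  rw [Base.rel_nn, Base.rel_aa] at h1
  refine le_trans ?_ h1
  refine le_inf b.UU_le_WW fun y hy => mem_centralizer_iff.2 fun z hz => ?_
  exact (UU_comm_UUa b hI hy hz).symm

end Cfsg.Agent.Omega.TTn.Z.Di

end

section


/-!
# `BetaProp` and `S5.Main.TTNon`
-/

set_option autoImplicit false
set_option linter.unusedSectionVars false

namespace Cfsg.Agent.Omega.TTn.Beta

open Subgroup Cfsg Cfsg.Agent.ZN Cfsg.Agent.ZN.ChoiceBase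
open Cfsg.Agent.Omega.S5.Mod Cfsg.Agent.Omega.S5.TT
open Cfsg.Agent.Omega.S5.TT.Pos (na ns as sn n_ne s_ne a_ne n_ne_a mem_C)
open Cfsg.Agent.Omega.S5.ChiConst (cls)
open Cfsg.Agent.Omega.TTn.BOne

universe u

variable {G : Type u} [Group G] [Finite G] {S : Sylow 2 G} {V₁ V₂ L₁ L₂ : Subgroup G} {M₁ : FiveMod V₁ L₁}
  {M₂ : FiveMod V₂ L₂} {h : G} (b : Base S M₁ M₂ h)
include b

theorem bb_cls : M₁.e bb ∈ cls (centralizer ({M₁.e nn} : Set G)) (M₁.e aa) := by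
  obtain ⟨g, hg, -, h1⟩ := bb_mem b
  exact ⟨g, hg, h1⟩

theorem adj_bb : BZero.Adj (Fam (M₁.e nn) (WW V₁ V₂ (M₁.e nn))) (M₁.e aa) (M₁.e bb) := by
  obtain ⟨w, hw, hi⟩ := b.exists_move_a₁
  refine ⟨w, (mem_F_a' b).2 hw, ?_⟩
  rw [Ne, hi.commute_iff]
  decide

/-- **Case beta is impossible.** -/
theorem false_of (hV : V₁ ≤ Q (M₁.e ss)) (hU : UU (M₁.e nn) (M₁.e aa) ≤ Q (M₁.e aa)) : False := by
  have hC := calcN b hU
  have h1 : (1 : G) ∉ cls (centralizer ({M₁.e nn} : Set G)) (M₁.e aa) := by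
    rintro ⟨g, -, h0⟩
    refine a_ne M₁ ?_
    have h1 : g⁻¹ * 1 * g = M₁.e aa := by rw [h0]; group
    rw [← h1]; group
  have h2 : M₁.e nn ∉ cls (centralizer ({M₁.e nn} : Set G)) (M₁.e aa) := by
    rintro ⟨g, hg, h0⟩
    exact Base.conj_a_ne_n (mem_C.1 hg) h0.symm
  have h3 : M₁.e nn * M₁.e aa ∉ cls (centralizer ({M₁.e nn} : Set G)) (M₁.e aa) := by
    rintro ⟨g, hg, h0⟩
    rw [na] at h0
    exact b.conj_a_ne_s g h0.symm
  have hCon := BZero.conn hC (n := M₁.e nn) (fun g hg => mem_C.1 hg) (bb_cls b) (adj_bb b) h1 h2 h3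
    (T := (S : Subgroup G) ⊓ centralizer ({M₁.e nn} : Set G)) (S.isPGroup'.to_le inf_le_left) inf_le_right
    (fun t ht => b.dih₁.T_comm_a ht) (fun u hu hT => by rw [na]; exact b.mem_E4 hu hT)
  have hK := BZero.comm_all hC hCon (bb_cls b) (adj_bb b)
    (K := WW V₁ V₁ (M₁.e ss)) (fun y hy hya k hk => WW_norm (comm_s_of b (mem_C.1 hy) hya) hk)
    (fun k hk => E_comm b.dih₁ hV hk (le_WW₁ V₁ V₁ _ (M₁.e_mem _)))
    (fun k hk => E_comm b.dih₁ hV hk (le_WW₁ V₁ V₁ _ (M₁.e_mem _)))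
  have hE := E_le_Qn b hV hK
  exact false_of' b hV hE hU fun d hd had => BZero.conj_b hC (bb_cls b) (adj_bb b) hd had

end Cfsg.Agent.Omega.TTn.Beta

namespace Cfsg.Agent.Omega.TTn

universe u

theorem betaProp : BetaProp.{u} := by
  intro G _ _ S V L M h b hV hU
  exact Beta.false_of b hV hU

/-- **T-T, `n` not 2-central.** -/
theorem ttNon_main : Cfsg.Agent.Omega.S5.Main.TTNon.{u} := ttNon diProp betaProp

end Cfsg.Agent.Omega.TTn

end

end
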